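import Cfsg.Agent.R3.Ru.Nets

set_option autoImplicit false
set_option maxRecDepth 100000

namespace Cfsg.Agent.R3.Ru
open Cfsg.Agent.Comp Cfsg.Agent.Schur Cfsg.Agent.R3

def Q : List (Nat × List (List Nat)) :=
  [(13, [[12, 6, 6, 6, 6, 6, 6, 6, 6], [12, 11, 10, 9, 8, 7, 6, 6, 6, 6, 6, 6], [12, 11, 6, 6], [9], [9, 8], [12, 11, 9, 7, 6, 6, 6, 6, 6, 6, 6], [12, 8, 7, 7, 7, 6, 6, 6, 6]]),
   (12, [[10, 7, 7, 7, 6, 6, 6, 6, 6, 6, 6, 6, 6], [11, 10, 7, 6, 6, 6, 6, 6, 6, 6, 6], [9], [7, 7, 6, 6, 6, 6, 6, 6, 6, 6, 6, 6], [11, 9, 6, 6, 6, 6, 6, 6], [11, 10, 7, 6, 6, 6, 6, 6, 6]]),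
   (11, [[8, 7, 7, 6], [9, 8, 7, 7, 6, 6, 6, 6, 6, 6, 6, 6, 6, 6], [8], [10, 9, 7, 7, 7, 6, 6, 6, 6, 6, 6, 6, 6, 6, 6, 6, 6, 6, 6, 6], [10, 6, 6, 6, 6, 6, 6, 6, 6, 6, 6]]),
   (10, [[9, 8, 6, 6, 6, 6], [8, 7, 7, 6, 6, 6, 6, 6, 6], [9, 7, 7, 7, 6, 6], [9, 8, 6, 6, 6, 6, 6, 6, 6, 6, 6, 6, 6, 6, 6]]),
   (9, [[8], [8, 7, 6, 6, 6, 6, 6, 6, 6, 6, 6, 6, 6, 6], [8, 7, 7, 6, 6, 6, 6, 6, 6, 6, 6, 6, 6, 6]]),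
   (8, [[7, 7, 7, 6, 6, 6, 6, 6, 6], [7, 7, 6, 6, 6, 6, 6, 6, 6]]),
   (7, [[6, 6, 6, 6, 6]]),
   (6, [])]

def As1 : List (Nat × List Nat) :=
  [(1, []),
   (2, [0, 1, 2, 3, 4, 6, 2, 7, 0, 6, 2, 0]),
   (3, [0, 1, 2, 3, 6, 0, 4, 1, 0]),
   (18, [0, 1, 2, 3, 4, 5, 7, 6, 0, 3, 2, 4, 0]),
   (22, [0, 1, 2, 5, 6, 3, 1, 5]),
   (66, [0, 1, 3, 4, 0]),
   (1237, [0]),
   (1272, [2, 3, 2, 3])]

theorem eqQ : ∀ e ∈ pcE (2 ^ 4) Q, ev (sig R0) e.1 = ev (sig R0) e.2 :=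
  eqs_base ok0 all0 le Comp.Ru.base (by decide) (by decide +kernel)

theorem fixQ : invZ R0 (pcW Q) (pt 1) = true := by decide +kernel

theorem at1 : atomsB R0 (pcW Q) As1 D0 (f1 12 5 1 (pt 1)) = true := by decide +kernel

def Wq : List (List Nat) := [[16],
   [17]]

def As6 : List (Nat × List Nat) :=
  [(1756, []),
   (1757, [0, 1, 0, 1, 0, 1, 0, 1, 0, 1, 0, 1, 0, 1, 0, 1]),
   (1760, [0, 1, 0, 1, 0, 1, 0, 1, 0, 1]),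
   (1764, [0, 1, 0, 1, 0, 1, 0, 1, 0, 1, 0, 1, 0, 1, 0]),
   (1765, [0, 1, 0, 1, 0, 1, 0, 1, 0, 1, 0, 1, 0, 1, 0, 1, 0, 1]),
   (1773, [0, 1, 0, 1, 0, 1, 0, 1, 0, 1, 0, 1, 0, 1])]

theorem fixq : invZ R0 Wq (pt 1756) = true := by decide +kernel

theorem at6 : atomsB R0 Wq As6 G0 (f6 12 1755 780 1756 N) = true := by decide +kernel

def Wd : List (List Nat) := [[0],
   [1],
   [2],
   [3],
   [4]]

def As3 : List (Nat × List Nat) :=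
  [(1, []),
   (2, [0, 2, 3, 0, 2, 3, 0, 3, 0, 2, 3, 0, 3, 2, 3]),
   (18, [0, 2, 3, 0, 2, 3, 0, 2, 3, 0, 3, 2, 0, 3, 0, 0]),
   (22, [0, 2, 0, 3, 2, 3, 0, 3, 0, 3, 0]),
   (1237, [0, 2, 0, 3, 0, 2])]

theorem fixd : invZ R0 Wd (pt 1) = true := by decide +kernel

theorem at3 : atomsB R0 Wd As3 D0 (f3 12 1755 2304 1 S) = true := by decide +kernel

theorem lam : Nat.beq (popc 12 S) 730 = true := by decide +kernel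

def Y : List (Nat × List Nat) :=
  [(1237, [14, 12, 10, 16]),
   (1272, [5, 13, 14, 8]),
   (1377, [17, 7, 16]),
   (1535, [5, 0, 16, 16]),
   (1580, [5, 13, 14, 7]),
   (1689, [5, 13, 14, 6]),
   (1731, [5, 9, 1, 14]),
   (1734, [5, 0, 0, 15]),
   (1753, [5, 13, 14]),
   (1755, [5, 13, 14, 0])]

theorem quad : quadB 12 1755 2304 730 780 4 5 1 D0 S R0 Y = true := by decide +kernel


end Cfsg.Agent.R3.Ru
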