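import Cfsg.Agent.R3.Main

set_option autoImplicit false
set_option maxRecDepth 100000

namespace Cfsg.Agent.R3.Ru
open Cfsg.Agent.Comp Cfsg.Agent.Schur Cfsg.Agent.R3

def C2 : List (Nat × List Nat) :=
  [(nat_lit 1, [nat_lit 41, nat_lit 41, nat_lit 38, nat_lit 55, nat_lit 60, nat_lit 6, nat_lit 39, nat_lit 16, nat_lit 15, nat_lit 13]),
   (nat_lit 2, [nat_lit 14, nat_lit 30, nat_lit 56, nat_lit 61, nat_lit 56, nat_lit 49, nat_lit 45, nat_lit 62, nat_lit 31, nat_lit 10]),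
   (nat_lit 3, [nat_lit 0, nat_lit 29, nat_lit 45, nat_lit 31, nat_lit 49, nat_lit 59, nat_lit 59, nat_lit 47, nat_lit 44, nat_lit 40]),
   (nat_lit 4, [nat_lit 14, nat_lit 37, nat_lit 52, nat_lit 27, nat_lit 43, nat_lit 44, nat_lit 49, nat_lit 43, nat_lit 65, nat_lit 9]),
   (nat_lit 5, [nat_lit 65, nat_lit 19, nat_lit 31, nat_lit 48, nat_lit 57, nat_lit 6, nat_lit 43, nat_lit 58, nat_lit 65, nat_lit 36]),
   (nat_lit 6, [nat_lit 31, nat_lit 38, nat_lit 41, nat_lit 65, nat_lit 73, nat_lit 64, nat_lit 17, nat_lit 11, nat_lit 1, nat_lit 5]),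
   (nat_lit 7, [nat_lit 24, nat_lit 42, nat_lit 8, nat_lit 68, nat_lit 24, nat_lit 47, nat_lit 23, nat_lit 32, nat_lit 9, nat_lit 34]),
   (nat_lit 8, [nat_lit 27, nat_lit 35, nat_lit 10, nat_lit 18, nat_lit 7, nat_lit 69, nat_lit 47, nat_lit 64, nat_lit 53, nat_lit 53]),
   (nat_lit 9, [nat_lit 12, nat_lit 39, nat_lit 4, nat_lit 13, nat_lit 7, nat_lit 14, nat_lit 42, nat_lit 12, nat_lit 48, nat_lit 15]),
   (nat_lit 10, [nat_lit 53, nat_lit 2, nat_lit 8, nat_lit 74, nat_lit 56, nat_lit 69, nat_lit 16, nat_lit 51, nat_lit 14, nat_lit 58]),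
   (nat_lit 11, [nat_lit 23, nat_lit 31, nat_lit 6, nat_lit 56, nat_lit 59, nat_lit 65, nat_lit 28, nat_lit 68, nat_lit 34, nat_lit 31]),
   (nat_lit 12, [nat_lit 22, nat_lit 24, nat_lit 9, nat_lit 9, nat_lit 43, nat_lit 13, nat_lit 16, nat_lit 15, nat_lit 42, nat_lit 0]),
   (nat_lit 13, [nat_lit 41, nat_lit 18, nat_lit 12, nat_lit 36, nat_lit 28, nat_lit 9, nat_lit 47, nat_lit 51, nat_lit 44, nat_lit 1]),
   (nat_lit 14, [nat_lit 16, nat_lit 20, nat_lit 16, nat_lit 10, nat_lit 9, nat_lit 33, nat_lit 4, nat_lit 2, nat_lit 41, nat_lit 23]),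
   (nat_lit 15, [nat_lit 30, nat_lit 1, nat_lit 26, nat_lit 51, nat_lit 12, nat_lit 61, nat_lit 9, nat_lit 19, nat_lit 41, nat_lit 68]),
   (nat_lit 16, [nat_lit 14, nat_lit 1, nat_lit 33, nat_lit 56, nat_lit 43, nat_lit 14, nat_lit 12, nat_lit 10, nat_lit 55, nat_lit 23]),
   (nat_lit 17, [nat_lit 42, nat_lit 27, nat_lit 35, nat_lit 73, nat_lit 51, nat_lit 49, nat_lit 71, nat_lit 6, nat_lit 45, nat_lit 63]),
   (nat_lit 18, [nat_lit 44, nat_lit 43, nat_lit 62, nat_lit 8, nat_lit 13, nat_lit 59, nat_lit 44, nat_lit 64, nat_lit 52, nat_lit 19]),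
   (nat_lit 19, [nat_lit 15, nat_lit 65, nat_lit 18, nat_lit 54, nat_lit 28, nat_lit 44, nat_lit 47, nat_lit 46, nat_lit 5, nat_lit 51]),
   (nat_lit 20, [nat_lit 55, nat_lit 28, nat_lit 14, nat_lit 46, nat_lit 35, nat_lit 41, nat_lit 55, nat_lit 57, nat_lit 25, nat_lit 45]),
   (nat_lit 21, [nat_lit 52, nat_lit 58, nat_lit 45, nat_lit 0, nat_lit 60, nat_lit 60, nat_lit 35, nat_lit 41, nat_lit 54, nat_lit 68]),
   (nat_lit 22, [nat_lit 48, nat_lit 65, nat_lit 27, nat_lit 25, nat_lit 12, nat_lit 48, nat_lit 0, nat_lit 61, nat_lit 69, nat_lit 49]),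
   (nat_lit 23, [nat_lit 71, nat_lit 24, nat_lit 57, nat_lit 31, nat_lit 14, nat_lit 37, nat_lit 16, nat_lit 11, nat_lit 7, nat_lit 70]),
   (nat_lit 24, [nat_lit 28, nat_lit 66, nat_lit 42, nat_lit 7, nat_lit 7, nat_lit 12, nat_lit 34, nat_lit 23, nat_lit 30, nat_lit 53]),
   (nat_lit 25, [nat_lit 55, nat_lit 50, nat_lit 61, nat_lit 48, nat_lit 28, nat_lit 22, nat_lit 20, nat_lit 26, nat_lit 71, nat_lit 47]),
   (nat_lit 26, [nat_lit 61, nat_lit 64, nat_lit 56, nat_lit 36, nat_lit 48, nat_lit 29, nat_lit 25, nat_lit 61, nat_lit 66, nat_lit 15]),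
   (nat_lit 27, [nat_lit 8, nat_lit 32, nat_lit 17, nat_lit 43, nat_lit 48, nat_lit 45, nat_lit 22, nat_lit 4, nat_lit 66, nat_lit 53]),
   (nat_lit 28, [nat_lit 13, nat_lit 47, nat_lit 25, nat_lit 53, nat_lit 59, nat_lit 20, nat_lit 11, nat_lit 24, nat_lit 19, nat_lit 47]),
   (nat_lit 29, [nat_lit 44, nat_lit 62, nat_lit 56, nat_lit 46, nat_lit 33, nat_lit 26, nat_lit 62, nat_lit 42, nat_lit 70, nat_lit 3]),
   (nat_lit 30, [nat_lit 66, nat_lit 68, nat_lit 68, nat_lit 31, nat_lit 52, nat_lit 15, nat_lit 60, nat_lit 2, nat_lit 36, nat_lit 24]),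
   (nat_lit 31, [nat_lit 6, nat_lit 23, nat_lit 2, nat_lit 11, nat_lit 3, nat_lit 30, nat_lit 47, nat_lit 34, nat_lit 11, nat_lit 5]),
   (nat_lit 32, [nat_lit 66, nat_lit 68, nat_lit 61, nat_lit 27, nat_lit 40, nat_lit 38, nat_lit 57, nat_lit 66, nat_lit 7, nat_lit 35]),
   (nat_lit 33, [nat_lit 29, nat_lit 71, nat_lit 16, nat_lit 37, nat_lit 38, nat_lit 14, nat_lit 64, nat_lit 57, nat_lit 34, nat_lit 62]),
   (nat_lit 34, [nat_lit 58, nat_lit 71, nat_lit 11, nat_lit 7, nat_lit 39, nat_lit 31, nat_lit 0, nat_lit 24, nat_lit 33, nat_lit 69]),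
   (nat_lit 35, [nat_lit 66, nat_lit 17, nat_lit 60, nat_lit 55, nat_lit 53, nat_lit 21, nat_lit 8, nat_lit 20, nat_lit 49, nat_lit 32]),
   (nat_lit 36, [nat_lit 68, nat_lit 61, nat_lit 51, nat_lit 65, nat_lit 46, nat_lit 13, nat_lit 54, nat_lit 5, nat_lit 26, nat_lit 30]),
   (nat_lit 37, [nat_lit 57, nat_lit 40, nat_lit 4, nat_lit 54, nat_lit 57, nat_lit 65, nat_lit 33, nat_lit 55, nat_lit 66, nat_lit 23]),
   (nat_lit 38, [nat_lit 64, nat_lit 64, nat_lit 6, nat_lit 44, nat_lit 32, nat_lit 1, nat_lit 61, nat_lit 53, nat_lit 33, nat_lit 70]),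
   (nat_lit 39, [nat_lit 60, nat_lit 48, nat_lit 40, nat_lit 34, nat_lit 0, nat_lit 59, nat_lit 70, nat_lit 0, nat_lit 9, nat_lit 1]),
   (nat_lit 40, [nat_lit 59, nat_lit 32, nat_lit 3, nat_lit 51, nat_lit 37, nat_lit 0, nat_lit 66, nat_lit 67, nat_lit 57, nat_lit 39]),
   (nat_lit 41, [nat_lit 20, nat_lit 1, nat_lit 21, nat_lit 6, nat_lit 15, nat_lit 0, nat_lit 1, nat_lit 64, nat_lit 13, nat_lit 14]),
   (nat_lit 42, [nat_lit 62, nat_lit 24, nat_lit 7, nat_lit 29, nat_lit 63, nat_lit 9, nat_lit 17, nat_lit 46, nat_lit 12, nat_lit 54]),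
   (nat_lit 43, [nat_lit 27, nat_lit 4, nat_lit 52, nat_lit 57, nat_lit 16, nat_lit 18, nat_lit 12, nat_lit 5, nat_lit 49, nat_lit 4]),
   (nat_lit 44, [nat_lit 3, nat_lit 18, nat_lit 53, nat_lit 52, nat_lit 13, nat_lit 38, nat_lit 18, nat_lit 4, nat_lit 19, nat_lit 29]),
   (nat_lit 45, [nat_lit 59, nat_lit 20, nat_lit 60, nat_lit 2, nat_lit 27, nat_lit 21, nat_lit 17, nat_lit 56, nat_lit 55, nat_lit 3]),
   (nat_lit 46, [nat_lit 54, nat_lit 69, nat_lit 54, nat_lit 42, nat_lit 20, nat_lit 36, nat_lit 57, nat_lit 29, nat_lit 60, nat_lit 19]),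
   (nat_lit 47, [nat_lit 3, nat_lit 28, nat_lit 19, nat_lit 7, nat_lit 55, nat_lit 28, nat_lit 25, nat_lit 8, nat_lit 13, nat_lit 31]),
   (nat_lit 48, [nat_lit 49, nat_lit 25, nat_lit 39, nat_lit 58, nat_lit 22, nat_lit 9, nat_lit 27, nat_lit 5, nat_lit 26, nat_lit 22]),
   (nat_lit 49, [nat_lit 48, nat_lit 59, nat_lit 2, nat_lit 4, nat_lit 35, nat_lit 56, nat_lit 17, nat_lit 43, nat_lit 3, nat_lit 22]),
   (nat_lit 50, [nat_lit 71, nat_lit 71, nat_lit 71, nat_lit 71, nat_lit 25, nat_lit 25, nat_lit 71, nat_lit 25, nat_lit 25, nat_lit 25]),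
   (nat_lit 51, [nat_lit 67, nat_lit 36, nat_lit 19, nat_lit 74, nat_lit 71, nat_lit 15, nat_lit 17, nat_lit 10, nat_lit 13, nat_lit 40]),
   (nat_lit 52, [nat_lit 71, nat_lit 60, nat_lit 4, nat_lit 68, nat_lit 43, nat_lit 44, nat_lit 18, nat_lit 21, nat_lit 30, nat_lit 72]),
   (nat_lit 53, [nat_lit 44, nat_lit 58, nat_lit 8, nat_lit 8, nat_lit 28, nat_lit 35, nat_lit 24, nat_lit 27, nat_lit 10, nat_lit 38]),
   (nat_lit 54, [nat_lit 55, nat_lit 36, nat_lit 19, nat_lit 58, nat_lit 42, nat_lit 46, nat_lit 62, nat_lit 21, nat_lit 46, nat_lit 37]),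
   (nat_lit 55, [nat_lit 47, nat_lit 45, nat_lit 16, nat_lit 35, nat_lit 37, nat_lit 1, nat_lit 54, nat_lit 20, nat_lit 20, nat_lit 25]),
   (nat_lit 56, [nat_lit 16, nat_lit 29, nat_lit 45, nat_lit 11, nat_lit 49, nat_lit 2, nat_lit 2, nat_lit 68, nat_lit 26, nat_lit 10]),
   (nat_lit 57, [nat_lit 23, nat_lit 5, nat_lit 46, nat_lit 33, nat_lit 32, nat_lit 20, nat_lit 40, nat_lit 37, nat_lit 43, nat_lit 37]),
   (nat_lit 58, [nat_lit 54, nat_lit 70, nat_lit 5, nat_lit 53, nat_lit 34, nat_lit 48, nat_lit 69, nat_lit 10, nat_lit 69, nat_lit 21]),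
   (nat_lit 59, [nat_lit 40, nat_lit 28, nat_lit 49, nat_lit 62, nat_lit 45, nat_lit 3, nat_lit 3, nat_lit 18, nat_lit 11, nat_lit 39]),
   (nat_lit 60, [nat_lit 46, nat_lit 52, nat_lit 45, nat_lit 21, nat_lit 1, nat_lit 21, nat_lit 39, nat_lit 35, nat_lit 30, nat_lit 69]),
   (nat_lit 61, [nat_lit 32, nat_lit 26, nat_lit 26, nat_lit 62, nat_lit 25, nat_lit 15, nat_lit 22, nat_lit 2, nat_lit 36, nat_lit 38]),
   (nat_lit 62, [nat_lit 54, nat_lit 61, nat_lit 29, nat_lit 59, nat_lit 33, nat_lit 70, nat_lit 29, nat_lit 18, nat_lit 2, nat_lit 42]),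
   (nat_lit 63, [nat_lit 42, nat_lit 17, nat_lit 17, nat_lit 42, nat_lit 42, nat_lit 42, nat_lit 17, nat_lit 17, nat_lit 42, nat_lit 17]),
   (nat_lit 64, [nat_lit 41, nat_lit 70, nat_lit 18, nat_lit 33, nat_lit 26, nat_lit 8, nat_lit 66, nat_lit 38, nat_lit 38, nat_lit 6]),
   (nat_lit 65, [nat_lit 19, nat_lit 6, nat_lit 4, nat_lit 22, nat_lit 5, nat_lit 37, nat_lit 36, nat_lit 69, nat_lit 11, nat_lit 5]),
   (nat_lit 66, [nat_lit 64, nat_lit 40, nat_lit 32, nat_lit 27, nat_lit 24, nat_lit 35, nat_lit 30, nat_lit 32, nat_lit 37, nat_lit 26]),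
   (nat_lit 67, [nat_lit 40, nat_lit 51, nat_lit 40, nat_lit 40, nat_lit 51, nat_lit 51, nat_lit 40, nat_lit 51, nat_lit 40, nat_lit 51]),
   (nat_lit 68, [nat_lit 15, nat_lit 36, nat_lit 21, nat_lit 32, nat_lit 56, nat_lit 52, nat_lit 11, nat_lit 7, nat_lit 30, nat_lit 30]),
   (nat_lit 69, [nat_lit 58, nat_lit 22, nat_lit 34, nat_lit 8, nat_lit 46, nat_lit 58, nat_lit 60, nat_lit 10, nat_lit 65, nat_lit 70]),
   (nat_lit 70, [nat_lit 71, nat_lit 0, nat_lit 64, nat_lit 69, nat_lit 62, nat_lit 38, nat_lit 29, nat_lit 58, nat_lit 39, nat_lit 23]),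
   (nat_lit 71, [nat_lit 70, nat_lit 25, nat_lit 33, nat_lit 17, nat_lit 72, nat_lit 34, nat_lit 52, nat_lit 51, nat_lit 50, nat_lit 23]),
   (nat_lit 72, [nat_lit 52, nat_lit 71, nat_lit 52, nat_lit 52, nat_lit 71, nat_lit 71, nat_lit 52, nat_lit 71, nat_lit 52, nat_lit 71]),
   (nat_lit 73, [nat_lit 17, nat_lit 17, nat_lit 6, nat_lit 17, nat_lit 17, nat_lit 17, nat_lit 6, nat_lit 6, nat_lit 6, nat_lit 6]),
   (nat_lit 74, [nat_lit 10, nat_lit 10, nat_lit 51, nat_lit 51, nat_lit 10, nat_lit 10, nat_lit 51, nat_lit 10, nat_lit 51, nat_lit 51])]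

def S2 : List Nat := [nat_lit 0x709b374cde096201f55, nat_lit 0x71983f555e0c2541f45, nat_lit 0x70af3348fa0372005f7, nat_lit 0x71ac3b517a0635405e7, nat_lit 0x72dbc54cd4196215e58, nat_lit 0x73d8cd55541c2555e48, nat_lit 0x72efc148f01372144fa, nat_lit 0x73ecc951701635544ea]

open Dt in
noncomputable def t0 : Dt :=
(br (nat_lit 45) (br (nat_lit 49) (lf (nat_lit 16))
(br (nat_lit 0) (br (nat_lit 3) (br (nat_lit 32) (lf (nat_lit 39))
(br (nat_lit 37) (lf (nat_lit 39))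
(br (nat_lit 24) (br (nat_lit 26) (br (nat_lit 30) (br (nat_lit 5) (lf (nat_lit 35))
(br (nat_lit 4) (br (nat_lit 11) (br (nat_lit 2) (lf (nat_lit 30))
(br (nat_lit 7) (lf (nat_lit 33))
(br (nat_lit 18) (lf (nat_lit 51))
(br (nat_lit 20) (br (nat_lit 21) (lf (nat_lit 51))
(br (nat_lit 22) (lf (nat_lit 24))
(lf (nat_lit 64))))
(lf (nat_lit 56))))))
(lf (nat_lit 64)))
(lf (nat_lit 64))))
(lf (nat_lit 65)))
(lf (nat_lit 65)))
(lf (nat_lit 65)))))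
(br (nat_lit 39) (br (nat_lit 29) (lf (nat_lit 69))
(br (nat_lit 32) (lf (nat_lit 39))
(br (nat_lit 37) (lf (nat_lit 39))
(br (nat_lit 24) (br (nat_lit 7) (lf (nat_lit 33))
(br (nat_lit 11) (lf (nat_lit 33))
(br (nat_lit 5) (br (nat_lit 21) (br (nat_lit 26) (br (nat_lit 30) (lf (nat_lit 35))
(lf (nat_lit 65)))
(lf (nat_lit 65)))
(lf (nat_lit 67)))
(lf (nat_lit 64)))))
(lf (nat_lit 65))))))
(lf (nat_lit 74))))
(br (nat_lit 39) (br (nat_lit 1) (br (nat_lit 9) (br (nat_lit 48) (br (nat_lit 59) (br (nat_lit 3) (lf (nat_lit 39))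
(br (nat_lit 32) (lf (nat_lit 39))
(br (nat_lit 37) (lf (nat_lit 39))
(br (nat_lit 24) (br (nat_lit 7) (lf (nat_lit 41))
(br (nat_lit 8) (lf (nat_lit 6))
(br (nat_lit 12) (lf (nat_lit 41))
(br (nat_lit 4) (br (nat_lit 2) (lf (nat_lit 48))
(br (nat_lit 14) (br (nat_lit 16) (lf (nat_lit 11))
(br (nat_lit 20) (br (nat_lit 21) (lf (nat_lit 40))
(br (nat_lit 11) (br (nat_lit 5) (lf (nat_lit 5))
(br (nat_lit 18) (br (nat_lit 22) (lf (nat_lit 11))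
(lf (nat_lit 74)))
(lf (nat_lit 42))))
(lf (nat_lit 67))))
(lf (nat_lit 13))))
(lf (nat_lit 8))))
(lf (nat_lit 8))))))
(lf (nat_lit 65))))))
(lf (nat_lit 38)))
(lf (nat_lit 38)))
(lf (nat_lit 38)))
(lf (nat_lit 38)))
(br (nat_lit 22) (br (nat_lit 48) (br (nat_lit 4) (lf (nat_lit 26))
(br (nat_lit 8) (lf (nat_lit 26))
(br (nat_lit 20) (lf (nat_lit 24))
(br (nat_lit 26) (lf (nat_lit 24))
(br (nat_lit 5) (br (nat_lit 9) (br (nat_lit 12) (br (nat_lit 7) (lf (nat_lit 41))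
(br (nat_lit 14) (br (nat_lit 16) (br (nat_lit 2) (lf (nat_lit 9))
(br (nat_lit 24) (lf (nat_lit 11))
(br (nat_lit 28) (lf (nat_lit 24))
(lf (nat_lit 52)))))
(lf (nat_lit 13)))
(lf (nat_lit 8))))
(lf (nat_lit 8)))
(lf (nat_lit 47)))
(lf (nat_lit 47)))))))
(lf (nat_lit 21)))
(br (nat_lit 3) (br (nat_lit 5) (br (nat_lit 9) (br (nat_lit 12) (br (nat_lit 7) (lf (nat_lit 41))
(br (nat_lit 21) (br (nat_lit 24) (lf (nat_lit 41))
(br (nat_lit 16) (br (nat_lit 26) (br (nat_lit 1) (lf (nat_lit 14))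
(br (nat_lit 29) (lf (nat_lit 41))
(br (nat_lit 30) (lf (nat_lit 14))
(br (nat_lit 11) (br (nat_lit 2) (lf (nat_lit 30))
(br (nat_lit 18) (br (nat_lit 4) (lf (nat_lit 42))
(br (nat_lit 14) (br (nat_lit 8) (lf (nat_lit 9))
(br (nat_lit 28) (lf (nat_lit 58))
(lf (nat_lit 52))))
(lf (nat_lit 8))))
(lf (nat_lit 61))))
(lf (nat_lit 67))))))
(lf (nat_lit 47)))
(lf (nat_lit 11))))
(lf (nat_lit 74))))
(lf (nat_lit 74)))
(lf (nat_lit 47)))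
(lf (nat_lit 47)))
(lf (nat_lit 74)))))))
(br (nat_lit 49) (br (nat_lit 0) (br (nat_lit 3) (br (nat_lit 32) (lf (nat_lit 39))
(br (nat_lit 37) (lf (nat_lit 39))
(br (nat_lit 24) (br (nat_lit 26) (br (nat_lit 30) (br (nat_lit 5) (lf (nat_lit 35))
(br (nat_lit 4) (br (nat_lit 11) (br (nat_lit 2) (lf (nat_lit 30))
(br (nat_lit 7) (lf (nat_lit 33))
(br (nat_lit 18) (lf (nat_lit 51))
(br (nat_lit 20) (br (nat_lit 21) (lf (nat_lit 51))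
(br (nat_lit 22) (lf (nat_lit 24))
(lf (nat_lit 64))))
(lf (nat_lit 56))))))
(lf (nat_lit 64)))
(lf (nat_lit 64))))
(lf (nat_lit 65)))
(lf (nat_lit 65)))
(lf (nat_lit 65)))))
(br (nat_lit 39) (br (nat_lit 29) (lf (nat_lit 69))
(br (nat_lit 32) (lf (nat_lit 39))
(br (nat_lit 37) (lf (nat_lit 39))
(br (nat_lit 24) (br (nat_lit 7) (lf (nat_lit 33))
(br (nat_lit 11) (lf (nat_lit 33))
(br (nat_lit 5) (br (nat_lit 21) (br (nat_lit 26) (br (nat_lit 22) (lf (nat_lit 47))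
(br (nat_lit 4) (br (nat_lit 12) (br (nat_lit 9) (lf (nat_lit 41))
(lf (nat_lit 8)))
(lf (nat_lit 74)))
(lf (nat_lit 64))))
(lf (nat_lit 65)))
(lf (nat_lit 67)))
(lf (nat_lit 64)))))
(lf (nat_lit 65))))))
(lf (nat_lit 74))))
(br (nat_lit 39) (br (nat_lit 1) (br (nat_lit 9) (br (nat_lit 48) (br (nat_lit 59) (br (nat_lit 3) (lf (nat_lit 39))
(br (nat_lit 32) (lf (nat_lit 39))
(br (nat_lit 37) (lf (nat_lit 39))
(br (nat_lit 24) (br (nat_lit 7) (lf (nat_lit 41))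
(br (nat_lit 8) (lf (nat_lit 6))
(br (nat_lit 12) (lf (nat_lit 41))
(br (nat_lit 4) (br (nat_lit 14) (br (nat_lit 16) (lf (nat_lit 11))
(br (nat_lit 20) (br (nat_lit 21) (lf (nat_lit 40))
(br (nat_lit 11) (br (nat_lit 5) (lf (nat_lit 5))
(br (nat_lit 22) (lf (nat_lit 11))
(lf (nat_lit 74))))
(lf (nat_lit 67))))
(lf (nat_lit 54))))
(lf (nat_lit 8)))
(lf (nat_lit 8))))))
(lf (nat_lit 65))))))
(lf (nat_lit 38)))
(lf (nat_lit 38)))
(lf (nat_lit 38)))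
(lf (nat_lit 38)))
(br (nat_lit 21) (br (nat_lit 60) (br (nat_lit 4) (lf (nat_lit 51))
(br (nat_lit 8) (lf (nat_lit 34))
(br (nat_lit 18) (lf (nat_lit 51))
(br (nat_lit 20) (lf (nat_lit 34))
(br (nat_lit 30) (lf (nat_lit 51))
(br (nat_lit 1) (br (nat_lit 32) (lf (nat_lit 34))
(br (nat_lit 7) (br (nat_lit 11) (br (nat_lit 5) (lf (nat_lit 5))
(br (nat_lit 12) (br (nat_lit 9) (lf (nat_lit 41))
(br (nat_lit 14) (lf (nat_lit 8))
(br (nat_lit 16) (br (nat_lit 22) (br (nat_lit 24) (lf (nat_lit 41))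
(lf (nat_lit 6)))
(lf (nat_lit 11)))
(lf (nat_lit 11)))))
(lf (nat_lit 42))))
(lf (nat_lit 67)))
(lf (nat_lit 67))))
(lf (nat_lit 59))))))))
(lf (nat_lit 20)))
(br (nat_lit 1) (br (nat_lit 3) (br (nat_lit 12) (br (nat_lit 22) (br (nat_lit 30) (br (nat_lit 9) (lf (nat_lit 14))
(br (nat_lit 16) (br (nat_lit 24) (br (nat_lit 7) (lf (nat_lit 41))
(br (nat_lit 26) (lf (nat_lit 14))
(br (nat_lit 29) (lf (nat_lit 41))
(br (nat_lit 41) (lf (nat_lit 14))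
(lf (nat_lit 74))))))
(lf (nat_lit 11)))
(lf (nat_lit 11))))
(lf (nat_lit 59)))
(lf (nat_lit 74)))
(lf (nat_lit 74)))
(lf (nat_lit 74)))
(lf (nat_lit 59))))))
(lf (nat_lit 16))))

open Dt in
noncomputable def t1 : Dt :=
(br (nat_lit 27) (br (nat_lit 35) (lf (nat_lit 16))
(br (nat_lit 45) (lf (nat_lit 16))
(br (nat_lit 49) (lf (nat_lit 16))
(br (nat_lit 0) (br (nat_lit 3) (br (nat_lit 32) (lf (nat_lit 39))
(br (nat_lit 37) (lf (nat_lit 39))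
(br (nat_lit 39) (lf (nat_lit 39))
(br (nat_lit 12) (br (nat_lit 21) (br (nat_lit 2) (lf (nat_lit 44))
(br (nat_lit 20) (lf (nat_lit 44))
(br (nat_lit 1) (br (nat_lit 5) (br (nat_lit 11) (lf (nat_lit 5))
(br (nat_lit 14) (lf (nat_lit 40))
(br (nat_lit 16) (br (nat_lit 4) (lf (nat_lit 42))
(br (nat_lit 22) (br (nat_lit 9) (lf (nat_lit 11))
(br (nat_lit 26) (br (nat_lit 28) (lf (nat_lit 24))
(br (nat_lit 18) (br (nat_lit 29) (br (nat_lit 7) (lf (nat_lit 41))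
(br (nat_lit 24) (lf (nat_lit 41))
(lf (nat_lit 22))))
(lf (nat_lit 55)))
(lf (nat_lit 58))))
(lf (nat_lit 55))))
(lf (nat_lit 74))))
(lf (nat_lit 54)))))
(lf (nat_lit 56)))
(lf (nat_lit 54)))))
(lf (nat_lit 74)))
(lf (nat_lit 74))))))
(br (nat_lit 39) (br (nat_lit 29) (lf (nat_lit 69))
(br (nat_lit 32) (lf (nat_lit 39))
(br (nat_lit 37) (lf (nat_lit 39))
(br (nat_lit 38) (lf (nat_lit 69))
(br (nat_lit 18) (br (nat_lit 26) (br (nat_lit 57) (lf (nat_lit 39))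
(br (nat_lit 54) (br (nat_lit 5) (lf (nat_lit 35))
(br (nat_lit 4) (br (nat_lit 11) (br (nat_lit 7) (lf (nat_lit 33))
(br (nat_lit 20) (br (nat_lit 21) (lf (nat_lit 51))
(br (nat_lit 12) (br (nat_lit 9) (lf (nat_lit 41))
(lf (nat_lit 8)))
(lf (nat_lit 74))))
(lf (nat_lit 56))))
(lf (nat_lit 64)))
(lf (nat_lit 64))))
(lf (nat_lit 45))))
(lf (nat_lit 60)))
(lf (nat_lit 43)))))))
(lf (nat_lit 74))))
(br (nat_lit 39) (br (nat_lit 1) (br (nat_lit 9) (br (nat_lit 48) (br (nat_lit 59) (br (nat_lit 3) (lf (nat_lit 39))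
(br (nat_lit 11) (br (nat_lit 5) (lf (nat_lit 5))
(br (nat_lit 18) (br (nat_lit 28) (br (nat_lit 12) (lf (nat_lit 12))
(br (nat_lit 20) (lf (nat_lit 24))
(br (nat_lit 22) (lf (nat_lit 24))
(br (nat_lit 4) (br (nat_lit 2) (lf (nat_lit 48))
(br (nat_lit 21) (lf (nat_lit 51))
(lf (nat_lit 74))))
(lf (nat_lit 64))))))
(lf (nat_lit 58)))
(lf (nat_lit 58))))
(lf (nat_lit 58))))
(lf (nat_lit 38)))
(lf (nat_lit 38)))
(lf (nat_lit 38)))
(lf (nat_lit 38)))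
(br (nat_lit 3) (br (nat_lit 59) (br (nat_lit 2) (lf (nat_lit 44))
(br (nat_lit 20) (lf (nat_lit 44))
(br (nat_lit 21) (lf (nat_lit 44))
(br (nat_lit 1) (br (nat_lit 12) (br (nat_lit 22) (br (nat_lit 4) (lf (nat_lit 48))
(br (nat_lit 16) (br (nat_lit 30) (br (nat_lit 9) (lf (nat_lit 14))
(br (nat_lit 14) (lf (nat_lit 13))
(br (nat_lit 24) (br (nat_lit 7) (lf (nat_lit 41))
(br (nat_lit 26) (lf (nat_lit 14))
(br (nat_lit 11) (br (nat_lit 5) (lf (nat_lit 5))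
(br (nat_lit 29) (lf (nat_lit 41))
(lf (nat_lit 55))))
(lf (nat_lit 55)))))
(lf (nat_lit 11)))))
(lf (nat_lit 59)))
(lf (nat_lit 13))))
(lf (nat_lit 74)))
(lf (nat_lit 74)))
(lf (nat_lit 40))))))
(lf (nat_lit 2)))
(br (nat_lit 11) (br (nat_lit 12) (br (nat_lit 18) (br (nat_lit 21) (br (nat_lit 4) (lf (nat_lit 51))
(br (nat_lit 22) (br (nat_lit 28) (br (nat_lit 20) (lf (nat_lit 24))
(br (nat_lit 26) (lf (nat_lit 24))
(br (nat_lit 30) (lf (nat_lit 51))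
(br (nat_lit 41) (br (nat_lit 1) (lf (nat_lit 5))
(lf (nat_lit 40)))
(lf (nat_lit 74))))))
(lf (nat_lit 58)))
(lf (nat_lit 74))))
(lf (nat_lit 74)))
(lf (nat_lit 58)))
(lf (nat_lit 74)))
(lf (nat_lit 58)))))))))
(br (nat_lit 35) (br (nat_lit 45) (lf (nat_lit 16))
(br (nat_lit 49) (lf (nat_lit 16))
(br (nat_lit 0) (br (nat_lit 3) (br (nat_lit 32) (lf (nat_lit 39))
(br (nat_lit 37) (lf (nat_lit 39))
(br (nat_lit 39) (lf (nat_lit 39))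
(br (nat_lit 12) (br (nat_lit 21) (br (nat_lit 22) (br (nat_lit 2) (lf (nat_lit 48))
(br (nat_lit 4) (lf (nat_lit 48))
(br (nat_lit 5) (br (nat_lit 26) (br (nat_lit 20) (lf (nat_lit 24))
(br (nat_lit 16) (br (nat_lit 9) (lf (nat_lit 11))
(br (nat_lit 14) (lf (nat_lit 13))
(br (nat_lit 28) (lf (nat_lit 24))
(br (nat_lit 30) (lf (nat_lit 35))
(br (nat_lit 7) (br (nat_lit 11) (br (nat_lit 1) (lf (nat_lit 5))
(br (nat_lit 24) (lf (nat_lit 33))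
(lf (nat_lit 6))))
(lf (nat_lit 67)))
(lf (nat_lit 67)))))))
(lf (nat_lit 13))))
(lf (nat_lit 60)))
(lf (nat_lit 64)))))
(lf (nat_lit 74)))
(lf (nat_lit 74)))
(lf (nat_lit 74))))))
(br (nat_lit 39) (br (nat_lit 29) (lf (nat_lit 69))
(br (nat_lit 32) (lf (nat_lit 39))
(br (nat_lit 37) (lf (nat_lit 39))
(br (nat_lit 38) (lf (nat_lit 69))
(br (nat_lit 18) (br (nat_lit 26) (br (nat_lit 57) (lf (nat_lit 39))
(br (nat_lit 54) (br (nat_lit 5) (lf (nat_lit 35))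
(br (nat_lit 4) (br (nat_lit 11) (br (nat_lit 7) (lf (nat_lit 33))
(br (nat_lit 20) (br (nat_lit 21) (lf (nat_lit 51))
(br (nat_lit 12) (br (nat_lit 9) (lf (nat_lit 41))
(lf (nat_lit 8)))
(lf (nat_lit 74))))
(lf (nat_lit 56))))
(lf (nat_lit 64)))
(lf (nat_lit 42))))
(lf (nat_lit 45))))
(lf (nat_lit 60)))
(lf (nat_lit 43)))))))
(lf (nat_lit 74))))
(br (nat_lit 39) (br (nat_lit 1) (br (nat_lit 9) (br (nat_lit 48) (br (nat_lit 59) (br (nat_lit 2) (lf (nat_lit 48))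
(br (nat_lit 3) (lf (nat_lit 39))
(br (nat_lit 4) (lf (nat_lit 48))
(br (nat_lit 11) (br (nat_lit 5) (lf (nat_lit 5))
(br (nat_lit 12) (br (nat_lit 7) (lf (nat_lit 8))
(br (nat_lit 14) (lf (nat_lit 8))
(br (nat_lit 16) (br (nat_lit 18) (br (nat_lit 20) (lf (nat_lit 13))
(br (nat_lit 22) (lf (nat_lit 48))
(lf (nat_lit 47))))
(lf (nat_lit 42)))
(lf (nat_lit 42)))))
(lf (nat_lit 42))))
(lf (nat_lit 58))))))
(lf (nat_lit 38)))
(lf (nat_lit 38)))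
(lf (nat_lit 38)))
(lf (nat_lit 38)))
(br (nat_lit 3) (br (nat_lit 59) (br (nat_lit 2) (lf (nat_lit 48))
(br (nat_lit 4) (lf (nat_lit 48))
(br (nat_lit 22) (lf (nat_lit 48))
(br (nat_lit 5) (br (nat_lit 9) (br (nat_lit 12) (br (nat_lit 7) (lf (nat_lit 41))
(br (nat_lit 14) (br (nat_lit 16) (br (nat_lit 8) (lf (nat_lit 9))
(br (nat_lit 21) (br (nat_lit 20) (lf (nat_lit 44))
(br (nat_lit 24) (lf (nat_lit 41))
(br (nat_lit 26) (br (nat_lit 1) (lf (nat_lit 14))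
(br (nat_lit 29) (lf (nat_lit 41))
(br (nat_lit 11) (br (nat_lit 18) (br (nat_lit 30) (lf (nat_lit 14))
(br (nat_lit 31) (lf (nat_lit 5))
(lf (nat_lit 2))))
(lf (nat_lit 61)))
(lf (nat_lit 55)))))
(lf (nat_lit 47)))))
(lf (nat_lit 74))))
(lf (nat_lit 13)))
(lf (nat_lit 8))))
(lf (nat_lit 74)))
(lf (nat_lit 47)))
(lf (nat_lit 47))))))
(lf (nat_lit 2)))
(br (nat_lit 11) (br (nat_lit 12) (br (nat_lit 18) (br (nat_lit 21) (br (nat_lit 4) (lf (nat_lit 51))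
(br (nat_lit 22) (br (nat_lit 28) (br (nat_lit 20) (lf (nat_lit 24))
(br (nat_lit 26) (lf (nat_lit 24))
(br (nat_lit 30) (lf (nat_lit 51))
(br (nat_lit 41) (br (nat_lit 1) (lf (nat_lit 5))
(lf (nat_lit 40)))
(lf (nat_lit 74))))))
(lf (nat_lit 58)))
(lf (nat_lit 74))))
(lf (nat_lit 74)))
(lf (nat_lit 58)))
(lf (nat_lit 74)))
(lf (nat_lit 58))))))))
t0))

open Dt in
noncomputable def t2 : Dt :=
(br (nat_lit 34) (br (nat_lit 70) (lf (nat_lit 70))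
(br (nat_lit 0) (br (nat_lit 39) (br (nat_lit 3) (lf (nat_lit 39))
(br (nat_lit 32) (lf (nat_lit 39))
(br (nat_lit 37) (lf (nat_lit 39))
(br (nat_lit 5) (br (nat_lit 20) (br (nat_lit 43) (br (nat_lit 46) (br (nat_lit 26) (lf (nat_lit 35))
(br (nat_lit 2) (br (nat_lit 21) (lf (nat_lit 44))
(br (nat_lit 22) (br (nat_lit 4) (lf (nat_lit 48))
(br (nat_lit 9) (lf (nat_lit 11))
(br (nat_lit 16) (br (nat_lit 8) (lf (nat_lit 9))
(br (nat_lit 12) (br (nat_lit 7) (lf (nat_lit 8))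
(br (nat_lit 11) (br (nat_lit 1) (lf (nat_lit 5))
(br (nat_lit 14) (lf (nat_lit 8))
(lf (nat_lit 15))))
(lf (nat_lit 67))))
(lf (nat_lit 11))))
(lf (nat_lit 13)))))
(lf (nat_lit 60))))
(lf (nat_lit 60))))
(lf (nat_lit 56)))
(lf (nat_lit 56)))
(lf (nat_lit 56)))
(lf (nat_lit 56))))))
(br (nat_lit 3) (br (nat_lit 32) (lf (nat_lit 39))
(br (nat_lit 37) (lf (nat_lit 39))
(br (nat_lit 5) (br (nat_lit 20) (br (nat_lit 2) (lf (nat_lit 44))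
(br (nat_lit 21) (lf (nat_lit 44))
(br (nat_lit 1) (br (nat_lit 9) (lf (nat_lit 38))
(br (nat_lit 11) (lf (nat_lit 5))
(br (nat_lit 7) (br (nat_lit 12) (br (nat_lit 4) (lf (nat_lit 8))
(br (nat_lit 14) (lf (nat_lit 8))
(br (nat_lit 16) (br (nat_lit 22) (br (nat_lit 24) (lf (nat_lit 41))
(lf (nat_lit 6)))
(lf (nat_lit 74)))
(lf (nat_lit 13)))))
(lf (nat_lit 74)))
(lf (nat_lit 67)))))
(lf (nat_lit 59)))))
(lf (nat_lit 56)))
(lf (nat_lit 56)))))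
(br (nat_lit 11) (br (nat_lit 12) (br (nat_lit 18) (br (nat_lit 21) (br (nat_lit 4) (lf (nat_lit 51))
(br (nat_lit 22) (br (nat_lit 28) (br (nat_lit 20) (lf (nat_lit 24))
(br (nat_lit 16) (br (nat_lit 9) (lf (nat_lit 11))
(br (nat_lit 2) (br (nat_lit 8) (lf (nat_lit 9))
(br (nat_lit 14) (lf (nat_lit 9))
(br (nat_lit 1) (br (nat_lit 5) (lf (nat_lit 5))
(br (nat_lit 26) (lf (nat_lit 24))
(br (nat_lit 30) (lf (nat_lit 51))
(br (nat_lit 31) (lf (nat_lit 5))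
(lf (nat_lit 1))))))
(lf (nat_lit 15)))))
(lf (nat_lit 13))))
(lf (nat_lit 13))))
(lf (nat_lit 58)))
(lf (nat_lit 74))))
(lf (nat_lit 74)))
(lf (nat_lit 58)))
(lf (nat_lit 74)))
(lf (nat_lit 58)))))
(br (nat_lit 59) (br (nat_lit 3) (br (nat_lit 2) (lf (nat_lit 44))
(br (nat_lit 20) (lf (nat_lit 44))
(br (nat_lit 16) (br (nat_lit 21) (lf (nat_lit 44))
(br (nat_lit 1) (br (nat_lit 32) (lf (nat_lit 39))
(br (nat_lit 26) (br (nat_lit 30) (br (nat_lit 5) (lf (nat_lit 35))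
(br (nat_lit 9) (lf (nat_lit 14))
(br (nat_lit 4) (br (nat_lit 12) (lf (nat_lit 14))
(br (nat_lit 14) (lf (nat_lit 13))
(lf (nat_lit 15))))
(lf (nat_lit 13)))))
(lf (nat_lit 67)))
(lf (nat_lit 60))))
(lf (nat_lit 40))))
(lf (nat_lit 13)))))
(br (nat_lit 11) (br (nat_lit 18) (br (nat_lit 28) (br (nat_lit 39) (br (nat_lit 32) (lf (nat_lit 39))
(br (nat_lit 37) (lf (nat_lit 39))
(br (nat_lit 5) (br (nat_lit 1) (lf (nat_lit 5))
(br (nat_lit 9) (br (nat_lit 20) (br (nat_lit 2) (lf (nat_lit 44))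
(br (nat_lit 21) (lf (nat_lit 44))
(br (nat_lit 14) (br (nat_lit 16) (br (nat_lit 4) (lf (nat_lit 42))
(br (nat_lit 7) (lf (nat_lit 22))
(br (nat_lit 8) (lf (nat_lit 9))
(br (nat_lit 12) (br (nat_lit 22) (lf (nat_lit 74))
(br (nat_lit 24) (lf (nat_lit 22))
(br (nat_lit 26) (lf (nat_lit 24))
(lf (nat_lit 60)))))
(lf (nat_lit 8))))))
(lf (nat_lit 13)))
(lf (nat_lit 40)))))
(lf (nat_lit 54)))
(lf (nat_lit 38))))
(lf (nat_lit 56)))))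
(lf (nat_lit 58)))
(lf (nat_lit 58)))
(lf (nat_lit 58)))
(lf (nat_lit 58))))
(br (nat_lit 3) (lf (nat_lit 2))
(br (nat_lit 29) (br (nat_lit 31) (br (nat_lit 44) (br (nat_lit 47) (br (nat_lit 62) (br (nat_lit 7) (lf (nat_lit 41))
(br (nat_lit 9) (lf (nat_lit 41))
(br (nat_lit 1) (br (nat_lit 5) (lf (nat_lit 5))
(br (nat_lit 11) (lf (nat_lit 5))
(lf (nat_lit 30))))
(lf (nat_lit 38)))))
(lf (nat_lit 28)))
(lf (nat_lit 2)))
(lf (nat_lit 2)))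
(lf (nat_lit 2)))
(lf (nat_lit 2)))))))
(br (nat_lit 70) (br (nat_lit 0) (br (nat_lit 39) (br (nat_lit 3) (lf (nat_lit 39))
(br (nat_lit 32) (lf (nat_lit 39))
(br (nat_lit 37) (lf (nat_lit 39))
(br (nat_lit 5) (br (nat_lit 20) (br (nat_lit 43) (br (nat_lit 46) (br (nat_lit 26) (lf (nat_lit 35))
(br (nat_lit 2) (br (nat_lit 21) (lf (nat_lit 44))
(br (nat_lit 22) (br (nat_lit 4) (lf (nat_lit 48))
(br (nat_lit 9) (lf (nat_lit 11))
(br (nat_lit 16) (br (nat_lit 8) (lf (nat_lit 9))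
(br (nat_lit 7) (lf (nat_lit 6))
(br (nat_lit 11) (br (nat_lit 1) (lf (nat_lit 5))
(br (nat_lit 12) (br (nat_lit 14) (lf (nat_lit 8))
(lf (nat_lit 15)))
(lf (nat_lit 11))))
(lf (nat_lit 67)))))
(lf (nat_lit 13)))))
(lf (nat_lit 60))))
(lf (nat_lit 60))))
(lf (nat_lit 56)))
(lf (nat_lit 56)))
(lf (nat_lit 56)))
(lf (nat_lit 56))))))
(br (nat_lit 3) (br (nat_lit 32) (lf (nat_lit 39))
(br (nat_lit 37) (lf (nat_lit 39))
(br (nat_lit 5) (br (nat_lit 20) (br (nat_lit 2) (lf (nat_lit 44))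
(br (nat_lit 21) (lf (nat_lit 44))
(br (nat_lit 1) (br (nat_lit 9) (lf (nat_lit 38))
(br (nat_lit 11) (lf (nat_lit 5))
(br (nat_lit 7) (br (nat_lit 8) (br (nat_lit 12) (br (nat_lit 4) (lf (nat_lit 8))
(br (nat_lit 14) (lf (nat_lit 8))
(br (nat_lit 16) (br (nat_lit 22) (br (nat_lit 24) (lf (nat_lit 22))
(lf (nat_lit 6)))
(lf (nat_lit 74)))
(lf (nat_lit 13)))))
(lf (nat_lit 74)))
(lf (nat_lit 6)))
(lf (nat_lit 67)))))
(lf (nat_lit 59)))))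
(lf (nat_lit 56)))
(lf (nat_lit 56)))))
(br (nat_lit 11) (br (nat_lit 12) (br (nat_lit 18) (br (nat_lit 21) (br (nat_lit 4) (lf (nat_lit 51))
(br (nat_lit 22) (br (nat_lit 28) (br (nat_lit 20) (lf (nat_lit 24))
(br (nat_lit 16) (br (nat_lit 7) (lf (nat_lit 22))
(br (nat_lit 9) (lf (nat_lit 11))
(br (nat_lit 2) (br (nat_lit 8) (lf (nat_lit 9))
(br (nat_lit 14) (lf (nat_lit 9))
(br (nat_lit 1) (br (nat_lit 5) (lf (nat_lit 5))
(br (nat_lit 24) (lf (nat_lit 22))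
(lf (nat_lit 6))))
(lf (nat_lit 15)))))
(lf (nat_lit 13)))))
(lf (nat_lit 13))))
(lf (nat_lit 58)))
(lf (nat_lit 74))))
(lf (nat_lit 74)))
(lf (nat_lit 58)))
(lf (nat_lit 74)))
(lf (nat_lit 58)))))
(br (nat_lit 59) (br (nat_lit 3) (br (nat_lit 2) (lf (nat_lit 44))
(br (nat_lit 20) (lf (nat_lit 44))
(br (nat_lit 16) (br (nat_lit 21) (lf (nat_lit 44))
(br (nat_lit 1) (br (nat_lit 32) (lf (nat_lit 39))
(br (nat_lit 26) (br (nat_lit 30) (br (nat_lit 5) (lf (nat_lit 35))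
(br (nat_lit 9) (lf (nat_lit 14))
(br (nat_lit 4) (br (nat_lit 11) (br (nat_lit 7) (lf (nat_lit 22))
(br (nat_lit 12) (lf (nat_lit 14))
(br (nat_lit 14) (lf (nat_lit 13))
(lf (nat_lit 15)))))
(lf (nat_lit 30)))
(lf (nat_lit 13)))))
(lf (nat_lit 67)))
(lf (nat_lit 60))))
(lf (nat_lit 40))))
(lf (nat_lit 13)))))
(br (nat_lit 11) (br (nat_lit 18) (br (nat_lit 28) (br (nat_lit 39) (br (nat_lit 32) (lf (nat_lit 39))
(br (nat_lit 37) (lf (nat_lit 39))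
(br (nat_lit 5) (br (nat_lit 1) (lf (nat_lit 5))
(br (nat_lit 9) (br (nat_lit 20) (br (nat_lit 2) (lf (nat_lit 44))
(br (nat_lit 21) (lf (nat_lit 44))
(br (nat_lit 14) (br (nat_lit 7) (lf (nat_lit 22))
(br (nat_lit 16) (lf (nat_lit 22))
(lf (nat_lit 13))))
(lf (nat_lit 40)))))
(lf (nat_lit 54)))
(lf (nat_lit 38))))
(lf (nat_lit 56)))))
(lf (nat_lit 58)))
(lf (nat_lit 58)))
(lf (nat_lit 58)))
(lf (nat_lit 58))))
(br (nat_lit 3) (lf (nat_lit 2))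
(br (nat_lit 29) (br (nat_lit 31) (br (nat_lit 11) (br (nat_lit 1) (lf (nat_lit 5))
(br (nat_lit 5) (lf (nat_lit 5))
(br (nat_lit 2) (br (nat_lit 7) (lf (nat_lit 22))
(br (nat_lit 9) (br (nat_lit 12) (lf (nat_lit 41))
(br (nat_lit 4) (br (nat_lit 14) (lf (nat_lit 22))
(lf (nat_lit 8)))
(lf (nat_lit 8))))
(lf (nat_lit 38))))
(lf (nat_lit 30)))))
(lf (nat_lit 30)))
(lf (nat_lit 2)))
(lf (nat_lit 2))))))
(lf (nat_lit 70))))

open Dt in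
noncomputable def t3 : Dt :=
(br (nat_lit 45) (br (nat_lit 49) (lf (nat_lit 16))
(br (nat_lit 0) (br (nat_lit 3) (br (nat_lit 32) (lf (nat_lit 39))
(br (nat_lit 37) (lf (nat_lit 39))
(br (nat_lit 24) (br (nat_lit 7) (lf (nat_lit 33))
(br (nat_lit 11) (lf (nat_lit 33))
(br (nat_lit 5) (br (nat_lit 12) (br (nat_lit 9) (lf (nat_lit 41))
(br (nat_lit 21) (br (nat_lit 26) (br (nat_lit 28) (br (nat_lit 20) (lf (nat_lit 24))
(br (nat_lit 22) (lf (nat_lit 24))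
(br (nat_lit 4) (br (nat_lit 14) (lf (nat_lit 8))
(lf (nat_lit 3)))
(lf (nat_lit 64)))))
(lf (nat_lit 23)))
(lf (nat_lit 65)))
(lf (nat_lit 67))))
(lf (nat_lit 23)))
(lf (nat_lit 64)))))
(lf (nat_lit 65)))))
(br (nat_lit 39) (br (nat_lit 7) (lf (nat_lit 33))
(br (nat_lit 11) (lf (nat_lit 33))
(br (nat_lit 2) (br (nat_lit 5) (br (nat_lit 24) (lf (nat_lit 33))
(br (nat_lit 30) (br (nat_lit 26) (lf (nat_lit 35))
(br (nat_lit 31) (lf (nat_lit 30))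
(br (nat_lit 28) (br (nat_lit 32) (lf (nat_lit 39))
(lf (nat_lit 65)))
(lf (nat_lit 46)))))
(lf (nat_lit 30))))
(lf (nat_lit 30)))
(lf (nat_lit 30)))))
(lf (nat_lit 74))))
(br (nat_lit 39) (br (nat_lit 1) (br (nat_lit 9) (br (nat_lit 48) (br (nat_lit 59) (br (nat_lit 3) (lf (nat_lit 39))
(br (nat_lit 32) (lf (nat_lit 39))
(br (nat_lit 37) (lf (nat_lit 39))
(br (nat_lit 24) (br (nat_lit 7) (lf (nat_lit 33))
(br (nat_lit 11) (lf (nat_lit 33))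
(br (nat_lit 2) (br (nat_lit 4) (lf (nat_lit 48))
(br (nat_lit 5) (br (nat_lit 12) (lf (nat_lit 41))
(lf (nat_lit 8)))
(lf (nat_lit 30))))
(lf (nat_lit 30)))))
(lf (nat_lit 65))))))
(lf (nat_lit 38)))
(lf (nat_lit 38)))
(lf (nat_lit 38)))
(lf (nat_lit 38)))
(br (nat_lit 22) (br (nat_lit 48) (br (nat_lit 4) (lf (nat_lit 26))
(br (nat_lit 8) (lf (nat_lit 26))
(br (nat_lit 20) (lf (nat_lit 24))
(br (nat_lit 26) (lf (nat_lit 24))
(br (nat_lit 5) (br (nat_lit 9) (br (nat_lit 12) (br (nat_lit 7) (lf (nat_lit 41))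
(br (nat_lit 14) (br (nat_lit 16) (br (nat_lit 2) (lf (nat_lit 9))
(br (nat_lit 24) (lf (nat_lit 11))
(br (nat_lit 28) (lf (nat_lit 24))
(lf (nat_lit 52)))))
(lf (nat_lit 13)))
(lf (nat_lit 8))))
(lf (nat_lit 8)))
(lf (nat_lit 47)))
(lf (nat_lit 47)))))))
(lf (nat_lit 21)))
(br (nat_lit 3) (br (nat_lit 5) (br (nat_lit 9) (br (nat_lit 12) (br (nat_lit 7) (lf (nat_lit 41))
(br (nat_lit 21) (br (nat_lit 24) (lf (nat_lit 41))
(br (nat_lit 16) (br (nat_lit 26) (br (nat_lit 1) (lf (nat_lit 14))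
(br (nat_lit 29) (lf (nat_lit 41))
(br (nat_lit 30) (lf (nat_lit 14))
(br (nat_lit 11) (br (nat_lit 2) (lf (nat_lit 55))
(br (nat_lit 28) (br (nat_lit 18) (lf (nat_lit 58))
(br (nat_lit 20) (lf (nat_lit 24))
(br (nat_lit 14) (br (nat_lit 8) (lf (nat_lit 9))
(br (nat_lit 31) (lf (nat_lit 5))
(br (nat_lit 32) (br (nat_lit 37) (lf (nat_lit 22))
(br (nat_lit 38) (lf (nat_lit 5))
(lf (nat_lit 52))))
(lf (nat_lit 6)))))
(lf (nat_lit 40)))))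
(lf (nat_lit 23))))
(lf (nat_lit 67))))))
(lf (nat_lit 47)))
(lf (nat_lit 11))))
(lf (nat_lit 74))))
(lf (nat_lit 74)))
(lf (nat_lit 47)))
(lf (nat_lit 47)))
(lf (nat_lit 74)))))))
(br (nat_lit 49) (br (nat_lit 0) (br (nat_lit 3) (br (nat_lit 32) (lf (nat_lit 39))
(br (nat_lit 37) (lf (nat_lit 39))
(br (nat_lit 24) (br (nat_lit 7) (lf (nat_lit 33))
(br (nat_lit 11) (lf (nat_lit 33))
(br (nat_lit 5) (br (nat_lit 12) (br (nat_lit 9) (lf (nat_lit 41))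
(br (nat_lit 21) (br (nat_lit 26) (br (nat_lit 28) (br (nat_lit 20) (lf (nat_lit 24))
(br (nat_lit 1) (br (nat_lit 14) (lf (nat_lit 40))
(br (nat_lit 16) (br (nat_lit 4) (lf (nat_lit 42))
(br (nat_lit 22) (lf (nat_lit 24))
(lf (nat_lit 64))))
(lf (nat_lit 54))))
(lf (nat_lit 54))))
(lf (nat_lit 23)))
(lf (nat_lit 65)))
(lf (nat_lit 67))))
(lf (nat_lit 23)))
(lf (nat_lit 64)))))
(lf (nat_lit 65)))))
(br (nat_lit 39) (br (nat_lit 7) (lf (nat_lit 33))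
(br (nat_lit 11) (lf (nat_lit 33))
(br (nat_lit 2) (br (nat_lit 5) (br (nat_lit 24) (lf (nat_lit 33))
(br (nat_lit 30) (br (nat_lit 26) (lf (nat_lit 35))
(br (nat_lit 31) (lf (nat_lit 30))
(br (nat_lit 28) (br (nat_lit 32) (lf (nat_lit 39))
(lf (nat_lit 65)))
(lf (nat_lit 46)))))
(lf (nat_lit 30))))
(lf (nat_lit 30)))
(lf (nat_lit 30)))))
(lf (nat_lit 74))))
(br (nat_lit 39) (br (nat_lit 1) (br (nat_lit 9) (br (nat_lit 48) (br (nat_lit 59) (br (nat_lit 3) (lf (nat_lit 39))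
(br (nat_lit 32) (lf (nat_lit 39))
(br (nat_lit 37) (lf (nat_lit 39))
(br (nat_lit 24) (br (nat_lit 7) (lf (nat_lit 33))
(br (nat_lit 11) (lf (nat_lit 33))
(br (nat_lit 2) (br (nat_lit 5) (br (nat_lit 12) (lf (nat_lit 41))
(lf (nat_lit 23)))
(lf (nat_lit 30)))
(lf (nat_lit 30)))))
(lf (nat_lit 65))))))
(lf (nat_lit 38)))
(lf (nat_lit 38)))
(lf (nat_lit 38)))
(lf (nat_lit 38)))
(br (nat_lit 21) (br (nat_lit 60) (br (nat_lit 4) (lf (nat_lit 51))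
(br (nat_lit 8) (lf (nat_lit 34))
(br (nat_lit 18) (lf (nat_lit 51))
(br (nat_lit 20) (lf (nat_lit 34))
(br (nat_lit 30) (lf (nat_lit 51))
(br (nat_lit 1) (br (nat_lit 32) (lf (nat_lit 34))
(br (nat_lit 7) (br (nat_lit 9) (br (nat_lit 11) (br (nat_lit 5) (lf (nat_lit 5))
(br (nat_lit 12) (lf (nat_lit 41))
(lf (nat_lit 8))))
(lf (nat_lit 67)))
(lf (nat_lit 6)))
(lf (nat_lit 67))))
(lf (nat_lit 59))))))))
(lf (nat_lit 20)))
(br (nat_lit 1) (br (nat_lit 3) (br (nat_lit 12) (br (nat_lit 22) (br (nat_lit 30) (br (nat_lit 9) (lf (nat_lit 14))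
(br (nat_lit 16) (br (nat_lit 24) (br (nat_lit 7) (lf (nat_lit 41))
(br (nat_lit 26) (lf (nat_lit 14))
(br (nat_lit 28) (br (nat_lit 20) (lf (nat_lit 24))
(br (nat_lit 29) (lf (nat_lit 41))
(br (nat_lit 41) (lf (nat_lit 14))
(lf (nat_lit 74)))))
(lf (nat_lit 23)))))
(lf (nat_lit 11)))
(lf (nat_lit 11))))
(lf (nat_lit 59)))
(lf (nat_lit 74)))
(lf (nat_lit 74)))
(lf (nat_lit 74)))
(lf (nat_lit 59))))))
(lf (nat_lit 16))))

open Dt in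
noncomputable def t4 : Dt :=
(br (nat_lit 45) (br (nat_lit 49) (lf (nat_lit 16))
(br (nat_lit 0) (br (nat_lit 39) (br (nat_lit 3) (lf (nat_lit 39))
(br (nat_lit 32) (lf (nat_lit 39))
(br (nat_lit 37) (lf (nat_lit 39))
(br (nat_lit 5) (br (nat_lit 20) (br (nat_lit 24) (br (nat_lit 26) (br (nat_lit 22) (lf (nat_lit 24))
(br (nat_lit 28) (lf (nat_lit 24))
(br (nat_lit 30) (lf (nat_lit 35))
(lf (nat_lit 65)))))
(lf (nat_lit 65)))
(lf (nat_lit 65)))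
(lf (nat_lit 56)))
(lf (nat_lit 56))))))
(br (nat_lit 3) (br (nat_lit 32) (lf (nat_lit 39))
(br (nat_lit 37) (lf (nat_lit 39))
(br (nat_lit 5) (br (nat_lit 20) (br (nat_lit 24) (br (nat_lit 26) (br (nat_lit 22) (lf (nat_lit 24))
(br (nat_lit 9) (br (nat_lit 1) (lf (nat_lit 38))
(br (nat_lit 7) (lf (nat_lit 41))
(br (nat_lit 8) (lf (nat_lit 6))
(br (nat_lit 12) (lf (nat_lit 41))
(lf (nat_lit 74))))))
(lf (nat_lit 47))))
(lf (nat_lit 65)))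
(lf (nat_lit 65)))
(lf (nat_lit 56)))
(lf (nat_lit 56)))))
(br (nat_lit 12) (br (nat_lit 21) (br (nat_lit 22) (br (nat_lit 41) (br (nat_lit 11) (br (nat_lit 1) (lf (nat_lit 5))
(br (nat_lit 5) (lf (nat_lit 5))
(br (nat_lit 31) (lf (nat_lit 5))
(br (nat_lit 38) (lf (nat_lit 5))
(br (nat_lit 64) (lf (nat_lit 5))
(br (nat_lit 14) (br (nat_lit 20) (br (nat_lit 26) (lf (nat_lit 24))
(br (nat_lit 2) (br (nat_lit 8) (lf (nat_lit 9))
(lf (nat_lit 63)))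
(lf (nat_lit 60))))
(lf (nat_lit 40)))
(lf (nat_lit 40))))))))
(br (nat_lit 18) (br (nat_lit 4) (lf (nat_lit 51))
(br (nat_lit 5) (br (nat_lit 1) (lf (nat_lit 5))
(br (nat_lit 28) (br (nat_lit 9) (lf (nat_lit 12))
(br (nat_lit 16) (br (nat_lit 14) (br (nat_lit 2) (lf (nat_lit 9))
(lf (nat_lit 13)))
(lf (nat_lit 15)))
(lf (nat_lit 13))))
(lf (nat_lit 58))))
(lf (nat_lit 64))))
(lf (nat_lit 58))))
(lf (nat_lit 74)))
(lf (nat_lit 74)))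
(lf (nat_lit 74)))
(lf (nat_lit 74)))))
(br (nat_lit 48) (br (nat_lit 22) (br (nat_lit 4) (lf (nat_lit 26))
(br (nat_lit 8) (lf (nat_lit 26))
(br (nat_lit 20) (lf (nat_lit 24))
(br (nat_lit 16) (br (nat_lit 26) (lf (nat_lit 24))
(br (nat_lit 28) (lf (nat_lit 24))
(br (nat_lit 24) (br (nat_lit 9) (lf (nat_lit 11))
(br (nat_lit 2) (br (nat_lit 3) (lf (nat_lit 48))
(br (nat_lit 5) (br (nat_lit 7) (br (nat_lit 11) (lf (nat_lit 22))
(br (nat_lit 12) (lf (nat_lit 8))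
(br (nat_lit 14) (lf (nat_lit 9))
(lf (nat_lit 15)))))
(lf (nat_lit 46)))
(lf (nat_lit 47))))
(lf (nat_lit 13))))
(lf (nat_lit 52)))))
(lf (nat_lit 13))))))
(br (nat_lit 5) (br (nat_lit 9) (br (nat_lit 26) (br (nat_lit 20) (lf (nat_lit 24))
(br (nat_lit 28) (lf (nat_lit 24))
(br (nat_lit 30) (lf (nat_lit 35))
(br (nat_lit 39) (br (nat_lit 46) (lf (nat_lit 35))
(br (nat_lit 37) (br (nat_lit 3) (lf (nat_lit 39))
(br (nat_lit 32) (lf (nat_lit 39))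
(br (nat_lit 7) (br (nat_lit 11) (br (nat_lit 1) (lf (nat_lit 5))
(br (nat_lit 12) (lf (nat_lit 8))
(br (nat_lit 14) (lf (nat_lit 22))
(lf (nat_lit 15)))))
(lf (nat_lit 67)))
(lf (nat_lit 67)))))
(lf (nat_lit 56))))
(lf (nat_lit 47))))))
(lf (nat_lit 47)))
(lf (nat_lit 47)))
(lf (nat_lit 47))))
(br (nat_lit 12) (br (nat_lit 22) (lf (nat_lit 21))
(br (nat_lit 9) (br (nat_lit 7) (lf (nat_lit 41))
(br (nat_lit 24) (lf (nat_lit 41))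
(br (nat_lit 16) (br (nat_lit 29) (lf (nat_lit 41))
(br (nat_lit 43) (br (nat_lit 46) (lf (nat_lit 41))
(br (nat_lit 54) (lf (nat_lit 41))
(br (nat_lit 2) (br (nat_lit 8) (lf (nat_lit 9))
(br (nat_lit 14) (lf (nat_lit 9))
(br (nat_lit 1) (br (nat_lit 4) (lf (nat_lit 13))
(lf (nat_lit 8)))
(lf (nat_lit 15)))))
(lf (nat_lit 61)))))
(lf (nat_lit 11))))
(lf (nat_lit 11)))))
(lf (nat_lit 11))))
(lf (nat_lit 21))))))
(br (nat_lit 49) (br (nat_lit 0) (br (nat_lit 39) (br (nat_lit 3) (lf (nat_lit 39))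
(br (nat_lit 32) (lf (nat_lit 39))
(br (nat_lit 37) (lf (nat_lit 39))
(br (nat_lit 5) (br (nat_lit 20) (br (nat_lit 24) (br (nat_lit 26) (br (nat_lit 22) (lf (nat_lit 24))
(br (nat_lit 28) (lf (nat_lit 24))
(br (nat_lit 30) (lf (nat_lit 35))
(lf (nat_lit 65)))))
(lf (nat_lit 65)))
(lf (nat_lit 65)))
(lf (nat_lit 56)))
(lf (nat_lit 56))))))
(br (nat_lit 3) (br (nat_lit 32) (lf (nat_lit 39))
(br (nat_lit 37) (lf (nat_lit 39))
(br (nat_lit 5) (br (nat_lit 20) (br (nat_lit 24) (br (nat_lit 26) (br (nat_lit 22) (lf (nat_lit 24))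
(br (nat_lit 12) (br (nat_lit 7) (lf (nat_lit 41))
(br (nat_lit 9) (lf (nat_lit 41))
(br (nat_lit 16) (br (nat_lit 4) (lf (nat_lit 42))
(br (nat_lit 11) (br (nat_lit 1) (lf (nat_lit 5))
(br (nat_lit 2) (lf (nat_lit 30))
(br (nat_lit 14) (lf (nat_lit 13))
(lf (nat_lit 15)))))
(lf (nat_lit 64))))
(lf (nat_lit 11)))))
(lf (nat_lit 74))))
(lf (nat_lit 65)))
(lf (nat_lit 65)))
(lf (nat_lit 56)))
(lf (nat_lit 56)))))
(br (nat_lit 12) (br (nat_lit 21) (br (nat_lit 22) (br (nat_lit 41) (br (nat_lit 11) (br (nat_lit 1) (lf (nat_lit 5))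
(br (nat_lit 5) (lf (nat_lit 5))
(br (nat_lit 31) (lf (nat_lit 5))
(br (nat_lit 38) (lf (nat_lit 5))
(br (nat_lit 64) (lf (nat_lit 5))
(br (nat_lit 14) (br (nat_lit 20) (br (nat_lit 8) (lf (nat_lit 34))
(br (nat_lit 18) (br (nat_lit 4) (lf (nat_lit 51))
(br (nat_lit 16) (br (nat_lit 2) (lf (nat_lit 9))
(br (nat_lit 7) (lf (nat_lit 22))
(br (nat_lit 9) (lf (nat_lit 11))
(lf (nat_lit 13)))))
(lf (nat_lit 13))))
(lf (nat_lit 63))))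
(lf (nat_lit 40)))
(lf (nat_lit 40))))))))
(br (nat_lit 18) (br (nat_lit 4) (lf (nat_lit 51))
(br (nat_lit 5) (br (nat_lit 1) (lf (nat_lit 5))
(br (nat_lit 28) (br (nat_lit 9) (lf (nat_lit 12))
(br (nat_lit 16) (br (nat_lit 14) (br (nat_lit 2) (lf (nat_lit 9))
(lf (nat_lit 13)))
(lf (nat_lit 15)))
(lf (nat_lit 13))))
(lf (nat_lit 58))))
(lf (nat_lit 64))))
(lf (nat_lit 58))))
(lf (nat_lit 74)))
(lf (nat_lit 74)))
(lf (nat_lit 74)))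
(lf (nat_lit 74)))))
(br (nat_lit 60) (br (nat_lit 21) (br (nat_lit 4) (lf (nat_lit 51))
(br (nat_lit 8) (lf (nat_lit 34))
(br (nat_lit 18) (lf (nat_lit 51))
(br (nat_lit 20) (lf (nat_lit 34))
(br (nat_lit 16) (br (nat_lit 30) (lf (nat_lit 51))
(br (nat_lit 32) (lf (nat_lit 34))
(br (nat_lit 7) (br (nat_lit 11) (br (nat_lit 14) (lf (nat_lit 22))
(br (nat_lit 1) (br (nat_lit 5) (lf (nat_lit 5))
(br (nat_lit 12) (br (nat_lit 9) (lf (nat_lit 41))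
(br (nat_lit 2) (br (nat_lit 3) (lf (nat_lit 44))
(br (nat_lit 22) (br (nat_lit 24) (lf (nat_lit 22))
(lf (nat_lit 6)))
(lf (nat_lit 11))))
(lf (nat_lit 13))))
(lf (nat_lit 15))))
(lf (nat_lit 15))))
(lf (nat_lit 67)))
(lf (nat_lit 67)))))
(lf (nat_lit 13)))))))
(br (nat_lit 1) (br (nat_lit 30) (br (nat_lit 4) (lf (nat_lit 51))
(br (nat_lit 18) (lf (nat_lit 51))
(br (nat_lit 39) (br (nat_lit 43) (lf (nat_lit 51))
(br (nat_lit 44) (lf (nat_lit 51))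
(br (nat_lit 46) (br (nat_lit 5) (lf (nat_lit 35))
(br (nat_lit 11) (br (nat_lit 12) (br (nat_lit 3) (lf (nat_lit 74))
(br (nat_lit 7) (lf (nat_lit 41))
(br (nat_lit 9) (lf (nat_lit 14))
(lf (nat_lit 11)))))
(lf (nat_lit 42)))
(lf (nat_lit 64))))
(lf (nat_lit 59)))))
(lf (nat_lit 59)))))
(lf (nat_lit 59)))
(lf (nat_lit 59))))
(br (nat_lit 21) (lf (nat_lit 20))
(br (nat_lit 41) (br (nat_lit 1) (br (nat_lit 5) (lf (nat_lit 5))
(br (nat_lit 11) (lf (nat_lit 5))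
(br (nat_lit 4) (br (nat_lit 22) (br (nat_lit 30) (br (nat_lit 9) (lf (nat_lit 14))
(br (nat_lit 12) (lf (nat_lit 14))
(br (nat_lit 18) (lf (nat_lit 51))
(br (nat_lit 26) (lf (nat_lit 14))
(br (nat_lit 31) (lf (nat_lit 5))
(br (nat_lit 2) (br (nat_lit 24) (br (nat_lit 37) (br (nat_lit 38) (lf (nat_lit 5))
(lf (nat_lit 63)))
(lf (nat_lit 64)))
(lf (nat_lit 29)))
(lf (nat_lit 29))))))))
(lf (nat_lit 67)))
(lf (nat_lit 64)))
(lf (nat_lit 64)))))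
(lf (nat_lit 40)))
(lf (nat_lit 20))))))
(lf (nat_lit 16))))

open Dt in
noncomputable def t5 : Dt :=
(br (nat_lit 45) (br (nat_lit 49) (lf (nat_lit 16))
(br (nat_lit 0) (br (nat_lit 39) (br (nat_lit 3) (lf (nat_lit 39))
(br (nat_lit 32) (lf (nat_lit 39))
(br (nat_lit 37) (lf (nat_lit 39))
(br (nat_lit 5) (br (nat_lit 20) (br (nat_lit 24) (br (nat_lit 7) (lf (nat_lit 33))
(br (nat_lit 11) (lf (nat_lit 33))
(br (nat_lit 2) (br (nat_lit 12) (br (nat_lit 9) (lf (nat_lit 41))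
(br (nat_lit 4) (lf (nat_lit 8))
(br (nat_lit 14) (lf (nat_lit 8))
(br (nat_lit 16) (br (nat_lit 1) (br (nat_lit 8) (lf (nat_lit 9))
(br (nat_lit 21) (lf (nat_lit 40))
(lf (nat_lit 67))))
(lf (nat_lit 15)))
(lf (nat_lit 13))))))
(lf (nat_lit 23)))
(lf (nat_lit 30)))))
(lf (nat_lit 65)))
(lf (nat_lit 56)))
(lf (nat_lit 56))))))
(br (nat_lit 3) (br (nat_lit 32) (lf (nat_lit 39))
(br (nat_lit 37) (lf (nat_lit 39))
(br (nat_lit 5) (br (nat_lit 20) (br (nat_lit 24) (br (nat_lit 26) (br (nat_lit 22) (lf (nat_lit 24))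
(br (nat_lit 9) (br (nat_lit 1) (lf (nat_lit 38))
(br (nat_lit 7) (lf (nat_lit 41))
(br (nat_lit 12) (lf (nat_lit 41))
(lf (nat_lit 74)))))
(lf (nat_lit 47))))
(lf (nat_lit 65)))
(lf (nat_lit 65)))
(lf (nat_lit 56)))
(lf (nat_lit 56)))))
(br (nat_lit 12) (br (nat_lit 21) (br (nat_lit 22) (br (nat_lit 41) (br (nat_lit 5) (br (nat_lit 1) (lf (nat_lit 5))
(br (nat_lit 11) (lf (nat_lit 5))
(br (nat_lit 2) (br (nat_lit 18) (br (nat_lit 4) (lf (nat_lit 51))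
(br (nat_lit 28) (br (nat_lit 9) (lf (nat_lit 12))
(br (nat_lit 16) (br (nat_lit 8) (lf (nat_lit 9))
(br (nat_lit 14) (lf (nat_lit 9))
(lf (nat_lit 15))))
(lf (nat_lit 13))))
(lf (nat_lit 58))))
(lf (nat_lit 58)))
(lf (nat_lit 30)))))
(br (nat_lit 11) (br (nat_lit 1) (lf (nat_lit 5))
(br (nat_lit 31) (lf (nat_lit 5))
(br (nat_lit 28) (br (nat_lit 20) (lf (nat_lit 24))
(br (nat_lit 14) (br (nat_lit 7) (lf (nat_lit 22))
(br (nat_lit 16) (lf (nat_lit 22))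
(lf (nat_lit 13))))
(lf (nat_lit 40))))
(lf (nat_lit 10)))))
(lf (nat_lit 30))))
(lf (nat_lit 74)))
(lf (nat_lit 74)))
(lf (nat_lit 74)))
(lf (nat_lit 74)))))
(br (nat_lit 48) (br (nat_lit 22) (br (nat_lit 4) (lf (nat_lit 26))
(br (nat_lit 8) (lf (nat_lit 26))
(br (nat_lit 20) (lf (nat_lit 24))
(br (nat_lit 16) (br (nat_lit 26) (lf (nat_lit 24))
(br (nat_lit 28) (lf (nat_lit 24))
(br (nat_lit 24) (br (nat_lit 7) (lf (nat_lit 22))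
(lf (nat_lit 23)))
(lf (nat_lit 52)))))
(lf (nat_lit 13))))))
(br (nat_lit 5) (br (nat_lit 9) (br (nat_lit 26) (br (nat_lit 20) (lf (nat_lit 24))
(br (nat_lit 28) (lf (nat_lit 24))
(br (nat_lit 30) (lf (nat_lit 35))
(br (nat_lit 7) (br (nat_lit 12) (lf (nat_lit 41))
(br (nat_lit 24) (lf (nat_lit 23))
(br (nat_lit 8) (br (nat_lit 4) (lf (nat_lit 26))
(br (nat_lit 14) (br (nat_lit 2) (lf (nat_lit 9))
(lf (nat_lit 13)))
(lf (nat_lit 8))))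
(lf (nat_lit 6)))))
(lf (nat_lit 23))))))
(lf (nat_lit 47)))
(lf (nat_lit 47)))
(lf (nat_lit 47))))
(br (nat_lit 12) (br (nat_lit 22) (lf (nat_lit 21))
(br (nat_lit 9) (br (nat_lit 7) (lf (nat_lit 41))
(br (nat_lit 24) (lf (nat_lit 41))
(br (nat_lit 16) (br (nat_lit 29) (lf (nat_lit 41))
(br (nat_lit 43) (br (nat_lit 46) (lf (nat_lit 41))
(br (nat_lit 54) (lf (nat_lit 41))
(br (nat_lit 20) (br (nat_lit 57) (br (nat_lit 11) (lf (nat_lit 22))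
(br (nat_lit 5) (br (nat_lit 4) (lf (nat_lit 42))
(br (nat_lit 14) (lf (nat_lit 22))
(lf (nat_lit 8))))
(lf (nat_lit 64))))
(lf (nat_lit 45)))
(lf (nat_lit 45)))))
(lf (nat_lit 11))))
(lf (nat_lit 11)))))
(lf (nat_lit 11))))
(lf (nat_lit 21))))))
(br (nat_lit 49) (br (nat_lit 0) (br (nat_lit 39) (br (nat_lit 3) (lf (nat_lit 39))
(br (nat_lit 32) (lf (nat_lit 39))
(br (nat_lit 37) (lf (nat_lit 39))
(br (nat_lit 5) (br (nat_lit 20) (br (nat_lit 24) (br (nat_lit 7) (lf (nat_lit 33))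
(br (nat_lit 11) (lf (nat_lit 33))
(br (nat_lit 2) (br (nat_lit 12) (br (nat_lit 9) (lf (nat_lit 41))
(br (nat_lit 4) (lf (nat_lit 8))
(br (nat_lit 14) (lf (nat_lit 8))
(br (nat_lit 16) (br (nat_lit 1) (br (nat_lit 8) (lf (nat_lit 9))
(br (nat_lit 21) (lf (nat_lit 40))
(lf (nat_lit 67))))
(lf (nat_lit 15)))
(lf (nat_lit 13))))))
(lf (nat_lit 23)))
(lf (nat_lit 30)))))
(lf (nat_lit 65)))
(lf (nat_lit 56)))
(lf (nat_lit 56))))))
(br (nat_lit 3) (br (nat_lit 32) (lf (nat_lit 39))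
(br (nat_lit 37) (lf (nat_lit 39))
(br (nat_lit 5) (br (nat_lit 20) (br (nat_lit 24) (br (nat_lit 26) (br (nat_lit 22) (lf (nat_lit 24))
(br (nat_lit 12) (br (nat_lit 7) (lf (nat_lit 41))
(br (nat_lit 9) (lf (nat_lit 41))
(br (nat_lit 16) (br (nat_lit 4) (lf (nat_lit 42))
(br (nat_lit 11) (lf (nat_lit 22))
(lf (nat_lit 64))))
(lf (nat_lit 11)))))
(lf (nat_lit 74))))
(lf (nat_lit 65)))
(lf (nat_lit 65)))
(lf (nat_lit 56)))
(lf (nat_lit 56)))))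
(br (nat_lit 12) (br (nat_lit 21) (br (nat_lit 22) (br (nat_lit 41) (br (nat_lit 5) (br (nat_lit 1) (lf (nat_lit 5))
(br (nat_lit 11) (lf (nat_lit 5))
(br (nat_lit 2) (br (nat_lit 18) (br (nat_lit 4) (lf (nat_lit 42))
(br (nat_lit 28) (br (nat_lit 9) (lf (nat_lit 12))
(br (nat_lit 16) (br (nat_lit 8) (lf (nat_lit 9))
(br (nat_lit 14) (lf (nat_lit 9))
(lf (nat_lit 15))))
(lf (nat_lit 13))))
(lf (nat_lit 58))))
(lf (nat_lit 58)))
(lf (nat_lit 30)))))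
(br (nat_lit 11) (br (nat_lit 1) (lf (nat_lit 5))
(br (nat_lit 31) (lf (nat_lit 5))
(br (nat_lit 28) (br (nat_lit 20) (lf (nat_lit 24))
(br (nat_lit 14) (br (nat_lit 7) (lf (nat_lit 22))
(br (nat_lit 16) (lf (nat_lit 22))
(lf (nat_lit 13))))
(lf (nat_lit 40))))
(lf (nat_lit 10)))))
(lf (nat_lit 30))))
(lf (nat_lit 74)))
(lf (nat_lit 74)))
(lf (nat_lit 74)))
(lf (nat_lit 74)))))
(br (nat_lit 60) (br (nat_lit 21) (br (nat_lit 4) (lf (nat_lit 51))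
(br (nat_lit 8) (lf (nat_lit 34))
(br (nat_lit 18) (lf (nat_lit 51))
(br (nat_lit 20) (lf (nat_lit 34))
(br (nat_lit 16) (br (nat_lit 30) (lf (nat_lit 51))
(br (nat_lit 32) (lf (nat_lit 34))
(br (nat_lit 7) (br (nat_lit 9) (br (nat_lit 11) (lf (nat_lit 22))
(lf (nat_lit 67)))
(lf (nat_lit 6)))
(lf (nat_lit 67)))))
(lf (nat_lit 13)))))))
(br (nat_lit 1) (br (nat_lit 30) (br (nat_lit 4) (lf (nat_lit 51))
(br (nat_lit 18) (lf (nat_lit 51))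
(br (nat_lit 39) (br (nat_lit 43) (lf (nat_lit 51))
(br (nat_lit 44) (lf (nat_lit 51))
(br (nat_lit 46) (br (nat_lit 5) (lf (nat_lit 35))
(br (nat_lit 11) (br (nat_lit 12) (br (nat_lit 3) (lf (nat_lit 74))
(br (nat_lit 7) (lf (nat_lit 41))
(br (nat_lit 9) (lf (nat_lit 14))
(lf (nat_lit 11)))))
(lf (nat_lit 42)))
(lf (nat_lit 64))))
(lf (nat_lit 59)))))
(lf (nat_lit 59)))))
(lf (nat_lit 59)))
(lf (nat_lit 59))))
(br (nat_lit 21) (lf (nat_lit 20))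
(br (nat_lit 41) (br (nat_lit 1) (br (nat_lit 5) (lf (nat_lit 5))
(br (nat_lit 11) (lf (nat_lit 5))
(br (nat_lit 2) (br (nat_lit 3) (br (nat_lit 4) (br (nat_lit 22) (br (nat_lit 12) (lf (nat_lit 74))
(br (nat_lit 30) (br (nat_lit 9) (lf (nat_lit 14))
(br (nat_lit 18) (lf (nat_lit 51))
(br (nat_lit 26) (lf (nat_lit 14))
(br (nat_lit 31) (lf (nat_lit 5))
(br (nat_lit 24) (br (nat_lit 7) (br (nat_lit 14) (lf (nat_lit 22))
(br (nat_lit 16) (lf (nat_lit 13))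
(br (nat_lit 20) (br (nat_lit 28) (lf (nat_lit 24))
(br (nat_lit 29) (lf (nat_lit 41))
(br (nat_lit 37) (lf (nat_lit 22))
(lf (nat_lit 64)))))
(lf (nat_lit 13)))))
(lf (nat_lit 23)))
(lf (nat_lit 29)))))))
(lf (nat_lit 30))))
(lf (nat_lit 64)))
(lf (nat_lit 64)))
(lf (nat_lit 30)))
(lf (nat_lit 30)))))
(lf (nat_lit 40)))
(lf (nat_lit 20))))))
(lf (nat_lit 16))))

open Dt in
noncomputable def t6 : Dt :=
(br (nat_lit 34) (br (nat_lit 70) (lf (nat_lit 70))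
(br (nat_lit 35) (br (nat_lit 45) (lf (nat_lit 16))
(br (nat_lit 49) (lf (nat_lit 16))
(br (nat_lit 0) (br (nat_lit 39) (br (nat_lit 3) (lf (nat_lit 39))
(br (nat_lit 32) (lf (nat_lit 39))
(br (nat_lit 37) (lf (nat_lit 39))
(br (nat_lit 5) (br (nat_lit 20) (br (nat_lit 43) (br (nat_lit 46) (br (nat_lit 26) (lf (nat_lit 35))
(br (nat_lit 2) (br (nat_lit 4) (lf (nat_lit 48))
(br (nat_lit 12) (br (nat_lit 7) (lf (nat_lit 41))
(br (nat_lit 9) (lf (nat_lit 41))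
(br (nat_lit 14) (lf (nat_lit 8))
(br (nat_lit 16) (br (nat_lit 1) (br (nat_lit 8) (lf (nat_lit 9))
(br (nat_lit 11) (lf (nat_lit 5))
(br (nat_lit 18) (br (nat_lit 21) (lf (nat_lit 40))
(lf (nat_lit 67)))
(lf (nat_lit 42)))))
(lf (nat_lit 15)))
(lf (nat_lit 13))))))
(lf (nat_lit 42))))
(lf (nat_lit 60))))
(lf (nat_lit 56)))
(lf (nat_lit 56)))
(lf (nat_lit 56)))
(lf (nat_lit 56))))))
(br (nat_lit 3) (br (nat_lit 32) (lf (nat_lit 39))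
(br (nat_lit 37) (lf (nat_lit 39))
(br (nat_lit 5) (br (nat_lit 20) (br (nat_lit 43) (br (nat_lit 2) (lf (nat_lit 48))
(br (nat_lit 4) (lf (nat_lit 48))
(br (nat_lit 12) (br (nat_lit 16) (br (nat_lit 9) (lf (nat_lit 11))
(br (nat_lit 14) (lf (nat_lit 13))
(br (nat_lit 1) (br (nat_lit 11) (lf (nat_lit 5))
(br (nat_lit 18) (br (nat_lit 21) (lf (nat_lit 40))
(br (nat_lit 7) (br (nat_lit 22) (lf (nat_lit 48))
(lf (nat_lit 74)))
(lf (nat_lit 67))))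
(lf (nat_lit 42))))
(lf (nat_lit 15)))))
(lf (nat_lit 13)))
(lf (nat_lit 42)))))
(lf (nat_lit 56)))
(lf (nat_lit 56)))
(lf (nat_lit 56)))))
(br (nat_lit 11) (br (nat_lit 12) (br (nat_lit 18) (br (nat_lit 21) (br (nat_lit 4) (lf (nat_lit 51))
(br (nat_lit 22) (br (nat_lit 28) (br (nat_lit 20) (lf (nat_lit 24))
(br (nat_lit 16) (br (nat_lit 9) (lf (nat_lit 11))
(br (nat_lit 2) (br (nat_lit 8) (lf (nat_lit 9))
(br (nat_lit 14) (lf (nat_lit 9))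
(br (nat_lit 1) (br (nat_lit 5) (lf (nat_lit 5))
(br (nat_lit 26) (lf (nat_lit 24))
(lf (nat_lit 47))))
(lf (nat_lit 15)))))
(lf (nat_lit 13))))
(lf (nat_lit 13))))
(lf (nat_lit 58)))
(lf (nat_lit 74))))
(lf (nat_lit 74)))
(lf (nat_lit 58)))
(lf (nat_lit 74)))
(lf (nat_lit 58)))))
(br (nat_lit 59) (br (nat_lit 3) (br (nat_lit 2) (lf (nat_lit 48))
(br (nat_lit 4) (lf (nat_lit 48))
(br (nat_lit 16) (br (nat_lit 22) (lf (nat_lit 48))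
(br (nat_lit 5) (br (nat_lit 26) (br (nat_lit 30) (lf (nat_lit 35))
(br (nat_lit 32) (lf (nat_lit 39))
(br (nat_lit 7) (br (nat_lit 11) (br (nat_lit 1) (lf (nat_lit 5))
(br (nat_lit 14) (lf (nat_lit 22))
(lf (nat_lit 15))))
(lf (nat_lit 67)))
(lf (nat_lit 67)))))
(lf (nat_lit 60)))
(lf (nat_lit 64))))
(lf (nat_lit 13)))))
(br (nat_lit 11) (br (nat_lit 18) (br (nat_lit 28) (br (nat_lit 39) (br (nat_lit 32) (lf (nat_lit 39))
(br (nat_lit 37) (lf (nat_lit 39))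
(br (nat_lit 5) (br (nat_lit 1) (lf (nat_lit 5))
(br (nat_lit 9) (br (nat_lit 20) (br (nat_lit 22) (lf (nat_lit 24))
(br (nat_lit 26) (lf (nat_lit 24))
(lf (nat_lit 60))))
(lf (nat_lit 56)))
(lf (nat_lit 38))))
(lf (nat_lit 56)))))
(lf (nat_lit 58)))
(lf (nat_lit 58)))
(lf (nat_lit 58)))
(lf (nat_lit 58))))
(br (nat_lit 3) (lf (nat_lit 2))
(br (nat_lit 29) (br (nat_lit 31) (br (nat_lit 44) (br (nat_lit 47) (br (nat_lit 62) (br (nat_lit 7) (lf (nat_lit 41))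
(br (nat_lit 9) (lf (nat_lit 41))
(br (nat_lit 1) (br (nat_lit 5) (lf (nat_lit 5))
(br (nat_lit 11) (lf (nat_lit 5))
(lf (nat_lit 30))))
(lf (nat_lit 38)))))
(lf (nat_lit 28)))
(lf (nat_lit 2)))
(lf (nat_lit 2)))
(lf (nat_lit 2)))
(lf (nat_lit 2))))))))
t4))
(br (nat_lit 70) (br (nat_lit 35) (br (nat_lit 45) (lf (nat_lit 16))
(br (nat_lit 49) (lf (nat_lit 16))
(br (nat_lit 0) (br (nat_lit 39) (br (nat_lit 3) (lf (nat_lit 39))
(br (nat_lit 32) (lf (nat_lit 39))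
(br (nat_lit 37) (lf (nat_lit 39))
(br (nat_lit 5) (br (nat_lit 20) (br (nat_lit 43) (br (nat_lit 46) (br (nat_lit 26) (lf (nat_lit 35))
(br (nat_lit 2) (br (nat_lit 4) (lf (nat_lit 48))
(br (nat_lit 12) (br (nat_lit 7) (lf (nat_lit 41))
(br (nat_lit 9) (lf (nat_lit 41))
(br (nat_lit 14) (lf (nat_lit 8))
(br (nat_lit 16) (br (nat_lit 1) (br (nat_lit 8) (lf (nat_lit 9))
(br (nat_lit 11) (lf (nat_lit 5))
(br (nat_lit 18) (br (nat_lit 21) (lf (nat_lit 40))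
(lf (nat_lit 67)))
(lf (nat_lit 42)))))
(lf (nat_lit 15)))
(lf (nat_lit 13))))))
(lf (nat_lit 42))))
(lf (nat_lit 60))))
(lf (nat_lit 56)))
(lf (nat_lit 56)))
(lf (nat_lit 56)))
(lf (nat_lit 56))))))
(br (nat_lit 3) (br (nat_lit 32) (lf (nat_lit 39))
(br (nat_lit 37) (lf (nat_lit 39))
(br (nat_lit 5) (br (nat_lit 20) (br (nat_lit 43) (br (nat_lit 2) (lf (nat_lit 48))
(br (nat_lit 4) (lf (nat_lit 48))
(br (nat_lit 12) (br (nat_lit 16) (br (nat_lit 9) (lf (nat_lit 11))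
(br (nat_lit 14) (lf (nat_lit 13))
(br (nat_lit 1) (br (nat_lit 11) (lf (nat_lit 5))
(br (nat_lit 18) (br (nat_lit 21) (lf (nat_lit 40))
(br (nat_lit 7) (br (nat_lit 8) (br (nat_lit 22) (lf (nat_lit 48))
(lf (nat_lit 74)))
(lf (nat_lit 6)))
(lf (nat_lit 67))))
(lf (nat_lit 42))))
(lf (nat_lit 15)))))
(lf (nat_lit 13)))
(lf (nat_lit 42)))))
(lf (nat_lit 56)))
(lf (nat_lit 56)))
(lf (nat_lit 56)))))
(br (nat_lit 11) (br (nat_lit 12) (br (nat_lit 18) (br (nat_lit 21) (br (nat_lit 4) (lf (nat_lit 51))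
(br (nat_lit 22) (br (nat_lit 28) (br (nat_lit 20) (lf (nat_lit 24))
(br (nat_lit 16) (br (nat_lit 7) (lf (nat_lit 22))
(br (nat_lit 9) (lf (nat_lit 11))
(br (nat_lit 2) (br (nat_lit 8) (lf (nat_lit 9))
(br (nat_lit 14) (lf (nat_lit 9))
(br (nat_lit 1) (br (nat_lit 5) (lf (nat_lit 5))
(br (nat_lit 24) (lf (nat_lit 22))
(lf (nat_lit 6))))
(lf (nat_lit 15)))))
(lf (nat_lit 13)))))
(lf (nat_lit 13))))
(lf (nat_lit 58)))
(lf (nat_lit 74))))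
(lf (nat_lit 74)))
(lf (nat_lit 58)))
(lf (nat_lit 74)))
(lf (nat_lit 58)))))
(br (nat_lit 59) (br (nat_lit 3) (br (nat_lit 2) (lf (nat_lit 48))
(br (nat_lit 4) (lf (nat_lit 48))
(br (nat_lit 16) (br (nat_lit 22) (lf (nat_lit 48))
(br (nat_lit 5) (br (nat_lit 26) (br (nat_lit 30) (lf (nat_lit 35))
(br (nat_lit 11) (br (nat_lit 1) (lf (nat_lit 5))
(br (nat_lit 7) (lf (nat_lit 22))
(br (nat_lit 12) (br (nat_lit 9) (br (nat_lit 14) (lf (nat_lit 22))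
(lf (nat_lit 15)))
(lf (nat_lit 11)))
(lf (nat_lit 23)))))
(lf (nat_lit 30))))
(lf (nat_lit 60)))
(lf (nat_lit 64))))
(lf (nat_lit 13)))))
(br (nat_lit 11) (br (nat_lit 18) (br (nat_lit 28) (br (nat_lit 39) (br (nat_lit 32) (lf (nat_lit 39))
(br (nat_lit 37) (lf (nat_lit 39))
(br (nat_lit 5) (br (nat_lit 1) (lf (nat_lit 5))
(br (nat_lit 9) (br (nat_lit 20) (br (nat_lit 22) (lf (nat_lit 24))
(br (nat_lit 26) (lf (nat_lit 24))
(lf (nat_lit 60))))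
(lf (nat_lit 56)))
(lf (nat_lit 38))))
(lf (nat_lit 56)))))
(lf (nat_lit 58)))
(lf (nat_lit 58)))
(lf (nat_lit 58)))
(lf (nat_lit 58))))
(br (nat_lit 3) (lf (nat_lit 2))
(br (nat_lit 29) (br (nat_lit 31) (br (nat_lit 11) (br (nat_lit 1) (lf (nat_lit 5))
(br (nat_lit 5) (lf (nat_lit 5))
(br (nat_lit 2) (br (nat_lit 7) (lf (nat_lit 22))
(br (nat_lit 9) (br (nat_lit 12) (lf (nat_lit 41))
(br (nat_lit 4) (br (nat_lit 14) (lf (nat_lit 22))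
(lf (nat_lit 8)))
(lf (nat_lit 8))))
(lf (nat_lit 38))))
(lf (nat_lit 30)))))
(lf (nat_lit 30)))
(lf (nat_lit 2)))
(lf (nat_lit 2))))))))
t5)
(lf (nat_lit 70))))

open Dt in
noncomputable def t7 : Dt :=
(br (nat_lit 27) (br (nat_lit 35) (lf (nat_lit 16))
(br (nat_lit 45) (lf (nat_lit 16))
(br (nat_lit 49) (lf (nat_lit 16))
(br (nat_lit 33) (br (nat_lit 34) (lf (nat_lit 70))
(br (nat_lit 70) (lf (nat_lit 70))
(br (nat_lit 0) (br (nat_lit 3) (br (nat_lit 32) (lf (nat_lit 39))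
(br (nat_lit 37) (lf (nat_lit 39))
(br (nat_lit 39) (lf (nat_lit 39))
(br (nat_lit 12) (br (nat_lit 21) (br (nat_lit 2) (lf (nat_lit 44))
(br (nat_lit 20) (lf (nat_lit 44))
(br (nat_lit 1) (br (nat_lit 5) (br (nat_lit 11) (lf (nat_lit 5))
(br (nat_lit 14) (lf (nat_lit 40))
(br (nat_lit 16) (br (nat_lit 4) (lf (nat_lit 42))
(br (nat_lit 22) (br (nat_lit 9) (lf (nat_lit 11))
(br (nat_lit 24) (br (nat_lit 7) (lf (nat_lit 33))
(br (nat_lit 26) (br (nat_lit 28) (lf (nat_lit 24))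
(lf (nat_lit 23)))
(lf (nat_lit 55))))
(lf (nat_lit 6))))
(lf (nat_lit 74))))
(lf (nat_lit 54)))))
(lf (nat_lit 56)))
(lf (nat_lit 54)))))
(lf (nat_lit 74)))
(lf (nat_lit 74))))))
(br (nat_lit 39) (br (nat_lit 7) (lf (nat_lit 33))
(br (nat_lit 11) (lf (nat_lit 33))
(br (nat_lit 2) (br (nat_lit 5) (br (nat_lit 18) (br (nat_lit 24) (lf (nat_lit 33))
(br (nat_lit 28) (br (nat_lit 30) (br (nat_lit 4) (lf (nat_lit 51))
(br (nat_lit 21) (lf (nat_lit 51))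
(br (nat_lit 12) (br (nat_lit 22) (br (nat_lit 9) (lf (nat_lit 47))
(br (nat_lit 8) (br (nat_lit 14) (lf (nat_lit 8))
(br (nat_lit 16) (lf (nat_lit 9))
(lf (nat_lit 11))))
(lf (nat_lit 6))))
(lf (nat_lit 74)))
(lf (nat_lit 74)))))
(lf (nat_lit 30)))
(lf (nat_lit 58))))
(lf (nat_lit 58)))
(lf (nat_lit 30)))
(lf (nat_lit 30)))))
(lf (nat_lit 74))))
(br (nat_lit 39) (br (nat_lit 1) (br (nat_lit 9) (br (nat_lit 48) (br (nat_lit 59) (br (nat_lit 3) (lf (nat_lit 39))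
(br (nat_lit 11) (br (nat_lit 5) (lf (nat_lit 5))
(br (nat_lit 7) (lf (nat_lit 33))
(br (nat_lit 18) (br (nat_lit 24) (lf (nat_lit 33))
(br (nat_lit 28) (br (nat_lit 12) (lf (nat_lit 12))
(br (nat_lit 4) (br (nat_lit 2) (lf (nat_lit 48))
(br (nat_lit 14) (br (nat_lit 20) (lf (nat_lit 24))
(br (nat_lit 16) (br (nat_lit 8) (lf (nat_lit 9))
(br (nat_lit 21) (lf (nat_lit 51))
(br (nat_lit 22) (lf (nat_lit 11))
(lf (nat_lit 74)))))
(lf (nat_lit 13))))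
(lf (nat_lit 8))))
(lf (nat_lit 8))))
(lf (nat_lit 58))))
(lf (nat_lit 58)))))
(lf (nat_lit 58))))
(lf (nat_lit 38)))
(lf (nat_lit 38)))
(lf (nat_lit 38)))
(lf (nat_lit 38)))
(br (nat_lit 3) (br (nat_lit 59) (br (nat_lit 2) (lf (nat_lit 44))
(br (nat_lit 20) (lf (nat_lit 44))
(br (nat_lit 21) (lf (nat_lit 44))
(br (nat_lit 1) (br (nat_lit 12) (br (nat_lit 22) (br (nat_lit 4) (lf (nat_lit 48))
(br (nat_lit 16) (br (nat_lit 30) (br (nat_lit 9) (lf (nat_lit 14))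
(br (nat_lit 14) (lf (nat_lit 13))
(br (nat_lit 24) (br (nat_lit 7) (lf (nat_lit 41))
(br (nat_lit 26) (lf (nat_lit 14))
(br (nat_lit 11) (br (nat_lit 5) (lf (nat_lit 5))
(br (nat_lit 28) (br (nat_lit 29) (lf (nat_lit 41))
(lf (nat_lit 55)))
(lf (nat_lit 23))))
(lf (nat_lit 55)))))
(lf (nat_lit 11)))))
(lf (nat_lit 59)))
(lf (nat_lit 13))))
(lf (nat_lit 74)))
(lf (nat_lit 74)))
(lf (nat_lit 40))))))
(lf (nat_lit 2)))
(br (nat_lit 11) (br (nat_lit 12) (br (nat_lit 18) (br (nat_lit 21) (br (nat_lit 4) (lf (nat_lit 51))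
(br (nat_lit 22) (br (nat_lit 28) (br (nat_lit 20) (lf (nat_lit 24))
(br (nat_lit 26) (lf (nat_lit 24))
(br (nat_lit 30) (lf (nat_lit 51))
(br (nat_lit 41) (br (nat_lit 1) (lf (nat_lit 5))
(lf (nat_lit 40)))
(lf (nat_lit 74))))))
(lf (nat_lit 58)))
(lf (nat_lit 74))))
(lf (nat_lit 74)))
(lf (nat_lit 58)))
(lf (nat_lit 74)))
(lf (nat_lit 58))))))))
t2))))
(br (nat_lit 33) (br (nat_lit 34) (lf (nat_lit 70))
(br (nat_lit 70) (lf (nat_lit 70))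
(br (nat_lit 35) (br (nat_lit 45) (lf (nat_lit 16))
(br (nat_lit 49) (lf (nat_lit 16))
(br (nat_lit 0) (br (nat_lit 3) (br (nat_lit 32) (lf (nat_lit 39))
(br (nat_lit 37) (lf (nat_lit 39))
(br (nat_lit 39) (lf (nat_lit 39))
(br (nat_lit 12) (br (nat_lit 21) (br (nat_lit 22) (br (nat_lit 2) (lf (nat_lit 48))
(br (nat_lit 4) (lf (nat_lit 48))
(br (nat_lit 5) (br (nat_lit 26) (br (nat_lit 20) (lf (nat_lit 24))
(br (nat_lit 16) (br (nat_lit 9) (lf (nat_lit 11))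
(br (nat_lit 14) (lf (nat_lit 13))
(br (nat_lit 24) (br (nat_lit 7) (lf (nat_lit 33))
(br (nat_lit 11) (lf (nat_lit 33))
(br (nat_lit 28) (lf (nat_lit 24))
(lf (nat_lit 23)))))
(lf (nat_lit 6)))))
(lf (nat_lit 13))))
(lf (nat_lit 60)))
(lf (nat_lit 64)))))
(lf (nat_lit 74)))
(lf (nat_lit 74)))
(lf (nat_lit 74))))))
(br (nat_lit 39) (br (nat_lit 7) (lf (nat_lit 33))
(br (nat_lit 11) (lf (nat_lit 33))
(br (nat_lit 2) (br (nat_lit 5) (br (nat_lit 18) (br (nat_lit 24) (lf (nat_lit 33))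
(br (nat_lit 28) (br (nat_lit 30) (br (nat_lit 4) (lf (nat_lit 51))
(br (nat_lit 21) (lf (nat_lit 51))
(br (nat_lit 12) (br (nat_lit 22) (br (nat_lit 20) (lf (nat_lit 24))
(br (nat_lit 26) (lf (nat_lit 24))
(br (nat_lit 31) (lf (nat_lit 30))
(br (nat_lit 32) (lf (nat_lit 39))
(lf (nat_lit 67))))))
(lf (nat_lit 74)))
(lf (nat_lit 74)))))
(lf (nat_lit 30)))
(lf (nat_lit 58))))
(lf (nat_lit 58)))
(lf (nat_lit 30)))
(lf (nat_lit 30)))))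
(lf (nat_lit 74))))
(br (nat_lit 39) (br (nat_lit 1) (br (nat_lit 9) (br (nat_lit 48) (br (nat_lit 59) (br (nat_lit 2) (lf (nat_lit 48))
(br (nat_lit 3) (lf (nat_lit 39))
(br (nat_lit 4) (lf (nat_lit 48))
(br (nat_lit 11) (br (nat_lit 5) (lf (nat_lit 5))
(br (nat_lit 7) (lf (nat_lit 33))
(br (nat_lit 12) (br (nat_lit 14) (lf (nat_lit 8))
(br (nat_lit 16) (br (nat_lit 18) (br (nat_lit 20) (lf (nat_lit 13))
(br (nat_lit 22) (lf (nat_lit 48))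
(lf (nat_lit 47))))
(lf (nat_lit 42)))
(lf (nat_lit 42))))
(lf (nat_lit 8)))))
(lf (nat_lit 30))))))
(lf (nat_lit 38)))
(lf (nat_lit 38)))
(lf (nat_lit 38)))
(lf (nat_lit 38)))
(br (nat_lit 3) (br (nat_lit 59) (br (nat_lit 2) (lf (nat_lit 48))
(br (nat_lit 4) (lf (nat_lit 48))
(br (nat_lit 22) (lf (nat_lit 48))
(br (nat_lit 5) (br (nat_lit 9) (br (nat_lit 12) (br (nat_lit 7) (lf (nat_lit 41))
(br (nat_lit 14) (br (nat_lit 16) (br (nat_lit 8) (lf (nat_lit 9))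
(br (nat_lit 21) (br (nat_lit 20) (lf (nat_lit 44))
(br (nat_lit 24) (lf (nat_lit 41))
(br (nat_lit 26) (br (nat_lit 1) (lf (nat_lit 14))
(br (nat_lit 29) (lf (nat_lit 41))
(br (nat_lit 11) (br (nat_lit 30) (lf (nat_lit 14))
(br (nat_lit 28) (br (nat_lit 31) (lf (nat_lit 5))
(lf (nat_lit 2)))
(lf (nat_lit 23))))
(lf (nat_lit 55)))))
(lf (nat_lit 47)))))
(lf (nat_lit 74))))
(lf (nat_lit 13)))
(lf (nat_lit 8))))
(lf (nat_lit 74)))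
(lf (nat_lit 47)))
(lf (nat_lit 47))))))
(lf (nat_lit 2)))
(br (nat_lit 11) (br (nat_lit 12) (br (nat_lit 18) (br (nat_lit 21) (br (nat_lit 4) (lf (nat_lit 51))
(br (nat_lit 22) (br (nat_lit 28) (br (nat_lit 20) (lf (nat_lit 24))
(br (nat_lit 26) (lf (nat_lit 24))
(br (nat_lit 30) (lf (nat_lit 51))
(br (nat_lit 41) (br (nat_lit 1) (lf (nat_lit 5))
(lf (nat_lit 40)))
(lf (nat_lit 74))))))
(lf (nat_lit 58)))
(lf (nat_lit 74))))
(lf (nat_lit 74)))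
(lf (nat_lit 58)))
(lf (nat_lit 74)))
(lf (nat_lit 58))))))))
t3)))
t6))

open Dt in
noncomputable def t8 : Dt :=
(br (nat_lit 19) (br (nat_lit 36) (lf (nat_lit 50))
(br (nat_lit 0) (br (nat_lit 3) (br (nat_lit 32) (lf (nat_lit 39))
(br (nat_lit 37) (lf (nat_lit 39))
(br (nat_lit 39) (lf (nat_lit 39))
(br (nat_lit 12) (br (nat_lit 21) (br (nat_lit 2) (lf (nat_lit 44))
(br (nat_lit 20) (lf (nat_lit 44))
(br (nat_lit 1) (br (nat_lit 5) (br (nat_lit 9) (lf (nat_lit 14))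
(br (nat_lit 11) (lf (nat_lit 5))
(br (nat_lit 16) (br (nat_lit 4) (lf (nat_lit 42))
(br (nat_lit 14) (lf (nat_lit 13))
(br (nat_lit 7) (br (nat_lit 22) (br (nat_lit 24) (lf (nat_lit 41))
(lf (nat_lit 6)))
(lf (nat_lit 74)))
(lf (nat_lit 8)))))
(lf (nat_lit 11)))))
(lf (nat_lit 56)))
(lf (nat_lit 54)))))
(lf (nat_lit 74)))
(lf (nat_lit 74))))))
(br (nat_lit 39) (br (nat_lit 29) (lf (nat_lit 69))
(br (nat_lit 32) (lf (nat_lit 39))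
(br (nat_lit 37) (lf (nat_lit 39))
(br (nat_lit 38) (lf (nat_lit 69))
(br (nat_lit 18) (br (nat_lit 26) (br (nat_lit 57) (lf (nat_lit 39))
(br (nat_lit 58) (lf (nat_lit 69))
(br (nat_lit 59) (lf (nat_lit 39))
(br (nat_lit 2) (br (nat_lit 31) (br (nat_lit 7) (lf (nat_lit 33))
(br (nat_lit 11) (lf (nat_lit 33))
(br (nat_lit 5) (br (nat_lit 1) (lf (nat_lit 5))
(br (nat_lit 9) (br (nat_lit 12) (lf (nat_lit 14))
(lf (nat_lit 8)))
(lf (nat_lit 38))))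
(lf (nat_lit 30)))))
(lf (nat_lit 2)))
(lf (nat_lit 61))))))
(lf (nat_lit 60)))
(lf (nat_lit 43)))))))
(lf (nat_lit 74))))
(br (nat_lit 21) (br (nat_lit 60) (br (nat_lit 2) (lf (nat_lit 44))
(br (nat_lit 3) (lf (nat_lit 44))
(br (nat_lit 4) (lf (nat_lit 51))
(br (nat_lit 18) (lf (nat_lit 51))
(br (nat_lit 11) (br (nat_lit 20) (lf (nat_lit 44))
(br (nat_lit 1) (br (nat_lit 5) (lf (nat_lit 5))
(br (nat_lit 12) (br (nat_lit 9) (lf (nat_lit 14))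
(lf (nat_lit 11)))
(lf (nat_lit 42))))
(lf (nat_lit 40))))
(lf (nat_lit 58)))))))
(lf (nat_lit 20)))
(br (nat_lit 1) (br (nat_lit 3) (br (nat_lit 59) (br (nat_lit 2) (lf (nat_lit 44))
(br (nat_lit 20) (lf (nat_lit 44))
(br (nat_lit 14) (br (nat_lit 16) (br (nat_lit 8) (lf (nat_lit 9))
(br (nat_lit 32) (lf (nat_lit 39))
(br (nat_lit 26) (br (nat_lit 9) (lf (nat_lit 14))
(br (nat_lit 4) (br (nat_lit 12) (lf (nat_lit 11))
(br (nat_lit 22) (lf (nat_lit 48))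
(lf (nat_lit 11))))
(lf (nat_lit 13))))
(lf (nat_lit 60)))))
(lf (nat_lit 13)))
(lf (nat_lit 40)))))
(lf (nat_lit 2)))
(br (nat_lit 39) (br (nat_lit 9) (br (nat_lit 12) (lf (nat_lit 14))
(br (nat_lit 4) (br (nat_lit 7) (br (nat_lit 14) (br (nat_lit 22) (br (nat_lit 5) (lf (nat_lit 47))
(br (nat_lit 24) (lf (nat_lit 41))
(br (nat_lit 26) (lf (nat_lit 14))
(br (nat_lit 29) (lf (nat_lit 41))
(br (nat_lit 2) (br (nat_lit 8) (lf (nat_lit 9))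
(br (nat_lit 16) (lf (nat_lit 9))
(br (nat_lit 11) (br (nat_lit 30) (lf (nat_lit 14))
(br (nat_lit 31) (lf (nat_lit 5))
(br (nat_lit 28) (br (nat_lit 18) (lf (nat_lit 12))
(br (nat_lit 20) (lf (nat_lit 24))
(br (nat_lit 32) (br (nat_lit 37) (lf (nat_lit 39))
(lf (nat_lit 54)))
(lf (nat_lit 6)))))
(lf (nat_lit 46)))))
(lf (nat_lit 55)))))
(lf (nat_lit 55)))))))
(lf (nat_lit 74)))
(lf (nat_lit 8)))
(lf (nat_lit 8)))
(lf (nat_lit 8))))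
(lf (nat_lit 38)))
(lf (nat_lit 74))))
(lf (nat_lit 40))))))
(br (nat_lit 36) (br (nat_lit 0) (br (nat_lit 3) (br (nat_lit 32) (lf (nat_lit 39))
(br (nat_lit 37) (lf (nat_lit 39))
(br (nat_lit 39) (lf (nat_lit 39))
(br (nat_lit 12) (br (nat_lit 21) (br (nat_lit 2) (lf (nat_lit 44))
(br (nat_lit 20) (lf (nat_lit 44))
(br (nat_lit 1) (br (nat_lit 5) (br (nat_lit 9) (lf (nat_lit 12))
(br (nat_lit 11) (lf (nat_lit 5))
(br (nat_lit 16) (br (nat_lit 4) (lf (nat_lit 42))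
(br (nat_lit 14) (lf (nat_lit 13))
(br (nat_lit 7) (br (nat_lit 18) (lf (nat_lit 12))
(br (nat_lit 22) (br (nat_lit 24) (lf (nat_lit 41))
(lf (nat_lit 6)))
(lf (nat_lit 74))))
(lf (nat_lit 8)))))
(lf (nat_lit 11)))))
(lf (nat_lit 56)))
(lf (nat_lit 54)))))
(lf (nat_lit 74)))
(lf (nat_lit 74))))))
(br (nat_lit 39) (br (nat_lit 29) (lf (nat_lit 69))
(br (nat_lit 18) (br (nat_lit 32) (lf (nat_lit 39))
(br (nat_lit 37) (lf (nat_lit 39))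
(br (nat_lit 38) (lf (nat_lit 69))
(br (nat_lit 4) (br (nat_lit 21) (lf (nat_lit 51))
(br (nat_lit 12) (br (nat_lit 1) (lf (nat_lit 12))
(br (nat_lit 5) (lf (nat_lit 42))
(br (nat_lit 9) (lf (nat_lit 12))
(br (nat_lit 7) (lf (nat_lit 8))
(br (nat_lit 14) (lf (nat_lit 8))
(lf (nat_lit 40)))))))
(lf (nat_lit 74))))
(lf (nat_lit 43))))))
(lf (nat_lit 43))))
(lf (nat_lit 74))))
(br (nat_lit 21) (br (nat_lit 60) (br (nat_lit 2) (lf (nat_lit 44))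
(br (nat_lit 3) (lf (nat_lit 44))
(br (nat_lit 4) (lf (nat_lit 51))
(br (nat_lit 18) (lf (nat_lit 51))
(lf (nat_lit 43))))))
(lf (nat_lit 20)))
(br (nat_lit 1) (br (nat_lit 3) (br (nat_lit 59) (br (nat_lit 2) (lf (nat_lit 44))
(br (nat_lit 20) (lf (nat_lit 44))
(br (nat_lit 14) (br (nat_lit 16) (br (nat_lit 8) (lf (nat_lit 9))
(br (nat_lit 32) (lf (nat_lit 39))
(br (nat_lit 37) (lf (nat_lit 39))
(br (nat_lit 5) (br (nat_lit 11) (lf (nat_lit 5))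
(br (nat_lit 26) (br (nat_lit 29) (br (nat_lit 30) (br (nat_lit 9) (lf (nat_lit 14))
(br (nat_lit 4) (br (nat_lit 12) (lf (nat_lit 11))
(br (nat_lit 18) (lf (nat_lit 42))
(br (nat_lit 22) (lf (nat_lit 48))
(lf (nat_lit 11)))))
(lf (nat_lit 13))))
(lf (nat_lit 67)))
(lf (nat_lit 55)))
(lf (nat_lit 55))))
(lf (nat_lit 56))))))
(lf (nat_lit 13)))
(lf (nat_lit 40)))))
(lf (nat_lit 2)))
(br (nat_lit 39) (br (nat_lit 9) (br (nat_lit 12) (lf (nat_lit 12))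
(br (nat_lit 4) (br (nat_lit 7) (br (nat_lit 14) (br (nat_lit 18) (lf (nat_lit 12))
(br (nat_lit 11) (br (nat_lit 5) (lf (nat_lit 5))
(br (nat_lit 22) (br (nat_lit 24) (lf (nat_lit 33))
(br (nat_lit 26) (lf (nat_lit 47))
(br (nat_lit 28) (lf (nat_lit 12))
(lf (nat_lit 58)))))
(lf (nat_lit 74))))
(lf (nat_lit 58))))
(lf (nat_lit 8)))
(lf (nat_lit 8)))
(lf (nat_lit 8))))
(lf (nat_lit 38)))
(lf (nat_lit 74))))
(lf (nat_lit 40)))))
(lf (nat_lit 50))))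

open Dt in
noncomputable def t9 : Dt :=
(br (nat_lit 45) (br (nat_lit 49) (lf (nat_lit 16))
(br (nat_lit 0) (br (nat_lit 3) (br (nat_lit 32) (lf (nat_lit 39))
(br (nat_lit 37) (lf (nat_lit 39))
(br (nat_lit 24) (br (nat_lit 26) (br (nat_lit 30) (br (nat_lit 39) (lf (nat_lit 39))
(br (nat_lit 12) (br (nat_lit 7) (lf (nat_lit 41))
(br (nat_lit 9) (lf (nat_lit 41))
(br (nat_lit 21) (br (nat_lit 4) (lf (nat_lit 51))
(br (nat_lit 5) (br (nat_lit 11) (lf (nat_lit 30))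
(br (nat_lit 18) (lf (nat_lit 51))
(br (nat_lit 16) (br (nat_lit 22) (br (nat_lit 20) (lf (nat_lit 24))
(br (nat_lit 28) (lf (nat_lit 24))
(br (nat_lit 8) (br (nat_lit 2) (lf (nat_lit 9))
(br (nat_lit 14) (lf (nat_lit 9))
(br (nat_lit 29) (lf (nat_lit 41))
(lf (nat_lit 43)))))
(lf (nat_lit 46)))))
(lf (nat_lit 74)))
(lf (nat_lit 42)))))
(lf (nat_lit 64))))
(lf (nat_lit 74)))))
(lf (nat_lit 74))))
(lf (nat_lit 65)))
(lf (nat_lit 65)))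
(lf (nat_lit 65)))))
(br (nat_lit 39) (br (nat_lit 29) (lf (nat_lit 69))
(br (nat_lit 18) (br (nat_lit 32) (lf (nat_lit 39))
(br (nat_lit 37) (lf (nat_lit 39))
(br (nat_lit 24) (br (nat_lit 7) (lf (nat_lit 33))
(br (nat_lit 11) (lf (nat_lit 33))
(br (nat_lit 5) (br (nat_lit 26) (br (nat_lit 28) (lf (nat_lit 18))
(lf (nat_lit 46)))
(lf (nat_lit 65)))
(lf (nat_lit 64)))))
(lf (nat_lit 65)))))
(lf (nat_lit 43))))
(lf (nat_lit 74))))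
(br (nat_lit 39) (br (nat_lit 1) (br (nat_lit 9) (br (nat_lit 48) (br (nat_lit 59) (br (nat_lit 3) (lf (nat_lit 39))
(br (nat_lit 32) (lf (nat_lit 39))
(br (nat_lit 37) (lf (nat_lit 39))
(br (nat_lit 24) (br (nat_lit 7) (lf (nat_lit 41))
(br (nat_lit 8) (lf (nat_lit 6))
(br (nat_lit 12) (lf (nat_lit 41))
(br (nat_lit 4) (br (nat_lit 2) (lf (nat_lit 48))
(br (nat_lit 14) (br (nat_lit 16) (lf (nat_lit 11))
(br (nat_lit 20) (br (nat_lit 21) (lf (nat_lit 40))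
(br (nat_lit 22) (lf (nat_lit 11))
(lf (nat_lit 74))))
(lf (nat_lit 13))))
(lf (nat_lit 8))))
(lf (nat_lit 8))))))
(lf (nat_lit 65))))))
(lf (nat_lit 38)))
(lf (nat_lit 38)))
(lf (nat_lit 38)))
(lf (nat_lit 38)))
(br (nat_lit 22) (br (nat_lit 48) (br (nat_lit 4) (lf (nat_lit 26))
(br (nat_lit 8) (lf (nat_lit 26))
(br (nat_lit 20) (lf (nat_lit 24))
(br (nat_lit 26) (lf (nat_lit 24))
(br (nat_lit 5) (br (nat_lit 9) (br (nat_lit 12) (br (nat_lit 7) (lf (nat_lit 41))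
(br (nat_lit 14) (br (nat_lit 16) (br (nat_lit 2) (lf (nat_lit 9))
(br (nat_lit 24) (lf (nat_lit 11))
(br (nat_lit 28) (lf (nat_lit 24))
(lf (nat_lit 46)))))
(lf (nat_lit 13)))
(lf (nat_lit 8))))
(lf (nat_lit 8)))
(lf (nat_lit 47)))
(lf (nat_lit 47)))))))
(lf (nat_lit 21)))
(br (nat_lit 3) (br (nat_lit 5) (br (nat_lit 9) (br (nat_lit 12) (br (nat_lit 7) (lf (nat_lit 41))
(br (nat_lit 21) (br (nat_lit 24) (lf (nat_lit 41))
(br (nat_lit 16) (br (nat_lit 26) (br (nat_lit 29) (lf (nat_lit 41))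
(br (nat_lit 41) (br (nat_lit 1) (lf (nat_lit 5))
(br (nat_lit 2) (lf (nat_lit 13))
(br (nat_lit 4) (lf (nat_lit 13))
(br (nat_lit 11) (lf (nat_lit 5))
(br (nat_lit 14) (br (nat_lit 8) (lf (nat_lit 9))
(br (nat_lit 18) (lf (nat_lit 12))
(lf (nat_lit 43))))
(lf (nat_lit 8)))))))
(lf (nat_lit 74))))
(lf (nat_lit 47)))
(lf (nat_lit 11))))
(lf (nat_lit 74))))
(lf (nat_lit 74)))
(lf (nat_lit 47)))
(lf (nat_lit 47)))
(lf (nat_lit 74)))))))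
(br (nat_lit 49) (br (nat_lit 0) (br (nat_lit 3) (br (nat_lit 32) (lf (nat_lit 39))
(br (nat_lit 37) (lf (nat_lit 39))
(br (nat_lit 24) (br (nat_lit 26) (br (nat_lit 30) (br (nat_lit 39) (lf (nat_lit 39))
(br (nat_lit 12) (br (nat_lit 7) (lf (nat_lit 41))
(br (nat_lit 9) (lf (nat_lit 41))
(br (nat_lit 21) (br (nat_lit 4) (lf (nat_lit 51))
(br (nat_lit 5) (br (nat_lit 11) (lf (nat_lit 30))
(br (nat_lit 18) (lf (nat_lit 51))
(br (nat_lit 22) (br (nat_lit 20) (lf (nat_lit 24))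
(br (nat_lit 1) (br (nat_lit 14) (lf (nat_lit 40))
(br (nat_lit 16) (br (nat_lit 28) (lf (nat_lit 24))
(br (nat_lit 8) (br (nat_lit 2) (lf (nat_lit 9))
(br (nat_lit 29) (lf (nat_lit 41))
(lf (nat_lit 43))))
(lf (nat_lit 46))))
(lf (nat_lit 13))))
(lf (nat_lit 54))))
(lf (nat_lit 74)))))
(lf (nat_lit 64))))
(lf (nat_lit 74)))))
(lf (nat_lit 74))))
(lf (nat_lit 65)))
(lf (nat_lit 65)))
(lf (nat_lit 65)))))
(br (nat_lit 39) (br (nat_lit 29) (lf (nat_lit 69))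
(br (nat_lit 18) (br (nat_lit 32) (lf (nat_lit 39))
(br (nat_lit 37) (lf (nat_lit 39))
(br (nat_lit 24) (br (nat_lit 7) (lf (nat_lit 33))
(br (nat_lit 11) (lf (nat_lit 33))
(br (nat_lit 5) (br (nat_lit 26) (br (nat_lit 22) (lf (nat_lit 47))
(br (nat_lit 4) (br (nat_lit 12) (lf (nat_lit 42))
(lf (nat_lit 74)))
(lf (nat_lit 64))))
(lf (nat_lit 65)))
(lf (nat_lit 64)))))
(lf (nat_lit 65)))))
(lf (nat_lit 43))))
(lf (nat_lit 74))))
(br (nat_lit 39) (br (nat_lit 1) (br (nat_lit 9) (br (nat_lit 48) (br (nat_lit 59) (br (nat_lit 3) (lf (nat_lit 39))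
(br (nat_lit 32) (lf (nat_lit 39))
(br (nat_lit 37) (lf (nat_lit 39))
(br (nat_lit 24) (br (nat_lit 7) (lf (nat_lit 41))
(br (nat_lit 8) (lf (nat_lit 6))
(br (nat_lit 12) (lf (nat_lit 41))
(br (nat_lit 4) (br (nat_lit 14) (br (nat_lit 16) (lf (nat_lit 11))
(br (nat_lit 20) (br (nat_lit 21) (lf (nat_lit 40))
(br (nat_lit 22) (lf (nat_lit 11))
(lf (nat_lit 74))))
(lf (nat_lit 54))))
(lf (nat_lit 8)))
(lf (nat_lit 8))))))
(lf (nat_lit 65))))))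
(lf (nat_lit 38)))
(lf (nat_lit 38)))
(lf (nat_lit 38)))
(lf (nat_lit 38)))
(br (nat_lit 21) (br (nat_lit 60) (br (nat_lit 4) (lf (nat_lit 51))
(br (nat_lit 8) (lf (nat_lit 34))
(br (nat_lit 18) (lf (nat_lit 51))
(br (nat_lit 3) (br (nat_lit 2) (lf (nat_lit 44))
(br (nat_lit 20) (lf (nat_lit 34))
(br (nat_lit 16) (br (nat_lit 29) (br (nat_lit 30) (lf (nat_lit 51))
(br (nat_lit 1) (br (nat_lit 32) (lf (nat_lit 34))
(br (nat_lit 24) (br (nat_lit 7) (lf (nat_lit 41))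
(br (nat_lit 9) (lf (nat_lit 41))
(br (nat_lit 11) (br (nat_lit 5) (lf (nat_lit 5))
(br (nat_lit 12) (lf (nat_lit 41))
(lf (nat_lit 8))))
(lf (nat_lit 67)))))
(lf (nat_lit 65))))
(lf (nat_lit 59))))
(lf (nat_lit 43)))
(lf (nat_lit 13)))))
(lf (nat_lit 43))))))
(lf (nat_lit 20)))
(br (nat_lit 1) (br (nat_lit 3) (br (nat_lit 12) (br (nat_lit 22) (br (nat_lit 30) (br (nat_lit 41) (br (nat_lit 5) (lf (nat_lit 5))
(br (nat_lit 9) (lf (nat_lit 12))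
(br (nat_lit 11) (lf (nat_lit 5))
(br (nat_lit 4) (br (nat_lit 7) (lf (nat_lit 8))
(br (nat_lit 14) (lf (nat_lit 8))
(br (nat_lit 16) (lf (nat_lit 13))
(lf (nat_lit 11)))))
(lf (nat_lit 64))))))
(lf (nat_lit 74)))
(lf (nat_lit 59)))
(lf (nat_lit 74)))
(lf (nat_lit 74)))
(lf (nat_lit 74)))
(lf (nat_lit 59))))))
(lf (nat_lit 16))))

open Dt in
noncomputable def t10 : Dt :=
(br (nat_lit 45) (br (nat_lit 49) (lf (nat_lit 16))
(br (nat_lit 0) (br (nat_lit 3) (br (nat_lit 32) (lf (nat_lit 39))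
(br (nat_lit 37) (lf (nat_lit 39))
(br (nat_lit 24) (br (nat_lit 26) (br (nat_lit 30) (br (nat_lit 1) (lf (nat_lit 14))
(br (nat_lit 9) (lf (nat_lit 14))
(br (nat_lit 12) (lf (nat_lit 14))
(br (nat_lit 39) (lf (nat_lit 39))
(lf (nat_lit 74))))))
(lf (nat_lit 65)))
(lf (nat_lit 65)))
(lf (nat_lit 65)))))
(br (nat_lit 39) (br (nat_lit 29) (lf (nat_lit 69))
(br (nat_lit 32) (lf (nat_lit 39))
(br (nat_lit 37) (lf (nat_lit 39))
(br (nat_lit 24) (br (nat_lit 7) (lf (nat_lit 33))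
(br (nat_lit 11) (lf (nat_lit 33))
(br (nat_lit 21) (br (nat_lit 26) (br (nat_lit 30) (br (nat_lit 1) (lf (nat_lit 14))
(br (nat_lit 4) (lf (nat_lit 51))
(br (nat_lit 5) (br (nat_lit 9) (lf (nat_lit 14))
(br (nat_lit 12) (lf (nat_lit 14))
(lf (nat_lit 8))))
(lf (nat_lit 64)))))
(lf (nat_lit 65)))
(lf (nat_lit 65)))
(lf (nat_lit 67)))))
(lf (nat_lit 65))))))
(lf (nat_lit 74))))
(br (nat_lit 12) (br (nat_lit 9) (br (nat_lit 1) (lf (nat_lit 14))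
(br (nat_lit 7) (lf (nat_lit 41))
(br (nat_lit 14) (br (nat_lit 20) (br (nat_lit 21) (br (nat_lit 24) (lf (nat_lit 41))
(br (nat_lit 16) (br (nat_lit 2) (lf (nat_lit 9))
(br (nat_lit 4) (lf (nat_lit 13))
(br (nat_lit 8) (lf (nat_lit 9))
(br (nat_lit 22) (br (nat_lit 26) (lf (nat_lit 14))
(br (nat_lit 28) (lf (nat_lit 24))
(lf (nat_lit 52))))
(lf (nat_lit 11))))))
(lf (nat_lit 11))))
(lf (nat_lit 40)))
(lf (nat_lit 40)))
(lf (nat_lit 40)))))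
(lf (nat_lit 11)))
(br (nat_lit 48) (br (nat_lit 4) (br (nat_lit 8) (lf (nat_lit 26))
(br (nat_lit 22) (lf (nat_lit 26))
(br (nat_lit 5) (br (nat_lit 9) (br (nat_lit 7) (br (nat_lit 14) (br (nat_lit 24) (lf (nat_lit 41))
(br (nat_lit 16) (br (nat_lit 2) (lf (nat_lit 9))
(br (nat_lit 20) (lf (nat_lit 13))
(br (nat_lit 1) (br (nat_lit 11) (lf (nat_lit 5))
(br (nat_lit 26) (lf (nat_lit 14))
(lf (nat_lit 47))))
(lf (nat_lit 40)))))
(lf (nat_lit 11))))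
(lf (nat_lit 8)))
(lf (nat_lit 8)))
(lf (nat_lit 11)))
(lf (nat_lit 47)))))
(br (nat_lit 5) (br (nat_lit 7) (br (nat_lit 9) (lf (nat_lit 8))
(br (nat_lit 1) (br (nat_lit 11) (lf (nat_lit 5))
(br (nat_lit 14) (br (nat_lit 16) (br (nat_lit 2) (lf (nat_lit 9))
(br (nat_lit 8) (lf (nat_lit 9))
(br (nat_lit 18) (br (nat_lit 20) (br (nat_lit 22) (lf (nat_lit 24))
(lf (nat_lit 11)))
(lf (nat_lit 13)))
(lf (nat_lit 42)))))
(lf (nat_lit 11)))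
(lf (nat_lit 8))))
(lf (nat_lit 38))))
(lf (nat_lit 8)))
(lf (nat_lit 42))))
(lf (nat_lit 21))))))
(br (nat_lit 49) (br (nat_lit 0) (br (nat_lit 3) (br (nat_lit 32) (lf (nat_lit 39))
(br (nat_lit 37) (lf (nat_lit 39))
(br (nat_lit 24) (br (nat_lit 26) (br (nat_lit 30) (br (nat_lit 1) (lf (nat_lit 14))
(br (nat_lit 9) (lf (nat_lit 14))
(br (nat_lit 12) (lf (nat_lit 14))
(br (nat_lit 20) (br (nat_lit 22) (lf (nat_lit 24))
(br (nat_lit 16) (br (nat_lit 14) (br (nat_lit 2) (lf (nat_lit 9))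
(br (nat_lit 8) (lf (nat_lit 9))
(br (nat_lit 21) (br (nat_lit 4) (lf (nat_lit 51))
(br (nat_lit 5) (br (nat_lit 7) (br (nat_lit 11) (lf (nat_lit 22))
(br (nat_lit 18) (lf (nat_lit 51))
(br (nat_lit 28) (lf (nat_lit 24))
(br (nat_lit 29) (lf (nat_lit 41))
(lf (nat_lit 61))))))
(lf (nat_lit 8)))
(lf (nat_lit 64))))
(lf (nat_lit 74)))))
(lf (nat_lit 15)))
(lf (nat_lit 11))))
(lf (nat_lit 54))))))
(lf (nat_lit 65)))
(lf (nat_lit 65)))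
(lf (nat_lit 65)))))
(br (nat_lit 39) (br (nat_lit 29) (lf (nat_lit 69))
(br (nat_lit 32) (lf (nat_lit 39))
(br (nat_lit 37) (lf (nat_lit 39))
(br (nat_lit 24) (br (nat_lit 7) (lf (nat_lit 33))
(br (nat_lit 11) (lf (nat_lit 33))
(br (nat_lit 21) (br (nat_lit 26) (br (nat_lit 30) (br (nat_lit 1) (lf (nat_lit 14))
(br (nat_lit 4) (lf (nat_lit 51))
(br (nat_lit 5) (br (nat_lit 9) (lf (nat_lit 14))
(br (nat_lit 12) (lf (nat_lit 14))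
(lf (nat_lit 8))))
(lf (nat_lit 64)))))
(lf (nat_lit 65)))
(lf (nat_lit 65)))
(lf (nat_lit 67)))))
(lf (nat_lit 65))))))
(lf (nat_lit 74))))
(br (nat_lit 21) (br (nat_lit 60) (br (nat_lit 4) (lf (nat_lit 51))
(br (nat_lit 8) (lf (nat_lit 34))
(br (nat_lit 18) (lf (nat_lit 51))
(br (nat_lit 20) (lf (nat_lit 34))
(br (nat_lit 1) (br (nat_lit 30) (lf (nat_lit 51))
(br (nat_lit 32) (lf (nat_lit 34))
(br (nat_lit 7) (br (nat_lit 11) (br (nat_lit 5) (lf (nat_lit 5))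
(br (nat_lit 12) (br (nat_lit 9) (lf (nat_lit 14))
(lf (nat_lit 11)))
(lf (nat_lit 42))))
(lf (nat_lit 67)))
(lf (nat_lit 67)))))
(lf (nat_lit 40)))))))
(lf (nat_lit 20)))
(br (nat_lit 1) (br (nat_lit 9) (br (nat_lit 12) (lf (nat_lit 14))
(br (nat_lit 4) (br (nat_lit 7) (br (nat_lit 14) (br (nat_lit 24) (lf (nat_lit 41))
(br (nat_lit 26) (lf (nat_lit 14))
(br (nat_lit 29) (lf (nat_lit 41))
(br (nat_lit 30) (lf (nat_lit 14))
(br (nat_lit 11) (br (nat_lit 5) (lf (nat_lit 5))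
(br (nat_lit 31) (lf (nat_lit 5))
(br (nat_lit 32) (br (nat_lit 37) (br (nat_lit 3) (lf (nat_lit 39))
(br (nat_lit 16) (lf (nat_lit 22))
(br (nat_lit 2) (br (nat_lit 8) (lf (nat_lit 9))
(br (nat_lit 22) (br (nat_lit 28) (br (nat_lit 18) (lf (nat_lit 12))
(br (nat_lit 20) (lf (nat_lit 24))
(br (nat_lit 38) (lf (nat_lit 5))
(lf (nat_lit 43)))))
(lf (nat_lit 46)))
(lf (nat_lit 74))))
(lf (nat_lit 55)))))
(lf (nat_lit 65)))
(lf (nat_lit 65)))))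
(lf (nat_lit 67)))))))
(lf (nat_lit 8)))
(lf (nat_lit 8)))
(lf (nat_lit 8))))
(br (nat_lit 12) (lf (nat_lit 11))
(br (nat_lit 16) (br (nat_lit 22) (br (nat_lit 24) (br (nat_lit 39) (lf (nat_lit 38))
(lf (nat_lit 74)))
(lf (nat_lit 11)))
(lf (nat_lit 11)))
(lf (nat_lit 11)))))
(lf (nat_lit 40)))))
(lf (nat_lit 16))))

open Dt in
noncomputable def t11 : Dt :=
(br (nat_lit 45) (br (nat_lit 49) (lf (nat_lit 16))
(br (nat_lit 0) (br (nat_lit 3) (br (nat_lit 32) (lf (nat_lit 39))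
(br (nat_lit 37) (lf (nat_lit 39))
(br (nat_lit 24) (br (nat_lit 26) (br (nat_lit 30) (br (nat_lit 39) (lf (nat_lit 39))
(br (nat_lit 12) (br (nat_lit 1) (lf (nat_lit 14))
(br (nat_lit 7) (lf (nat_lit 41))
(br (nat_lit 9) (lf (nat_lit 14))
(br (nat_lit 16) (br (nat_lit 21) (br (nat_lit 4) (lf (nat_lit 51))
(br (nat_lit 14) (br (nat_lit 2) (lf (nat_lit 9))
(br (nat_lit 8) (lf (nat_lit 9))
(br (nat_lit 18) (lf (nat_lit 51))
(br (nat_lit 5) (br (nat_lit 11) (lf (nat_lit 30))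
(br (nat_lit 20) (br (nat_lit 22) (lf (nat_lit 24))
(lf (nat_lit 74)))
(lf (nat_lit 13))))
(lf (nat_lit 42))))))
(lf (nat_lit 8))))
(lf (nat_lit 74)))
(lf (nat_lit 11))))))
(lf (nat_lit 74))))
(lf (nat_lit 65)))
(lf (nat_lit 65)))
(lf (nat_lit 65)))))
(br (nat_lit 39) (br (nat_lit 29) (lf (nat_lit 69))
(br (nat_lit 18) (br (nat_lit 32) (lf (nat_lit 39))
(br (nat_lit 37) (lf (nat_lit 39))
(br (nat_lit 24) (br (nat_lit 7) (lf (nat_lit 33))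
(br (nat_lit 11) (lf (nat_lit 33))
(br (nat_lit 26) (br (nat_lit 28) (br (nat_lit 1) (lf (nat_lit 12))
(br (nat_lit 9) (lf (nat_lit 12))
(br (nat_lit 12) (lf (nat_lit 12))
(br (nat_lit 4) (br (nat_lit 14) (br (nat_lit 20) (lf (nat_lit 24))
(br (nat_lit 5) (br (nat_lit 16) (br (nat_lit 2) (lf (nat_lit 9))
(br (nat_lit 8) (lf (nat_lit 9))
(br (nat_lit 21) (lf (nat_lit 51))
(lf (nat_lit 74)))))
(lf (nat_lit 13)))
(lf (nat_lit 56))))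
(lf (nat_lit 3)))
(lf (nat_lit 8))))))
(lf (nat_lit 46)))
(lf (nat_lit 65)))))
(lf (nat_lit 65)))))
(lf (nat_lit 43))))
(lf (nat_lit 74))))
(br (nat_lit 12) (br (nat_lit 9) (br (nat_lit 1) (lf (nat_lit 12))
(br (nat_lit 7) (lf (nat_lit 41))
(br (nat_lit 14) (br (nat_lit 18) (lf (nat_lit 12))
(br (nat_lit 20) (br (nat_lit 21) (br (nat_lit 24) (lf (nat_lit 41))
(br (nat_lit 16) (br (nat_lit 2) (lf (nat_lit 9))
(br (nat_lit 4) (lf (nat_lit 13))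
(br (nat_lit 3) (br (nat_lit 5) (br (nat_lit 8) (lf (nat_lit 9))
(br (nat_lit 22) (br (nat_lit 26) (lf (nat_lit 24))
(br (nat_lit 28) (lf (nat_lit 12))
(lf (nat_lit 46))))
(lf (nat_lit 11))))
(lf (nat_lit 42)))
(lf (nat_lit 43)))))
(lf (nat_lit 11))))
(lf (nat_lit 40)))
(lf (nat_lit 40))))
(lf (nat_lit 40)))))
(lf (nat_lit 11)))
(br (nat_lit 48) (br (nat_lit 4) (br (nat_lit 8) (lf (nat_lit 26))
(br (nat_lit 22) (lf (nat_lit 26))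
(br (nat_lit 5) (br (nat_lit 9) (br (nat_lit 7) (br (nat_lit 14) (br (nat_lit 24) (lf (nat_lit 41))
(br (nat_lit 16) (br (nat_lit 2) (lf (nat_lit 9))
(br (nat_lit 20) (lf (nat_lit 13))
(br (nat_lit 1) (br (nat_lit 11) (lf (nat_lit 5))
(br (nat_lit 18) (lf (nat_lit 12))
(br (nat_lit 26) (br (nat_lit 28) (lf (nat_lit 12))
(lf (nat_lit 52)))
(lf (nat_lit 47)))))
(lf (nat_lit 40)))))
(lf (nat_lit 11))))
(lf (nat_lit 8)))
(lf (nat_lit 8)))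
(lf (nat_lit 11)))
(lf (nat_lit 47)))))
(br (nat_lit 5) (br (nat_lit 7) (br (nat_lit 9) (lf (nat_lit 8))
(br (nat_lit 1) (br (nat_lit 11) (lf (nat_lit 5))
(br (nat_lit 14) (br (nat_lit 16) (br (nat_lit 2) (lf (nat_lit 9))
(br (nat_lit 8) (lf (nat_lit 9))
(br (nat_lit 18) (br (nat_lit 20) (br (nat_lit 22) (lf (nat_lit 24))
(lf (nat_lit 11)))
(lf (nat_lit 13)))
(lf (nat_lit 42)))))
(lf (nat_lit 11)))
(lf (nat_lit 8))))
(lf (nat_lit 38))))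
(lf (nat_lit 8)))
(lf (nat_lit 42))))
(lf (nat_lit 21))))))
(br (nat_lit 49) (br (nat_lit 0) (br (nat_lit 3) (br (nat_lit 32) (lf (nat_lit 39))
(br (nat_lit 37) (lf (nat_lit 39))
(br (nat_lit 24) (br (nat_lit 26) (br (nat_lit 30) (br (nat_lit 39) (lf (nat_lit 39))
(br (nat_lit 12) (br (nat_lit 1) (lf (nat_lit 14))
(br (nat_lit 7) (lf (nat_lit 41))
(br (nat_lit 9) (lf (nat_lit 14))
(br (nat_lit 16) (br (nat_lit 20) (br (nat_lit 21) (br (nat_lit 2) (lf (nat_lit 44))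
(br (nat_lit 4) (lf (nat_lit 51))
(br (nat_lit 8) (lf (nat_lit 34))
(br (nat_lit 14) (br (nat_lit 18) (lf (nat_lit 51))
(br (nat_lit 22) (lf (nat_lit 24))
(lf (nat_lit 74))))
(lf (nat_lit 8))))))
(lf (nat_lit 74)))
(lf (nat_lit 54)))
(lf (nat_lit 11))))))
(lf (nat_lit 74))))
(lf (nat_lit 65)))
(lf (nat_lit 65)))
(lf (nat_lit 65)))))
(br (nat_lit 39) (br (nat_lit 29) (lf (nat_lit 69))
(br (nat_lit 18) (br (nat_lit 32) (lf (nat_lit 39))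
(br (nat_lit 37) (lf (nat_lit 39))
(br (nat_lit 24) (br (nat_lit 7) (lf (nat_lit 33))
(br (nat_lit 11) (lf (nat_lit 33))
(br (nat_lit 26) (br (nat_lit 28) (br (nat_lit 1) (lf (nat_lit 12))
(br (nat_lit 9) (lf (nat_lit 12))
(br (nat_lit 12) (lf (nat_lit 12))
(br (nat_lit 4) (br (nat_lit 14) (br (nat_lit 20) (lf (nat_lit 24))
(lf (nat_lit 54)))
(lf (nat_lit 8)))
(lf (nat_lit 8))))))
(lf (nat_lit 46)))
(lf (nat_lit 65)))))
(lf (nat_lit 65)))))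
(lf (nat_lit 43))))
(lf (nat_lit 74))))
(br (nat_lit 21) (br (nat_lit 60) (br (nat_lit 4) (lf (nat_lit 51))
(br (nat_lit 8) (lf (nat_lit 34))
(br (nat_lit 18) (lf (nat_lit 51))
(br (nat_lit 3) (br (nat_lit 2) (lf (nat_lit 44))
(br (nat_lit 20) (lf (nat_lit 34))
(br (nat_lit 1) (br (nat_lit 16) (br (nat_lit 29) (br (nat_lit 30) (lf (nat_lit 51))
(br (nat_lit 32) (lf (nat_lit 34))
(br (nat_lit 24) (br (nat_lit 7) (lf (nat_lit 41))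
(br (nat_lit 9) (lf (nat_lit 41))
(br (nat_lit 11) (br (nat_lit 5) (lf (nat_lit 5))
(br (nat_lit 12) (lf (nat_lit 11))
(lf (nat_lit 8))))
(lf (nat_lit 67)))))
(lf (nat_lit 65)))))
(lf (nat_lit 43)))
(lf (nat_lit 13)))
(lf (nat_lit 40)))))
(lf (nat_lit 43))))))
(lf (nat_lit 20)))
(br (nat_lit 1) (br (nat_lit 9) (br (nat_lit 12) (lf (nat_lit 12))
(br (nat_lit 4) (br (nat_lit 7) (br (nat_lit 14) (br (nat_lit 18) (lf (nat_lit 12))
(br (nat_lit 24) (lf (nat_lit 41))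
(br (nat_lit 28) (lf (nat_lit 12))
(br (nat_lit 8) (br (nat_lit 2) (lf (nat_lit 9))
(br (nat_lit 16) (lf (nat_lit 9))
(br (nat_lit 20) (br (nat_lit 22) (br (nat_lit 26) (lf (nat_lit 24))
(br (nat_lit 11) (br (nat_lit 5) (lf (nat_lit 5))
(br (nat_lit 29) (lf (nat_lit 41))
(lf (nat_lit 55))))
(lf (nat_lit 55))))
(lf (nat_lit 11)))
(lf (nat_lit 13)))))
(lf (nat_lit 52))))))
(lf (nat_lit 8)))
(lf (nat_lit 8)))
(lf (nat_lit 8))))
(br (nat_lit 12) (lf (nat_lit 11))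
(br (nat_lit 16) (br (nat_lit 22) (br (nat_lit 24) (br (nat_lit 39) (lf (nat_lit 38))
(lf (nat_lit 74)))
(lf (nat_lit 11)))
(lf (nat_lit 11)))
(lf (nat_lit 11)))))
(lf (nat_lit 40)))))
(lf (nat_lit 16))))

open Dt in
noncomputable def t12 : Dt :=
(br (nat_lit 19) (br (nat_lit 36) (lf (nat_lit 50))
(br (nat_lit 35) (br (nat_lit 45) (lf (nat_lit 16))
(br (nat_lit 49) (lf (nat_lit 16))
(br (nat_lit 0) (br (nat_lit 3) (br (nat_lit 32) (lf (nat_lit 39))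
(br (nat_lit 37) (lf (nat_lit 39))
(br (nat_lit 39) (lf (nat_lit 39))
(br (nat_lit 12) (br (nat_lit 21) (br (nat_lit 22) (br (nat_lit 2) (lf (nat_lit 48))
(br (nat_lit 4) (lf (nat_lit 48))
(br (nat_lit 26) (br (nat_lit 1) (lf (nat_lit 14))
(br (nat_lit 9) (lf (nat_lit 14))
(br (nat_lit 16) (br (nat_lit 20) (lf (nat_lit 24))
(br (nat_lit 5) (br (nat_lit 14) (lf (nat_lit 13))
(lf (nat_lit 40)))
(lf (nat_lit 56))))
(lf (nat_lit 11)))))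
(lf (nat_lit 60)))))
(lf (nat_lit 74)))
(lf (nat_lit 74)))
(lf (nat_lit 74))))))
(br (nat_lit 39) (br (nat_lit 29) (lf (nat_lit 69))
(br (nat_lit 32) (lf (nat_lit 39))
(br (nat_lit 37) (lf (nat_lit 39))
(br (nat_lit 38) (lf (nat_lit 69))
(br (nat_lit 18) (br (nat_lit 26) (br (nat_lit 57) (lf (nat_lit 39))
(br (nat_lit 58) (lf (nat_lit 69))
(br (nat_lit 59) (lf (nat_lit 39))
(br (nat_lit 2) (br (nat_lit 31) (br (nat_lit 7) (lf (nat_lit 33))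
(br (nat_lit 11) (lf (nat_lit 33))
(br (nat_lit 5) (br (nat_lit 1) (lf (nat_lit 5))
(br (nat_lit 9) (br (nat_lit 12) (lf (nat_lit 14))
(lf (nat_lit 8)))
(lf (nat_lit 38))))
(lf (nat_lit 30)))))
(lf (nat_lit 2)))
(lf (nat_lit 61))))))
(lf (nat_lit 60)))
(lf (nat_lit 43)))))))
(lf (nat_lit 74))))
(br (nat_lit 12) (br (nat_lit 9) (br (nat_lit 1) (lf (nat_lit 14))
(br (nat_lit 7) (lf (nat_lit 41))
(br (nat_lit 14) (br (nat_lit 20) (br (nat_lit 21) (br (nat_lit 24) (lf (nat_lit 41))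
(br (nat_lit 16) (br (nat_lit 2) (lf (nat_lit 9))
(br (nat_lit 4) (lf (nat_lit 13))
(br (nat_lit 8) (lf (nat_lit 9))
(br (nat_lit 22) (br (nat_lit 26) (lf (nat_lit 14))
(br (nat_lit 11) (br (nat_lit 28) (lf (nat_lit 24))
(br (nat_lit 3) (br (nat_lit 29) (lf (nat_lit 41))
(lf (nat_lit 55)))
(lf (nat_lit 46))))
(lf (nat_lit 55))))
(lf (nat_lit 11))))))
(lf (nat_lit 11))))
(lf (nat_lit 40)))
(lf (nat_lit 40)))
(lf (nat_lit 40)))))
(lf (nat_lit 11)))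
(br (nat_lit 48) (br (nat_lit 3) (br (nat_lit 2) (lf (nat_lit 48))
(br (nat_lit 4) (lf (nat_lit 48))
(br (nat_lit 5) (br (nat_lit 7) (br (nat_lit 9) (lf (nat_lit 8))
(br (nat_lit 1) (br (nat_lit 11) (lf (nat_lit 5))
(br (nat_lit 14) (br (nat_lit 16) (br (nat_lit 8) (lf (nat_lit 9))
(br (nat_lit 18) (br (nat_lit 20) (br (nat_lit 22) (lf (nat_lit 24))
(lf (nat_lit 11)))
(lf (nat_lit 13)))
(lf (nat_lit 42))))
(lf (nat_lit 11)))
(lf (nat_lit 8))))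
(lf (nat_lit 38))))
(lf (nat_lit 8)))
(lf (nat_lit 42)))))
(br (nat_lit 39) (br (nat_lit 1) (br (nat_lit 9) (br (nat_lit 4) (br (nat_lit 2) (lf (nat_lit 48))
(br (nat_lit 7) (br (nat_lit 14) (br (nat_lit 22) (lf (nat_lit 48))
(br (nat_lit 5) (br (nat_lit 11) (lf (nat_lit 5))
(br (nat_lit 16) (br (nat_lit 8) (lf (nat_lit 9))
(br (nat_lit 18) (br (nat_lit 20) (lf (nat_lit 13))
(br (nat_lit 21) (lf (nat_lit 51))
(lf (nat_lit 74))))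
(lf (nat_lit 58))))
(lf (nat_lit 55))))
(lf (nat_lit 47))))
(lf (nat_lit 8)))
(lf (nat_lit 8))))
(lf (nat_lit 8)))
(lf (nat_lit 38)))
(lf (nat_lit 38)))
(lf (nat_lit 74))))
(lf (nat_lit 21)))))))
t10))
(br (nat_lit 36) (br (nat_lit 35) (br (nat_lit 45) (lf (nat_lit 16))
(br (nat_lit 49) (lf (nat_lit 16))
(br (nat_lit 0) (br (nat_lit 3) (br (nat_lit 32) (lf (nat_lit 39))
(br (nat_lit 37) (lf (nat_lit 39))
(br (nat_lit 39) (lf (nat_lit 39))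
(br (nat_lit 12) (br (nat_lit 21) (br (nat_lit 22) (br (nat_lit 2) (lf (nat_lit 48))
(br (nat_lit 4) (lf (nat_lit 48))
(br (nat_lit 41) (br (nat_lit 1) (lf (nat_lit 12))
(br (nat_lit 9) (lf (nat_lit 12))
(br (nat_lit 14) (br (nat_lit 16) (br (nat_lit 8) (lf (nat_lit 9))
(br (nat_lit 18) (lf (nat_lit 12))
(br (nat_lit 5) (br (nat_lit 11) (lf (nat_lit 5))
(br (nat_lit 20) (br (nat_lit 24) (br (nat_lit 7) (lf (nat_lit 41))
(br (nat_lit 26) (lf (nat_lit 24))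
(lf (nat_lit 55))))
(lf (nat_lit 6)))
(lf (nat_lit 13))))
(lf (nat_lit 42)))))
(lf (nat_lit 11)))
(lf (nat_lit 40)))))
(lf (nat_lit 74)))))
(lf (nat_lit 74)))
(lf (nat_lit 74)))
(lf (nat_lit 74))))))
(br (nat_lit 39) (br (nat_lit 29) (lf (nat_lit 69))
(br (nat_lit 18) (br (nat_lit 32) (lf (nat_lit 39))
(br (nat_lit 37) (lf (nat_lit 39))
(br (nat_lit 38) (lf (nat_lit 69))
(br (nat_lit 4) (br (nat_lit 21) (lf (nat_lit 51))
(br (nat_lit 12) (br (nat_lit 1) (lf (nat_lit 12))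
(br (nat_lit 9) (lf (nat_lit 12))
(br (nat_lit 7) (lf (nat_lit 8))
(br (nat_lit 14) (lf (nat_lit 8))
(lf (nat_lit 3))))))
(lf (nat_lit 74))))
(lf (nat_lit 43))))))
(lf (nat_lit 43))))
(lf (nat_lit 74))))
(br (nat_lit 12) (br (nat_lit 9) (br (nat_lit 1) (lf (nat_lit 12))
(br (nat_lit 7) (lf (nat_lit 41))
(br (nat_lit 14) (br (nat_lit 18) (lf (nat_lit 12))
(br (nat_lit 20) (br (nat_lit 21) (br (nat_lit 24) (lf (nat_lit 41))
(br (nat_lit 16) (br (nat_lit 2) (lf (nat_lit 9))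
(br (nat_lit 4) (lf (nat_lit 13))
(br (nat_lit 3) (br (nat_lit 5) (br (nat_lit 8) (lf (nat_lit 9))
(br (nat_lit 22) (br (nat_lit 26) (lf (nat_lit 24))
(br (nat_lit 11) (br (nat_lit 28) (lf (nat_lit 12))
(lf (nat_lit 46)))
(lf (nat_lit 55))))
(lf (nat_lit 11))))
(lf (nat_lit 42)))
(lf (nat_lit 43)))))
(lf (nat_lit 11))))
(lf (nat_lit 40)))
(lf (nat_lit 40))))
(lf (nat_lit 40)))))
(lf (nat_lit 11)))
(br (nat_lit 48) (br (nat_lit 3) (br (nat_lit 2) (lf (nat_lit 48))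
(br (nat_lit 4) (lf (nat_lit 48))
(br (nat_lit 5) (br (nat_lit 7) (br (nat_lit 9) (lf (nat_lit 8))
(br (nat_lit 1) (br (nat_lit 11) (lf (nat_lit 5))
(br (nat_lit 14) (br (nat_lit 16) (br (nat_lit 8) (lf (nat_lit 9))
(br (nat_lit 18) (br (nat_lit 20) (br (nat_lit 22) (lf (nat_lit 24))
(lf (nat_lit 11)))
(lf (nat_lit 13)))
(lf (nat_lit 42))))
(lf (nat_lit 11)))
(lf (nat_lit 8))))
(lf (nat_lit 38))))
(lf (nat_lit 8)))
(lf (nat_lit 42)))))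
(br (nat_lit 39) (br (nat_lit 1) (br (nat_lit 9) (br (nat_lit 4) (br (nat_lit 2) (lf (nat_lit 48))
(br (nat_lit 7) (br (nat_lit 14) (br (nat_lit 18) (lf (nat_lit 12))
(br (nat_lit 11) (br (nat_lit 5) (lf (nat_lit 5))
(br (nat_lit 16) (br (nat_lit 8) (lf (nat_lit 9))
(br (nat_lit 20) (lf (nat_lit 13))
(br (nat_lit 22) (lf (nat_lit 48))
(lf (nat_lit 47)))))
(lf (nat_lit 42))))
(lf (nat_lit 58))))
(lf (nat_lit 8)))
(lf (nat_lit 8))))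
(lf (nat_lit 8)))
(lf (nat_lit 38)))
(lf (nat_lit 38)))
(lf (nat_lit 74))))
(lf (nat_lit 21)))))))
t11)
(lf (nat_lit 50))))

open Dt in
noncomputable def t13 : Dt :=
(br (nat_lit 27) (br (nat_lit 35) (lf (nat_lit 16))
(br (nat_lit 45) (lf (nat_lit 16))
(br (nat_lit 49) (lf (nat_lit 16))
(br (nat_lit 15) (br (nat_lit 19) (lf (nat_lit 50))
(br (nat_lit 36) (lf (nat_lit 50))
(br (nat_lit 0) (br (nat_lit 3) (br (nat_lit 32) (lf (nat_lit 39))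
(br (nat_lit 37) (lf (nat_lit 39))
(br (nat_lit 39) (lf (nat_lit 39))
(br (nat_lit 12) (br (nat_lit 21) (br (nat_lit 2) (lf (nat_lit 44))
(br (nat_lit 20) (lf (nat_lit 44))
(br (nat_lit 1) (br (nat_lit 5) (br (nat_lit 11) (lf (nat_lit 5))
(br (nat_lit 14) (lf (nat_lit 40))
(br (nat_lit 16) (br (nat_lit 4) (lf (nat_lit 42))
(br (nat_lit 22) (br (nat_lit 9) (lf (nat_lit 11))
(br (nat_lit 26) (br (nat_lit 28) (lf (nat_lit 24))
(br (nat_lit 18) (br (nat_lit 29) (br (nat_lit 7) (lf (nat_lit 41))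
(br (nat_lit 8) (br (nat_lit 24) (lf (nat_lit 41))
(lf (nat_lit 22)))
(lf (nat_lit 46))))
(lf (nat_lit 55)))
(lf (nat_lit 58))))
(lf (nat_lit 55))))
(lf (nat_lit 74))))
(lf (nat_lit 54)))))
(lf (nat_lit 56)))
(lf (nat_lit 54)))))
(lf (nat_lit 74)))
(lf (nat_lit 74))))))
(br (nat_lit 39) (br (nat_lit 29) (lf (nat_lit 69))
(br (nat_lit 18) (br (nat_lit 32) (lf (nat_lit 39))
(br (nat_lit 37) (lf (nat_lit 39))
(br (nat_lit 38) (lf (nat_lit 69))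
(br (nat_lit 4) (br (nat_lit 21) (lf (nat_lit 51))
(br (nat_lit 12) (br (nat_lit 5) (lf (nat_lit 42))
(br (nat_lit 7) (lf (nat_lit 8))
(br (nat_lit 9) (br (nat_lit 1) (lf (nat_lit 12))
(br (nat_lit 11) (br (nat_lit 14) (lf (nat_lit 8))
(br (nat_lit 16) (lf (nat_lit 13))
(br (nat_lit 2) (br (nat_lit 20) (lf (nat_lit 13))
(lf (nat_lit 40)))
(lf (nat_lit 55)))))
(lf (nat_lit 64))))
(lf (nat_lit 8)))))
(lf (nat_lit 74))))
(lf (nat_lit 43))))))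
(lf (nat_lit 43))))
(lf (nat_lit 74))))
(br (nat_lit 39) (br (nat_lit 1) (br (nat_lit 9) (br (nat_lit 48) (br (nat_lit 59) (br (nat_lit 3) (lf (nat_lit 39))
(br (nat_lit 11) (br (nat_lit 5) (lf (nat_lit 5))
(br (nat_lit 18) (br (nat_lit 12) (lf (nat_lit 12))
(br (nat_lit 28) (lf (nat_lit 12))
(lf (nat_lit 58))))
(lf (nat_lit 58))))
(lf (nat_lit 58))))
(lf (nat_lit 38)))
(lf (nat_lit 38)))
(lf (nat_lit 38)))
(lf (nat_lit 38)))
(br (nat_lit 3) (br (nat_lit 59) (br (nat_lit 2) (lf (nat_lit 44))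
(br (nat_lit 20) (lf (nat_lit 44))
(br (nat_lit 21) (lf (nat_lit 44))
(br (nat_lit 1) (br (nat_lit 12) (br (nat_lit 22) (br (nat_lit 4) (lf (nat_lit 48))
(br (nat_lit 16) (br (nat_lit 30) (br (nat_lit 32) (lf (nat_lit 39))
(br (nat_lit 37) (lf (nat_lit 39))
(br (nat_lit 5) (br (nat_lit 11) (lf (nat_lit 5))
(br (nat_lit 18) (br (nat_lit 9) (lf (nat_lit 12))
(br (nat_lit 14) (lf (nat_lit 13))
(br (nat_lit 24) (br (nat_lit 7) (lf (nat_lit 41))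
(br (nat_lit 26) (br (nat_lit 28) (lf (nat_lit 12))
(lf (nat_lit 58)))
(lf (nat_lit 55))))
(lf (nat_lit 11)))))
(lf (nat_lit 58))))
(lf (nat_lit 56)))))
(lf (nat_lit 59)))
(lf (nat_lit 13))))
(lf (nat_lit 74)))
(lf (nat_lit 74)))
(lf (nat_lit 40))))))
(lf (nat_lit 2)))
(br (nat_lit 11) (br (nat_lit 12) (br (nat_lit 18) (br (nat_lit 21) (br (nat_lit 4) (lf (nat_lit 51))
(br (nat_lit 22) (br (nat_lit 28) (br (nat_lit 1) (lf (nat_lit 12))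
(br (nat_lit 5) (lf (nat_lit 18))
(br (nat_lit 9) (lf (nat_lit 12))
(lf (nat_lit 38)))))
(lf (nat_lit 58)))
(lf (nat_lit 74))))
(lf (nat_lit 74)))
(lf (nat_lit 58)))
(lf (nat_lit 74)))
(lf (nat_lit 58))))))))
t8))))
(br (nat_lit 15) (br (nat_lit 19) (lf (nat_lit 50))
(br (nat_lit 36) (lf (nat_lit 50))
(br (nat_lit 35) (br (nat_lit 45) (lf (nat_lit 16))
(br (nat_lit 49) (lf (nat_lit 16))
(br (nat_lit 0) (br (nat_lit 3) (br (nat_lit 32) (lf (nat_lit 39))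
(br (nat_lit 37) (lf (nat_lit 39))
(br (nat_lit 39) (lf (nat_lit 39))
(br (nat_lit 12) (br (nat_lit 21) (br (nat_lit 22) (br (nat_lit 2) (lf (nat_lit 48))
(br (nat_lit 4) (lf (nat_lit 48))
(br (nat_lit 5) (br (nat_lit 41) (br (nat_lit 1) (lf (nat_lit 5))
(br (nat_lit 11) (lf (nat_lit 5))
(br (nat_lit 16) (br (nat_lit 9) (lf (nat_lit 11))
(br (nat_lit 26) (br (nat_lit 20) (lf (nat_lit 24))
(br (nat_lit 14) (lf (nat_lit 13))
(lf (nat_lit 40))))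
(lf (nat_lit 55))))
(lf (nat_lit 55)))))
(lf (nat_lit 74)))
(lf (nat_lit 64)))))
(lf (nat_lit 74)))
(lf (nat_lit 74)))
(lf (nat_lit 74))))))
(br (nat_lit 39) (br (nat_lit 29) (lf (nat_lit 69))
(br (nat_lit 18) (br (nat_lit 32) (lf (nat_lit 39))
(br (nat_lit 37) (lf (nat_lit 39))
(br (nat_lit 38) (lf (nat_lit 69))
(br (nat_lit 4) (br (nat_lit 21) (lf (nat_lit 51))
(br (nat_lit 12) (br (nat_lit 7) (lf (nat_lit 8))
(br (nat_lit 9) (br (nat_lit 1) (lf (nat_lit 12))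
(br (nat_lit 14) (lf (nat_lit 8))
(br (nat_lit 16) (lf (nat_lit 13))
(br (nat_lit 2) (br (nat_lit 11) (br (nat_lit 20) (lf (nat_lit 13))
(lf (nat_lit 40)))
(lf (nat_lit 22)))
(lf (nat_lit 55))))))
(lf (nat_lit 8))))
(lf (nat_lit 74))))
(lf (nat_lit 43))))))
(lf (nat_lit 43))))
(lf (nat_lit 74))))
(br (nat_lit 39) (br (nat_lit 1) (br (nat_lit 9) (br (nat_lit 48) (br (nat_lit 59) (br (nat_lit 2) (lf (nat_lit 48))
(br (nat_lit 3) (lf (nat_lit 39))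
(br (nat_lit 4) (lf (nat_lit 48))
(br (nat_lit 11) (br (nat_lit 5) (lf (nat_lit 5))
(br (nat_lit 12) (br (nat_lit 7) (lf (nat_lit 8))
(br (nat_lit 14) (lf (nat_lit 8))
(br (nat_lit 16) (br (nat_lit 18) (lf (nat_lit 12))
(lf (nat_lit 42)))
(lf (nat_lit 42)))))
(lf (nat_lit 42))))
(lf (nat_lit 58))))))
(lf (nat_lit 38)))
(lf (nat_lit 38)))
(lf (nat_lit 38)))
(lf (nat_lit 38)))
(br (nat_lit 3) (br (nat_lit 59) (br (nat_lit 2) (lf (nat_lit 48))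
(br (nat_lit 4) (lf (nat_lit 48))
(br (nat_lit 22) (lf (nat_lit 48))
(br (nat_lit 5) (br (nat_lit 9) (br (nat_lit 12) (br (nat_lit 7) (lf (nat_lit 41))
(br (nat_lit 14) (br (nat_lit 16) (br (nat_lit 8) (lf (nat_lit 9))
(br (nat_lit 21) (br (nat_lit 20) (lf (nat_lit 44))
(br (nat_lit 24) (lf (nat_lit 41))
(br (nat_lit 26) (br (nat_lit 28) (br (nat_lit 1) (lf (nat_lit 12))
(br (nat_lit 11) (br (nat_lit 18) (lf (nat_lit 12))
(br (nat_lit 29) (lf (nat_lit 41))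
(lf (nat_lit 43))))
(lf (nat_lit 27))))
(lf (nat_lit 46)))
(lf (nat_lit 47)))))
(lf (nat_lit 74))))
(lf (nat_lit 13)))
(lf (nat_lit 8))))
(lf (nat_lit 74)))
(lf (nat_lit 47)))
(lf (nat_lit 47))))))
(lf (nat_lit 2)))
(br (nat_lit 11) (br (nat_lit 12) (br (nat_lit 18) (br (nat_lit 21) (br (nat_lit 4) (lf (nat_lit 51))
(br (nat_lit 22) (br (nat_lit 28) (br (nat_lit 1) (lf (nat_lit 12))
(br (nat_lit 5) (lf (nat_lit 18))
(br (nat_lit 9) (lf (nat_lit 12))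
(lf (nat_lit 38)))))
(lf (nat_lit 58)))
(lf (nat_lit 74))))
(lf (nat_lit 74)))
(lf (nat_lit 58)))
(lf (nat_lit 74)))
(lf (nat_lit 58))))))))
t9)))
t12))

open Dt in
noncomputable def t14 : Dt :=
(br (nat_lit 34) (br (nat_lit 70) (lf (nat_lit 70))
(br (nat_lit 0) (br (nat_lit 39) (br (nat_lit 3) (lf (nat_lit 39))
(br (nat_lit 32) (lf (nat_lit 39))
(br (nat_lit 37) (lf (nat_lit 39))
(br (nat_lit 5) (br (nat_lit 20) (br (nat_lit 43) (br (nat_lit 46) (br (nat_lit 18) (lf (nat_lit 18))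
(br (nat_lit 4) (br (nat_lit 11) (br (nat_lit 1) (lf (nat_lit 5))
(br (nat_lit 21) (lf (nat_lit 51))
(br (nat_lit 28) (lf (nat_lit 18))
(lf (nat_lit 58)))))
(lf (nat_lit 58)))
(lf (nat_lit 43))))
(lf (nat_lit 56)))
(lf (nat_lit 56)))
(lf (nat_lit 56)))
(lf (nat_lit 56))))))
(br (nat_lit 3) (br (nat_lit 32) (lf (nat_lit 39))
(br (nat_lit 37) (lf (nat_lit 39))
(br (nat_lit 5) (br (nat_lit 20) (br (nat_lit 2) (lf (nat_lit 44))
(br (nat_lit 21) (lf (nat_lit 44))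
(br (nat_lit 1) (br (nat_lit 9) (lf (nat_lit 38))
(br (nat_lit 11) (lf (nat_lit 5))
(br (nat_lit 12) (br (nat_lit 14) (lf (nat_lit 40))
(br (nat_lit 16) (br (nat_lit 4) (lf (nat_lit 42))
(br (nat_lit 22) (br (nat_lit 26) (lf (nat_lit 24))
(lf (nat_lit 55)))
(lf (nat_lit 74))))
(lf (nat_lit 13))))
(lf (nat_lit 74)))))
(lf (nat_lit 59)))))
(lf (nat_lit 56)))
(lf (nat_lit 56)))))
(br (nat_lit 11) (br (nat_lit 12) (br (nat_lit 18) (br (nat_lit 21) (br (nat_lit 4) (lf (nat_lit 51))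
(br (nat_lit 22) (br (nat_lit 28) (br (nat_lit 1) (lf (nat_lit 12))
(br (nat_lit 5) (lf (nat_lit 18))
(br (nat_lit 9) (lf (nat_lit 12))
(br (nat_lit 16) (br (nat_lit 14) (br (nat_lit 2) (lf (nat_lit 9))
(lf (nat_lit 13)))
(lf (nat_lit 15)))
(lf (nat_lit 13))))))
(lf (nat_lit 58)))
(lf (nat_lit 74))))
(lf (nat_lit 74)))
(lf (nat_lit 58)))
(lf (nat_lit 74)))
(lf (nat_lit 58)))))
(br (nat_lit 59) (br (nat_lit 3) (br (nat_lit 2) (lf (nat_lit 44))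
(br (nat_lit 20) (lf (nat_lit 44))
(br (nat_lit 16) (br (nat_lit 21) (lf (nat_lit 44))
(br (nat_lit 1) (br (nat_lit 32) (lf (nat_lit 39))
(br (nat_lit 37) (lf (nat_lit 39))
(lf (nat_lit 56))))
(lf (nat_lit 40))))
(lf (nat_lit 13)))))
(br (nat_lit 11) (br (nat_lit 18) (br (nat_lit 28) (br (nat_lit 5) (lf (nat_lit 18))
(br (nat_lit 39) (br (nat_lit 32) (lf (nat_lit 39))
(br (nat_lit 37) (lf (nat_lit 39))
(lf (nat_lit 56))))
(lf (nat_lit 58))))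
(lf (nat_lit 58)))
(lf (nat_lit 58)))
(lf (nat_lit 58))))
(br (nat_lit 3) (lf (nat_lit 2))
(br (nat_lit 29) (br (nat_lit 31) (br (nat_lit 44) (br (nat_lit 18) (br (nat_lit 4) (lf (nat_lit 51))
(br (nat_lit 5) (lf (nat_lit 18))
(br (nat_lit 11) (br (nat_lit 1) (lf (nat_lit 5))
(br (nat_lit 9) (br (nat_lit 7) (lf (nat_lit 41))
(br (nat_lit 12) (lf (nat_lit 12))
(lf (nat_lit 8))))
(lf (nat_lit 38))))
(lf (nat_lit 30)))))
(lf (nat_lit 43)))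
(lf (nat_lit 2)))
(lf (nat_lit 2)))
(lf (nat_lit 2)))))))
(br (nat_lit 70) (br (nat_lit 0) (br (nat_lit 39) (br (nat_lit 3) (lf (nat_lit 39))
(br (nat_lit 32) (lf (nat_lit 39))
(br (nat_lit 37) (lf (nat_lit 39))
(br (nat_lit 5) (br (nat_lit 20) (br (nat_lit 43) (br (nat_lit 46) (br (nat_lit 18) (lf (nat_lit 18))
(br (nat_lit 4) (br (nat_lit 11) (br (nat_lit 1) (lf (nat_lit 5))
(br (nat_lit 7) (lf (nat_lit 33))
(br (nat_lit 21) (lf (nat_lit 51))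
(br (nat_lit 24) (lf (nat_lit 33))
(br (nat_lit 8) (br (nat_lit 9) (br (nat_lit 12) (lf (nat_lit 41))
(lf (nat_lit 11)))
(lf (nat_lit 6)))
(lf (nat_lit 6)))))))
(lf (nat_lit 58)))
(lf (nat_lit 43))))
(lf (nat_lit 56)))
(lf (nat_lit 56)))
(lf (nat_lit 56)))
(lf (nat_lit 56))))))
(br (nat_lit 3) (br (nat_lit 32) (lf (nat_lit 39))
(br (nat_lit 37) (lf (nat_lit 39))
(br (nat_lit 5) (br (nat_lit 20) (br (nat_lit 2) (lf (nat_lit 44))
(br (nat_lit 21) (lf (nat_lit 44))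
(br (nat_lit 1) (br (nat_lit 9) (lf (nat_lit 38))
(br (nat_lit 11) (lf (nat_lit 5))
(br (nat_lit 12) (br (nat_lit 14) (lf (nat_lit 40))
(br (nat_lit 16) (br (nat_lit 4) (lf (nat_lit 42))
(br (nat_lit 22) (br (nat_lit 24) (br (nat_lit 7) (lf (nat_lit 22))
(br (nat_lit 26) (lf (nat_lit 24))
(lf (nat_lit 55))))
(lf (nat_lit 6)))
(lf (nat_lit 74))))
(lf (nat_lit 13))))
(lf (nat_lit 74)))))
(lf (nat_lit 59)))))
(lf (nat_lit 56)))
(lf (nat_lit 56)))))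
(br (nat_lit 11) (br (nat_lit 12) (br (nat_lit 18) (br (nat_lit 21) (br (nat_lit 4) (lf (nat_lit 51))
(br (nat_lit 22) (br (nat_lit 28) (br (nat_lit 1) (lf (nat_lit 12))
(br (nat_lit 5) (lf (nat_lit 18))
(br (nat_lit 9) (lf (nat_lit 12))
(br (nat_lit 16) (br (nat_lit 7) (lf (nat_lit 22))
(br (nat_lit 14) (lf (nat_lit 22))
(lf (nat_lit 15))))
(lf (nat_lit 13))))))
(lf (nat_lit 58)))
(lf (nat_lit 74))))
(lf (nat_lit 74)))
(lf (nat_lit 58)))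
(lf (nat_lit 74)))
(lf (nat_lit 58)))))
(br (nat_lit 59) (br (nat_lit 3) (br (nat_lit 2) (lf (nat_lit 44))
(br (nat_lit 20) (lf (nat_lit 44))
(br (nat_lit 16) (br (nat_lit 21) (lf (nat_lit 44))
(br (nat_lit 1) (br (nat_lit 32) (lf (nat_lit 39))
(br (nat_lit 37) (lf (nat_lit 39))
(lf (nat_lit 56))))
(lf (nat_lit 40))))
(lf (nat_lit 13)))))
(br (nat_lit 11) (br (nat_lit 18) (br (nat_lit 28) (br (nat_lit 5) (lf (nat_lit 18))
(br (nat_lit 39) (br (nat_lit 32) (lf (nat_lit 39))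
(br (nat_lit 37) (lf (nat_lit 39))
(lf (nat_lit 56))))
(lf (nat_lit 58))))
(lf (nat_lit 58)))
(lf (nat_lit 58)))
(lf (nat_lit 58))))
(br (nat_lit 3) (lf (nat_lit 2))
(br (nat_lit 29) (br (nat_lit 31) (br (nat_lit 11) (br (nat_lit 1) (lf (nat_lit 5))
(br (nat_lit 5) (lf (nat_lit 5))
(br (nat_lit 2) (br (nat_lit 7) (lf (nat_lit 22))
(br (nat_lit 9) (br (nat_lit 12) (lf (nat_lit 41))
(br (nat_lit 4) (br (nat_lit 14) (lf (nat_lit 22))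
(lf (nat_lit 8)))
(lf (nat_lit 8))))
(lf (nat_lit 38))))
(lf (nat_lit 30)))))
(lf (nat_lit 30)))
(lf (nat_lit 2)))
(lf (nat_lit 2))))))
(lf (nat_lit 70))))

open Dt in
noncomputable def t15 : Dt :=
(br (nat_lit 34) (br (nat_lit 70) (lf (nat_lit 70))
(br (nat_lit 0) (br (nat_lit 39) (br (nat_lit 3) (lf (nat_lit 39))
(br (nat_lit 32) (lf (nat_lit 39))
(br (nat_lit 37) (lf (nat_lit 39))
(br (nat_lit 5) (br (nat_lit 20) (br (nat_lit 43) (br (nat_lit 46) (br (nat_lit 57) (lf (nat_lit 39))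
(br (nat_lit 55) (br (nat_lit 2) (lf (nat_lit 44))
(br (nat_lit 21) (lf (nat_lit 44))
(br (nat_lit 22) (lf (nat_lit 24))
(br (nat_lit 12) (br (nat_lit 7) (lf (nat_lit 41))
(br (nat_lit 9) (lf (nat_lit 41))
(lf (nat_lit 11))))
(lf (nat_lit 74))))))
(lf (nat_lit 19))))
(lf (nat_lit 56)))
(lf (nat_lit 56)))
(lf (nat_lit 56)))
(lf (nat_lit 56))))))
(br (nat_lit 3) (br (nat_lit 32) (lf (nat_lit 39))
(br (nat_lit 37) (lf (nat_lit 39))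
(br (nat_lit 5) (br (nat_lit 20) (br (nat_lit 2) (lf (nat_lit 44))
(br (nat_lit 21) (lf (nat_lit 44))
(br (nat_lit 1) (br (nat_lit 9) (lf (nat_lit 38))
(br (nat_lit 11) (lf (nat_lit 5))
(br (nat_lit 7) (br (nat_lit 12) (br (nat_lit 16) (br (nat_lit 4) (lf (nat_lit 42))
(br (nat_lit 14) (lf (nat_lit 13))
(br (nat_lit 22) (br (nat_lit 24) (lf (nat_lit 41))
(lf (nat_lit 6)))
(lf (nat_lit 74)))))
(lf (nat_lit 11)))
(lf (nat_lit 74)))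
(lf (nat_lit 67)))))
(lf (nat_lit 59)))))
(lf (nat_lit 56)))
(lf (nat_lit 56)))))
(br (nat_lit 11) (br (nat_lit 12) (br (nat_lit 18) (br (nat_lit 21) (br (nat_lit 4) (lf (nat_lit 51))
(br (nat_lit 22) (br (nat_lit 28) (br (nat_lit 1) (lf (nat_lit 12))
(br (nat_lit 9) (lf (nat_lit 12))
(br (nat_lit 16) (br (nat_lit 14) (br (nat_lit 2) (lf (nat_lit 9))
(lf (nat_lit 13)))
(lf (nat_lit 15)))
(lf (nat_lit 11)))))
(lf (nat_lit 58)))
(lf (nat_lit 74))))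
(lf (nat_lit 74)))
(lf (nat_lit 58)))
(lf (nat_lit 74)))
(lf (nat_lit 58)))))
(br (nat_lit 21) (br (nat_lit 60) (br (nat_lit 2) (lf (nat_lit 44))
(br (nat_lit 3) (lf (nat_lit 44))
(br (nat_lit 4) (lf (nat_lit 51))
(br (nat_lit 16) (br (nat_lit 18) (lf (nat_lit 51))
(br (nat_lit 11) (br (nat_lit 20) (lf (nat_lit 44))
(br (nat_lit 1) (br (nat_lit 5) (lf (nat_lit 5))
(br (nat_lit 9) (br (nat_lit 12) (lf (nat_lit 14))
(lf (nat_lit 8)))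
(lf (nat_lit 13))))
(lf (nat_lit 40))))
(lf (nat_lit 58))))
(lf (nat_lit 13))))))
(lf (nat_lit 20)))
(br (nat_lit 1) (br (nat_lit 9) (br (nat_lit 12) (lf (nat_lit 14))
(br (nat_lit 4) (br (nat_lit 7) (br (nat_lit 14) (br (nat_lit 24) (lf (nat_lit 41))
(br (nat_lit 26) (lf (nat_lit 14))
(br (nat_lit 29) (lf (nat_lit 41))
(br (nat_lit 2) (br (nat_lit 8) (lf (nat_lit 9))
(br (nat_lit 16) (lf (nat_lit 9))
(br (nat_lit 11) (br (nat_lit 5) (lf (nat_lit 5))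
(br (nat_lit 20) (br (nat_lit 3) (lf (nat_lit 44))
(br (nat_lit 22) (br (nat_lit 28) (lf (nat_lit 24))
(br (nat_lit 18) (br (nat_lit 30) (lf (nat_lit 14))
(br (nat_lit 31) (lf (nat_lit 5))
(lf (nat_lit 46))))
(lf (nat_lit 58))))
(lf (nat_lit 11))))
(lf (nat_lit 13))))
(lf (nat_lit 55)))))
(lf (nat_lit 55))))))
(lf (nat_lit 8)))
(lf (nat_lit 8)))
(lf (nat_lit 8))))
(br (nat_lit 12) (lf (nat_lit 11))
(br (nat_lit 16) (br (nat_lit 14) (br (nat_lit 2) (lf (nat_lit 9))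
(br (nat_lit 4) (br (nat_lit 8) (lf (nat_lit 9))
(br (nat_lit 20) (br (nat_lit 22) (br (nat_lit 24) (br (nat_lit 7) (lf (nat_lit 22))
(br (nat_lit 11) (lf (nat_lit 22))
(br (nat_lit 26) (lf (nat_lit 24))
(lf (nat_lit 55)))))
(lf (nat_lit 11)))
(lf (nat_lit 11)))
(lf (nat_lit 13))))
(lf (nat_lit 13))))
(lf (nat_lit 15)))
(lf (nat_lit 11)))))
(lf (nat_lit 40))))))
(br (nat_lit 70) (br (nat_lit 0) (br (nat_lit 39) (br (nat_lit 3) (lf (nat_lit 39))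
(br (nat_lit 32) (lf (nat_lit 39))
(br (nat_lit 37) (lf (nat_lit 39))
(br (nat_lit 5) (br (nat_lit 20) (br (nat_lit 43) (br (nat_lit 46) (br (nat_lit 57) (lf (nat_lit 39))
(br (nat_lit 55) (br (nat_lit 2) (lf (nat_lit 44))
(br (nat_lit 11) (br (nat_lit 1) (lf (nat_lit 5))
(br (nat_lit 7) (lf (nat_lit 33))
(br (nat_lit 16) (br (nat_lit 14) (lf (nat_lit 22))
(lf (nat_lit 15)))
(lf (nat_lit 54)))))
(lf (nat_lit 30))))
(lf (nat_lit 19))))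
(lf (nat_lit 56)))
(lf (nat_lit 56)))
(lf (nat_lit 56)))
(lf (nat_lit 56))))))
(br (nat_lit 3) (br (nat_lit 32) (lf (nat_lit 39))
(br (nat_lit 37) (lf (nat_lit 39))
(br (nat_lit 5) (br (nat_lit 20) (br (nat_lit 2) (lf (nat_lit 44))
(br (nat_lit 21) (lf (nat_lit 44))
(br (nat_lit 1) (br (nat_lit 9) (lf (nat_lit 38))
(br (nat_lit 11) (lf (nat_lit 5))
(br (nat_lit 7) (br (nat_lit 8) (br (nat_lit 12) (br (nat_lit 16) (br (nat_lit 4) (lf (nat_lit 42))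
(br (nat_lit 14) (lf (nat_lit 9))
(br (nat_lit 22) (br (nat_lit 24) (lf (nat_lit 22))
(lf (nat_lit 6)))
(lf (nat_lit 74)))))
(lf (nat_lit 11)))
(lf (nat_lit 74)))
(lf (nat_lit 6)))
(lf (nat_lit 67)))))
(lf (nat_lit 59)))))
(lf (nat_lit 56)))
(lf (nat_lit 56)))))
(br (nat_lit 11) (br (nat_lit 12) (br (nat_lit 18) (br (nat_lit 21) (br (nat_lit 4) (lf (nat_lit 51))
(br (nat_lit 22) (br (nat_lit 28) (br (nat_lit 1) (lf (nat_lit 12))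
(br (nat_lit 9) (lf (nat_lit 12))
(br (nat_lit 16) (br (nat_lit 7) (lf (nat_lit 22))
(br (nat_lit 14) (lf (nat_lit 22))
(lf (nat_lit 8))))
(lf (nat_lit 11)))))
(lf (nat_lit 58)))
(lf (nat_lit 74))))
(lf (nat_lit 74)))
(lf (nat_lit 58)))
(lf (nat_lit 74)))
(lf (nat_lit 58)))))
(br (nat_lit 21) (br (nat_lit 60) (br (nat_lit 2) (lf (nat_lit 44))
(br (nat_lit 3) (lf (nat_lit 44))
(br (nat_lit 4) (lf (nat_lit 51))
(br (nat_lit 11) (br (nat_lit 16) (br (nat_lit 7) (lf (nat_lit 22))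
(br (nat_lit 12) (br (nat_lit 9) (br (nat_lit 1) (lf (nat_lit 14))
(br (nat_lit 14) (lf (nat_lit 22))
(lf (nat_lit 8))))
(lf (nat_lit 11)))
(lf (nat_lit 8))))
(lf (nat_lit 13)))
(lf (nat_lit 30))))))
(lf (nat_lit 20)))
(br (nat_lit 1) (br (nat_lit 9) (br (nat_lit 12) (lf (nat_lit 14))
(br (nat_lit 4) (br (nat_lit 7) (br (nat_lit 14) (br (nat_lit 11) (lf (nat_lit 22))
(br (nat_lit 16) (lf (nat_lit 22))
(br (nat_lit 2) (br (nat_lit 8) (lf (nat_lit 9))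
(br (nat_lit 20) (br (nat_lit 3) (lf (nat_lit 44))
(br (nat_lit 5) (br (nat_lit 18) (br (nat_lit 24) (lf (nat_lit 22))
(lf (nat_lit 6)))
(lf (nat_lit 58)))
(lf (nat_lit 30))))
(lf (nat_lit 13))))
(lf (nat_lit 13)))))
(lf (nat_lit 8)))
(lf (nat_lit 8)))
(lf (nat_lit 8))))
(br (nat_lit 12) (lf (nat_lit 11))
(br (nat_lit 16) (br (nat_lit 14) (br (nat_lit 2) (lf (nat_lit 9))
(br (nat_lit 4) (br (nat_lit 7) (lf (nat_lit 22))
(br (nat_lit 8) (lf (nat_lit 9))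
(br (nat_lit 11) (lf (nat_lit 22))
(br (nat_lit 3) (br (nat_lit 5) (br (nat_lit 18) (lf (nat_lit 42))
(br (nat_lit 20) (br (nat_lit 22) (br (nat_lit 24) (lf (nat_lit 22))
(lf (nat_lit 6)))
(lf (nat_lit 11)))
(lf (nat_lit 13))))
(lf (nat_lit 30)))
(lf (nat_lit 30))))))
(lf (nat_lit 13))))
(lf (nat_lit 15)))
(lf (nat_lit 11)))))
(lf (nat_lit 40)))))
(lf (nat_lit 70))))

open Dt in
noncomputable def t16 : Dt :=
(br (nat_lit 34) (br (nat_lit 70) (lf (nat_lit 70))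
(br (nat_lit 0) (br (nat_lit 39) (br (nat_lit 3) (lf (nat_lit 39))
(br (nat_lit 32) (lf (nat_lit 39))
(br (nat_lit 37) (lf (nat_lit 39))
(br (nat_lit 5) (br (nat_lit 20) (br (nat_lit 43) (br (nat_lit 46) (br (nat_lit 57) (lf (nat_lit 39))
(br (nat_lit 55) (br (nat_lit 2) (lf (nat_lit 44))
(br (nat_lit 21) (lf (nat_lit 44))
(br (nat_lit 22) (lf (nat_lit 24))
(br (nat_lit 12) (br (nat_lit 7) (lf (nat_lit 41))
(br (nat_lit 9) (lf (nat_lit 41))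
(lf (nat_lit 11))))
(lf (nat_lit 74))))))
(lf (nat_lit 19))))
(lf (nat_lit 56)))
(lf (nat_lit 56)))
(lf (nat_lit 56)))
(lf (nat_lit 56))))))
(br (nat_lit 3) (br (nat_lit 32) (lf (nat_lit 39))
(br (nat_lit 37) (lf (nat_lit 39))
(br (nat_lit 5) (br (nat_lit 20) (br (nat_lit 2) (lf (nat_lit 44))
(br (nat_lit 21) (lf (nat_lit 44))
(br (nat_lit 1) (br (nat_lit 9) (lf (nat_lit 38))
(br (nat_lit 11) (lf (nat_lit 5))
(br (nat_lit 12) (br (nat_lit 16) (br (nat_lit 4) (lf (nat_lit 42))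
(br (nat_lit 14) (lf (nat_lit 13))
(br (nat_lit 7) (br (nat_lit 18) (lf (nat_lit 12))
(br (nat_lit 22) (br (nat_lit 24) (lf (nat_lit 41))
(lf (nat_lit 6)))
(lf (nat_lit 74))))
(lf (nat_lit 8)))))
(lf (nat_lit 11)))
(lf (nat_lit 74)))))
(lf (nat_lit 59)))))
(lf (nat_lit 56)))
(lf (nat_lit 56)))))
(br (nat_lit 11) (br (nat_lit 12) (br (nat_lit 18) (br (nat_lit 1) (lf (nat_lit 12))
(br (nat_lit 9) (lf (nat_lit 12))
(br (nat_lit 16) (br (nat_lit 4) (lf (nat_lit 42))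
(br (nat_lit 14) (br (nat_lit 2) (lf (nat_lit 9))
(lf (nat_lit 13)))
(lf (nat_lit 15))))
(lf (nat_lit 11)))))
(lf (nat_lit 58)))
(lf (nat_lit 74)))
(lf (nat_lit 58)))))
(br (nat_lit 21) (br (nat_lit 60) (br (nat_lit 2) (lf (nat_lit 44))
(br (nat_lit 3) (lf (nat_lit 44))
(br (nat_lit 4) (lf (nat_lit 51))
(br (nat_lit 16) (br (nat_lit 18) (lf (nat_lit 51))
(lf (nat_lit 43)))
(lf (nat_lit 13))))))
(lf (nat_lit 20)))
(br (nat_lit 1) (br (nat_lit 9) (br (nat_lit 12) (lf (nat_lit 12))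
(br (nat_lit 4) (br (nat_lit 7) (br (nat_lit 14) (br (nat_lit 18) (lf (nat_lit 12))
(br (nat_lit 24) (lf (nat_lit 41))
(br (nat_lit 28) (lf (nat_lit 12))
(br (nat_lit 3) (br (nat_lit 29) (lf (nat_lit 41))
(br (nat_lit 2) (br (nat_lit 8) (lf (nat_lit 9))
(br (nat_lit 16) (lf (nat_lit 9))
(br (nat_lit 20) (lf (nat_lit 44))
(lf (nat_lit 13)))))
(lf (nat_lit 61))))
(lf (nat_lit 58))))))
(lf (nat_lit 8)))
(lf (nat_lit 8)))
(lf (nat_lit 8))))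
(br (nat_lit 12) (lf (nat_lit 11))
(br (nat_lit 16) (br (nat_lit 14) (br (nat_lit 2) (lf (nat_lit 9))
(br (nat_lit 4) (br (nat_lit 8) (lf (nat_lit 9))
(br (nat_lit 20) (br (nat_lit 22) (br (nat_lit 24) (br (nat_lit 7) (lf (nat_lit 22))
(br (nat_lit 11) (lf (nat_lit 22))
(br (nat_lit 26) (lf (nat_lit 24))
(lf (nat_lit 55)))))
(lf (nat_lit 11)))
(lf (nat_lit 11)))
(lf (nat_lit 13))))
(lf (nat_lit 13))))
(lf (nat_lit 15)))
(lf (nat_lit 11)))))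
(lf (nat_lit 40))))))
(br (nat_lit 70) (br (nat_lit 0) (br (nat_lit 39) (br (nat_lit 3) (lf (nat_lit 39))
(br (nat_lit 32) (lf (nat_lit 39))
(br (nat_lit 37) (lf (nat_lit 39))
(br (nat_lit 5) (br (nat_lit 20) (br (nat_lit 43) (br (nat_lit 46) (br (nat_lit 57) (lf (nat_lit 39))
(br (nat_lit 55) (br (nat_lit 2) (lf (nat_lit 44))
(br (nat_lit 11) (br (nat_lit 1) (lf (nat_lit 5))
(br (nat_lit 7) (lf (nat_lit 33))
(br (nat_lit 16) (br (nat_lit 14) (lf (nat_lit 22))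
(lf (nat_lit 15)))
(lf (nat_lit 54)))))
(lf (nat_lit 30))))
(lf (nat_lit 19))))
(lf (nat_lit 56)))
(lf (nat_lit 56)))
(lf (nat_lit 56)))
(lf (nat_lit 56))))))
(br (nat_lit 3) (br (nat_lit 32) (lf (nat_lit 39))
(br (nat_lit 37) (lf (nat_lit 39))
(br (nat_lit 5) (br (nat_lit 20) (br (nat_lit 2) (lf (nat_lit 44))
(br (nat_lit 21) (lf (nat_lit 44))
(br (nat_lit 1) (br (nat_lit 9) (lf (nat_lit 38))
(br (nat_lit 11) (lf (nat_lit 5))
(br (nat_lit 12) (br (nat_lit 16) (br (nat_lit 4) (lf (nat_lit 42))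
(br (nat_lit 14) (lf (nat_lit 13))
(br (nat_lit 7) (br (nat_lit 8) (br (nat_lit 18) (lf (nat_lit 12))
(br (nat_lit 22) (br (nat_lit 24) (lf (nat_lit 22))
(lf (nat_lit 6)))
(lf (nat_lit 74))))
(lf (nat_lit 6)))
(lf (nat_lit 8)))))
(lf (nat_lit 11)))
(lf (nat_lit 74)))))
(lf (nat_lit 59)))))
(lf (nat_lit 56)))
(lf (nat_lit 56)))))
(br (nat_lit 11) (br (nat_lit 12) (br (nat_lit 18) (br (nat_lit 1) (lf (nat_lit 12))
(br (nat_lit 9) (lf (nat_lit 12))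
(br (nat_lit 16) (br (nat_lit 4) (lf (nat_lit 42))
(br (nat_lit 7) (lf (nat_lit 22))
(br (nat_lit 14) (lf (nat_lit 22))
(lf (nat_lit 8)))))
(lf (nat_lit 11)))))
(lf (nat_lit 58)))
(lf (nat_lit 74)))
(lf (nat_lit 58)))))
(br (nat_lit 21) (br (nat_lit 60) (br (nat_lit 2) (lf (nat_lit 44))
(br (nat_lit 3) (lf (nat_lit 44))
(br (nat_lit 4) (lf (nat_lit 51))
(br (nat_lit 11) (br (nat_lit 16) (br (nat_lit 7) (lf (nat_lit 22))
(br (nat_lit 12) (br (nat_lit 9) (br (nat_lit 1) (lf (nat_lit 12))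
(br (nat_lit 14) (lf (nat_lit 22))
(lf (nat_lit 8))))
(lf (nat_lit 11)))
(lf (nat_lit 8))))
(lf (nat_lit 13)))
(lf (nat_lit 30))))))
(lf (nat_lit 20)))
(br (nat_lit 1) (br (nat_lit 9) (br (nat_lit 12) (lf (nat_lit 12))
(br (nat_lit 4) (br (nat_lit 7) (br (nat_lit 14) (br (nat_lit 11) (lf (nat_lit 22))
(br (nat_lit 16) (lf (nat_lit 22))
(br (nat_lit 2) (br (nat_lit 8) (lf (nat_lit 9))
(br (nat_lit 18) (lf (nat_lit 12))
(br (nat_lit 3) (br (nat_lit 20) (lf (nat_lit 44))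
(lf (nat_lit 13)))
(lf (nat_lit 58)))))
(lf (nat_lit 13)))))
(lf (nat_lit 8)))
(lf (nat_lit 8)))
(lf (nat_lit 8))))
(br (nat_lit 12) (lf (nat_lit 11))
(br (nat_lit 16) (br (nat_lit 14) (br (nat_lit 2) (lf (nat_lit 9))
(br (nat_lit 4) (br (nat_lit 7) (lf (nat_lit 22))
(br (nat_lit 8) (lf (nat_lit 9))
(br (nat_lit 11) (lf (nat_lit 22))
(br (nat_lit 3) (br (nat_lit 5) (br (nat_lit 18) (lf (nat_lit 42))
(br (nat_lit 20) (br (nat_lit 22) (br (nat_lit 24) (lf (nat_lit 22))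
(lf (nat_lit 6)))
(lf (nat_lit 11)))
(lf (nat_lit 13))))
(lf (nat_lit 30)))
(lf (nat_lit 30))))))
(lf (nat_lit 13))))
(lf (nat_lit 15)))
(lf (nat_lit 11)))))
(lf (nat_lit 40)))))
(lf (nat_lit 70))))

open Dt in
noncomputable def t17 : Dt :=
(br (nat_lit 15) (br (nat_lit 19) (lf (nat_lit 50))
(br (nat_lit 36) (lf (nat_lit 50))
(br (nat_lit 33) (br (nat_lit 34) (lf (nat_lit 70))
(br (nat_lit 70) (lf (nat_lit 70))
(br (nat_lit 0) (br (nat_lit 3) (br (nat_lit 32) (lf (nat_lit 39))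
(br (nat_lit 37) (lf (nat_lit 39))
(br (nat_lit 39) (lf (nat_lit 39))
(br (nat_lit 12) (br (nat_lit 21) (br (nat_lit 2) (lf (nat_lit 44))
(br (nat_lit 20) (lf (nat_lit 44))
(br (nat_lit 1) (br (nat_lit 5) (br (nat_lit 11) (lf (nat_lit 5))
(br (nat_lit 14) (lf (nat_lit 40))
(br (nat_lit 16) (br (nat_lit 4) (lf (nat_lit 42))
(br (nat_lit 22) (br (nat_lit 9) (lf (nat_lit 11))
(br (nat_lit 24) (br (nat_lit 7) (lf (nat_lit 33))
(br (nat_lit 26) (br (nat_lit 28) (lf (nat_lit 24))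
(lf (nat_lit 23)))
(lf (nat_lit 55))))
(lf (nat_lit 6))))
(lf (nat_lit 74))))
(lf (nat_lit 54)))))
(lf (nat_lit 56)))
(lf (nat_lit 54)))))
(lf (nat_lit 74)))
(lf (nat_lit 74))))))
(br (nat_lit 39) (br (nat_lit 7) (lf (nat_lit 33))
(br (nat_lit 11) (lf (nat_lit 33))
(br (nat_lit 2) (br (nat_lit 5) (br (nat_lit 18) (br (nat_lit 24) (lf (nat_lit 33))
(br (nat_lit 28) (lf (nat_lit 18))
(lf (nat_lit 46))))
(lf (nat_lit 58)))
(lf (nat_lit 30)))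
(lf (nat_lit 30)))))
(lf (nat_lit 74))))
(br (nat_lit 39) (br (nat_lit 1) (br (nat_lit 9) (br (nat_lit 48) (br (nat_lit 59) (br (nat_lit 3) (lf (nat_lit 39))
(br (nat_lit 11) (br (nat_lit 5) (lf (nat_lit 5))
(br (nat_lit 7) (lf (nat_lit 33))
(br (nat_lit 18) (br (nat_lit 12) (lf (nat_lit 12))
(br (nat_lit 4) (br (nat_lit 2) (lf (nat_lit 48))
(br (nat_lit 14) (br (nat_lit 21) (lf (nat_lit 51))
(br (nat_lit 22) (lf (nat_lit 48))
(lf (nat_lit 74))))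
(lf (nat_lit 8))))
(lf (nat_lit 8))))
(lf (nat_lit 58)))))
(lf (nat_lit 58))))
(lf (nat_lit 38)))
(lf (nat_lit 38)))
(lf (nat_lit 38)))
(lf (nat_lit 38)))
(br (nat_lit 3) (br (nat_lit 59) (br (nat_lit 2) (lf (nat_lit 44))
(br (nat_lit 20) (lf (nat_lit 44))
(br (nat_lit 21) (lf (nat_lit 44))
(br (nat_lit 1) (br (nat_lit 12) (br (nat_lit 22) (br (nat_lit 4) (lf (nat_lit 48))
(br (nat_lit 16) (br (nat_lit 30) (br (nat_lit 32) (lf (nat_lit 39))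
(br (nat_lit 37) (lf (nat_lit 39))
(br (nat_lit 5) (br (nat_lit 11) (lf (nat_lit 5))
(br (nat_lit 18) (br (nat_lit 9) (lf (nat_lit 12))
(br (nat_lit 14) (lf (nat_lit 13))
(br (nat_lit 24) (br (nat_lit 7) (lf (nat_lit 41))
(br (nat_lit 26) (br (nat_lit 28) (lf (nat_lit 12))
(lf (nat_lit 23)))
(lf (nat_lit 55))))
(lf (nat_lit 6)))))
(lf (nat_lit 58))))
(lf (nat_lit 56)))))
(lf (nat_lit 59)))
(lf (nat_lit 13))))
(lf (nat_lit 74)))
(lf (nat_lit 74)))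
(lf (nat_lit 40))))))
(lf (nat_lit 2)))
(br (nat_lit 11) (br (nat_lit 12) (br (nat_lit 18) (br (nat_lit 21) (br (nat_lit 4) (lf (nat_lit 51))
(br (nat_lit 22) (br (nat_lit 28) (br (nat_lit 1) (lf (nat_lit 12))
(br (nat_lit 5) (lf (nat_lit 18))
(br (nat_lit 9) (lf (nat_lit 12))
(lf (nat_lit 38)))))
(lf (nat_lit 58)))
(lf (nat_lit 74))))
(lf (nat_lit 74)))
(lf (nat_lit 58)))
(lf (nat_lit 74)))
(lf (nat_lit 58))))))))
t14)))
(br (nat_lit 19) (br (nat_lit 36) (lf (nat_lit 50))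
(br (nat_lit 33) (br (nat_lit 34) (lf (nat_lit 70))
(br (nat_lit 70) (lf (nat_lit 70))
(br (nat_lit 0) (br (nat_lit 3) (br (nat_lit 32) (lf (nat_lit 39))
(br (nat_lit 37) (lf (nat_lit 39))
(br (nat_lit 39) (lf (nat_lit 39))
(br (nat_lit 12) (br (nat_lit 21) (br (nat_lit 2) (lf (nat_lit 44))
(br (nat_lit 20) (lf (nat_lit 44))
(br (nat_lit 1) (br (nat_lit 5) (br (nat_lit 9) (lf (nat_lit 14))
(br (nat_lit 11) (lf (nat_lit 5))
(br (nat_lit 16) (br (nat_lit 4) (lf (nat_lit 42))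
(br (nat_lit 14) (lf (nat_lit 13))
(br (nat_lit 7) (br (nat_lit 8) (br (nat_lit 22) (br (nat_lit 24) (lf (nat_lit 33))
(lf (nat_lit 6)))
(lf (nat_lit 74)))
(lf (nat_lit 6)))
(lf (nat_lit 8)))))
(lf (nat_lit 11)))))
(lf (nat_lit 56)))
(lf (nat_lit 54)))))
(lf (nat_lit 74)))
(lf (nat_lit 74))))))
(br (nat_lit 39) (br (nat_lit 7) (lf (nat_lit 33))
(br (nat_lit 11) (lf (nat_lit 33))
(br (nat_lit 2) (br (nat_lit 5) (br (nat_lit 18) (br (nat_lit 24) (lf (nat_lit 33))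
(br (nat_lit 28) (br (nat_lit 30) (br (nat_lit 4) (lf (nat_lit 51))
(br (nat_lit 12) (br (nat_lit 1) (lf (nat_lit 12))
(br (nat_lit 9) (lf (nat_lit 12))
(lf (nat_lit 11))))
(lf (nat_lit 8))))
(lf (nat_lit 30)))
(lf (nat_lit 58))))
(lf (nat_lit 58)))
(lf (nat_lit 30)))
(lf (nat_lit 30)))))
(lf (nat_lit 74))))
(br (nat_lit 21) (br (nat_lit 60) (br (nat_lit 2) (lf (nat_lit 44))
(br (nat_lit 3) (lf (nat_lit 44))
(br (nat_lit 4) (lf (nat_lit 51))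
(br (nat_lit 11) (br (nat_lit 18) (lf (nat_lit 51))
(br (nat_lit 20) (lf (nat_lit 44))
(br (nat_lit 1) (br (nat_lit 5) (lf (nat_lit 5))
(br (nat_lit 12) (br (nat_lit 9) (lf (nat_lit 14))
(lf (nat_lit 11)))
(lf (nat_lit 42))))
(lf (nat_lit 40)))))
(lf (nat_lit 30))))))
(lf (nat_lit 20)))
(br (nat_lit 1) (br (nat_lit 3) (br (nat_lit 59) (br (nat_lit 2) (lf (nat_lit 44))
(br (nat_lit 20) (lf (nat_lit 44))
(br (nat_lit 14) (br (nat_lit 16) (br (nat_lit 8) (lf (nat_lit 9))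
(br (nat_lit 32) (lf (nat_lit 39))
(br (nat_lit 24) (br (nat_lit 7) (lf (nat_lit 22))
(br (nat_lit 11) (lf (nat_lit 22))
(lf (nat_lit 67))))
(lf (nat_lit 6)))))
(lf (nat_lit 13)))
(lf (nat_lit 40)))))
(lf (nat_lit 2)))
(br (nat_lit 39) (br (nat_lit 9) (br (nat_lit 12) (lf (nat_lit 14))
(br (nat_lit 4) (br (nat_lit 7) (br (nat_lit 11) (lf (nat_lit 33))
(br (nat_lit 2) (br (nat_lit 5) (br (nat_lit 14) (br (nat_lit 8) (lf (nat_lit 9))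
(br (nat_lit 16) (lf (nat_lit 9))
(br (nat_lit 18) (br (nat_lit 22) (lf (nat_lit 47))
(lf (nat_lit 74)))
(lf (nat_lit 58)))))
(lf (nat_lit 8)))
(lf (nat_lit 30)))
(lf (nat_lit 30))))
(lf (nat_lit 8)))
(lf (nat_lit 8))))
(lf (nat_lit 38)))
(lf (nat_lit 74))))
(lf (nat_lit 40)))))))
t15))
(br (nat_lit 36) (br (nat_lit 33) (br (nat_lit 34) (lf (nat_lit 70))
(br (nat_lit 70) (lf (nat_lit 70))
(br (nat_lit 0) (br (nat_lit 3) (br (nat_lit 32) (lf (nat_lit 39))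
(br (nat_lit 37) (lf (nat_lit 39))
(br (nat_lit 39) (lf (nat_lit 39))
(br (nat_lit 12) (br (nat_lit 21) (br (nat_lit 2) (lf (nat_lit 44))
(br (nat_lit 20) (lf (nat_lit 44))
(br (nat_lit 1) (br (nat_lit 5) (br (nat_lit 9) (lf (nat_lit 12))
(br (nat_lit 11) (lf (nat_lit 5))
(br (nat_lit 16) (br (nat_lit 4) (lf (nat_lit 42))
(br (nat_lit 14) (lf (nat_lit 13))
(br (nat_lit 7) (br (nat_lit 8) (br (nat_lit 18) (lf (nat_lit 12))
(br (nat_lit 22) (br (nat_lit 24) (lf (nat_lit 33))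
(lf (nat_lit 6)))
(lf (nat_lit 74))))
(lf (nat_lit 6)))
(lf (nat_lit 8)))))
(lf (nat_lit 11)))))
(lf (nat_lit 56)))
(lf (nat_lit 54)))))
(lf (nat_lit 74)))
(lf (nat_lit 74))))))
(br (nat_lit 39) (br (nat_lit 7) (lf (nat_lit 33))
(br (nat_lit 11) (lf (nat_lit 33))
(br (nat_lit 2) (br (nat_lit 5) (br (nat_lit 18) (br (nat_lit 24) (lf (nat_lit 33))
(br (nat_lit 28) (br (nat_lit 1) (lf (nat_lit 12))
(br (nat_lit 9) (lf (nat_lit 12))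
(br (nat_lit 8) (br (nat_lit 12) (lf (nat_lit 11))
(br (nat_lit 4) (br (nat_lit 14) (lf (nat_lit 9))
(lf (nat_lit 8)))
(lf (nat_lit 8))))
(lf (nat_lit 6)))))
(lf (nat_lit 46))))
(lf (nat_lit 58)))
(lf (nat_lit 30)))
(lf (nat_lit 30)))))
(lf (nat_lit 74))))
(br (nat_lit 21) (br (nat_lit 60) (br (nat_lit 2) (lf (nat_lit 44))
(br (nat_lit 3) (lf (nat_lit 44))
(br (nat_lit 4) (lf (nat_lit 51))
(br (nat_lit 11) (br (nat_lit 18) (lf (nat_lit 51))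
(lf (nat_lit 43)))
(lf (nat_lit 30))))))
(lf (nat_lit 20)))
(br (nat_lit 1) (br (nat_lit 3) (br (nat_lit 59) (br (nat_lit 2) (lf (nat_lit 44))
(br (nat_lit 20) (lf (nat_lit 44))
(br (nat_lit 14) (br (nat_lit 16) (br (nat_lit 8) (lf (nat_lit 9))
(br (nat_lit 32) (lf (nat_lit 39))
(br (nat_lit 24) (br (nat_lit 7) (lf (nat_lit 22))
(br (nat_lit 11) (lf (nat_lit 22))
(br (nat_lit 5) (br (nat_lit 12) (br (nat_lit 4) (lf (nat_lit 42))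
(br (nat_lit 9) (lf (nat_lit 12))
(lf (nat_lit 11))))
(lf (nat_lit 23)))
(lf (nat_lit 30)))))
(lf (nat_lit 6)))))
(lf (nat_lit 13)))
(lf (nat_lit 40)))))
(lf (nat_lit 2)))
(br (nat_lit 39) (br (nat_lit 9) (br (nat_lit 12) (lf (nat_lit 12))
(br (nat_lit 4) (br (nat_lit 7) (br (nat_lit 11) (lf (nat_lit 33))
(br (nat_lit 2) (br (nat_lit 5) (br (nat_lit 14) (br (nat_lit 8) (lf (nat_lit 9))
(br (nat_lit 16) (lf (nat_lit 9))
(br (nat_lit 18) (lf (nat_lit 12))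
(lf (nat_lit 58)))))
(lf (nat_lit 8)))
(lf (nat_lit 30)))
(lf (nat_lit 30))))
(lf (nat_lit 8)))
(lf (nat_lit 8))))
(lf (nat_lit 38)))
(lf (nat_lit 74))))
(lf (nat_lit 40)))))))
t16)
(lf (nat_lit 50)))))

open Dt in
noncomputable def t18 : Dt :=
(br (nat_lit 45) (br (nat_lit 49) (lf (nat_lit 16))
(br (nat_lit 0) (br (nat_lit 3) (br (nat_lit 32) (lf (nat_lit 39))
(br (nat_lit 37) (lf (nat_lit 39))
(br (nat_lit 24) (br (nat_lit 7) (lf (nat_lit 33))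
(br (nat_lit 11) (lf (nat_lit 33))
(br (nat_lit 5) (br (nat_lit 12) (br (nat_lit 9) (lf (nat_lit 41))
(br (nat_lit 26) (br (nat_lit 28) (br (nat_lit 18) (lf (nat_lit 18))
(br (nat_lit 20) (lf (nat_lit 24))
(br (nat_lit 22) (lf (nat_lit 24))
(br (nat_lit 4) (br (nat_lit 14) (lf (nat_lit 8))
(lf (nat_lit 3)))
(lf (nat_lit 64))))))
(lf (nat_lit 23)))
(lf (nat_lit 65))))
(lf (nat_lit 23)))
(lf (nat_lit 64)))))
(lf (nat_lit 65)))))
(br (nat_lit 39) (br (nat_lit 7) (lf (nat_lit 33))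
(br (nat_lit 11) (lf (nat_lit 33))
(br (nat_lit 2) (br (nat_lit 5) (br (nat_lit 24) (lf (nat_lit 33))
(br (nat_lit 28) (br (nat_lit 18) (lf (nat_lit 18))
(br (nat_lit 4) (br (nat_lit 20) (br (nat_lit 16) (lf (nat_lit 13))
(br (nat_lit 22) (lf (nat_lit 24))
(br (nat_lit 9) (br (nat_lit 12) (br (nat_lit 1) (lf (nat_lit 12))
(br (nat_lit 14) (lf (nat_lit 8))
(lf (nat_lit 13))))
(lf (nat_lit 74)))
(lf (nat_lit 11)))))
(lf (nat_lit 27)))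
(lf (nat_lit 43))))
(lf (nat_lit 46))))
(lf (nat_lit 30)))
(lf (nat_lit 30)))))
(lf (nat_lit 74))))
(br (nat_lit 39) (br (nat_lit 1) (br (nat_lit 9) (br (nat_lit 48) (br (nat_lit 59) (br (nat_lit 3) (lf (nat_lit 39))
(br (nat_lit 32) (lf (nat_lit 39))
(br (nat_lit 37) (lf (nat_lit 39))
(br (nat_lit 24) (br (nat_lit 7) (lf (nat_lit 33))
(br (nat_lit 11) (lf (nat_lit 33))
(br (nat_lit 2) (br (nat_lit 4) (lf (nat_lit 48))
(br (nat_lit 5) (br (nat_lit 12) (lf (nat_lit 41))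
(lf (nat_lit 8)))
(lf (nat_lit 30))))
(lf (nat_lit 30)))))
(lf (nat_lit 65))))))
(lf (nat_lit 38)))
(lf (nat_lit 38)))
(lf (nat_lit 38)))
(lf (nat_lit 38)))
(br (nat_lit 22) (br (nat_lit 48) (br (nat_lit 4) (lf (nat_lit 26))
(br (nat_lit 8) (lf (nat_lit 26))
(br (nat_lit 20) (lf (nat_lit 24))
(br (nat_lit 26) (lf (nat_lit 24))
(br (nat_lit 5) (br (nat_lit 9) (br (nat_lit 12) (br (nat_lit 7) (lf (nat_lit 41))
(br (nat_lit 14) (br (nat_lit 16) (br (nat_lit 2) (lf (nat_lit 9))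
(br (nat_lit 24) (lf (nat_lit 11))
(br (nat_lit 28) (lf (nat_lit 24))
(lf (nat_lit 46)))))
(lf (nat_lit 13)))
(lf (nat_lit 8))))
(lf (nat_lit 8)))
(lf (nat_lit 47)))
(lf (nat_lit 47)))))))
(lf (nat_lit 21)))
(br (nat_lit 3) (br (nat_lit 5) (br (nat_lit 9) (br (nat_lit 12) (br (nat_lit 7) (lf (nat_lit 41))
(br (nat_lit 21) (br (nat_lit 24) (lf (nat_lit 41))
(br (nat_lit 16) (br (nat_lit 26) (br (nat_lit 29) (lf (nat_lit 41))
(br (nat_lit 41) (br (nat_lit 1) (lf (nat_lit 5))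
(br (nat_lit 2) (lf (nat_lit 13))
(br (nat_lit 4) (lf (nat_lit 13))
(br (nat_lit 11) (lf (nat_lit 5))
(br (nat_lit 14) (br (nat_lit 8) (lf (nat_lit 9))
(br (nat_lit 18) (lf (nat_lit 12))
(lf (nat_lit 43))))
(lf (nat_lit 8)))))))
(lf (nat_lit 74))))
(lf (nat_lit 47)))
(lf (nat_lit 11))))
(lf (nat_lit 74))))
(lf (nat_lit 74)))
(lf (nat_lit 47)))
(lf (nat_lit 47)))
(lf (nat_lit 74)))))))
(br (nat_lit 49) (br (nat_lit 0) (br (nat_lit 3) (br (nat_lit 32) (lf (nat_lit 39))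
(br (nat_lit 37) (lf (nat_lit 39))
(br (nat_lit 24) (br (nat_lit 7) (lf (nat_lit 33))
(br (nat_lit 11) (lf (nat_lit 33))
(br (nat_lit 5) (br (nat_lit 12) (br (nat_lit 9) (lf (nat_lit 41))
(br (nat_lit 26) (br (nat_lit 28) (br (nat_lit 18) (lf (nat_lit 18))
(br (nat_lit 20) (lf (nat_lit 24))
(br (nat_lit 1) (br (nat_lit 16) (br (nat_lit 4) (lf (nat_lit 42))
(br (nat_lit 22) (lf (nat_lit 24))
(lf (nat_lit 64))))
(lf (nat_lit 54)))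
(lf (nat_lit 54)))))
(lf (nat_lit 23)))
(lf (nat_lit 65))))
(lf (nat_lit 23)))
(lf (nat_lit 64)))))
(lf (nat_lit 65)))))
(br (nat_lit 39) (br (nat_lit 7) (lf (nat_lit 33))
(br (nat_lit 11) (lf (nat_lit 33))
(br (nat_lit 2) (br (nat_lit 5) (br (nat_lit 24) (lf (nat_lit 33))
(br (nat_lit 28) (br (nat_lit 18) (lf (nat_lit 18))
(br (nat_lit 4) (br (nat_lit 20) (br (nat_lit 16) (lf (nat_lit 13))
(br (nat_lit 22) (lf (nat_lit 24))
(br (nat_lit 9) (br (nat_lit 12) (br (nat_lit 1) (lf (nat_lit 12))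
(br (nat_lit 14) (lf (nat_lit 8))
(lf (nat_lit 13))))
(lf (nat_lit 74)))
(lf (nat_lit 11)))))
(lf (nat_lit 27)))
(lf (nat_lit 43))))
(lf (nat_lit 46))))
(lf (nat_lit 30)))
(lf (nat_lit 30)))))
(lf (nat_lit 74))))
(br (nat_lit 39) (br (nat_lit 1) (br (nat_lit 9) (br (nat_lit 48) (br (nat_lit 59) (br (nat_lit 3) (lf (nat_lit 39))
(br (nat_lit 32) (lf (nat_lit 39))
(br (nat_lit 37) (lf (nat_lit 39))
(br (nat_lit 24) (br (nat_lit 7) (lf (nat_lit 33))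
(br (nat_lit 11) (lf (nat_lit 33))
(br (nat_lit 2) (br (nat_lit 5) (br (nat_lit 12) (lf (nat_lit 41))
(lf (nat_lit 23)))
(lf (nat_lit 30)))
(lf (nat_lit 30)))))
(lf (nat_lit 65))))))
(lf (nat_lit 38)))
(lf (nat_lit 38)))
(lf (nat_lit 38)))
(lf (nat_lit 38)))
(br (nat_lit 21) (br (nat_lit 60) (br (nat_lit 4) (lf (nat_lit 51))
(br (nat_lit 8) (lf (nat_lit 34))
(br (nat_lit 18) (lf (nat_lit 51))
(br (nat_lit 3) (br (nat_lit 2) (lf (nat_lit 44))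
(br (nat_lit 20) (lf (nat_lit 34))
(br (nat_lit 16) (br (nat_lit 29) (br (nat_lit 30) (lf (nat_lit 51))
(br (nat_lit 1) (br (nat_lit 11) (br (nat_lit 5) (lf (nat_lit 5))
(br (nat_lit 12) (br (nat_lit 7) (lf (nat_lit 41))
(br (nat_lit 9) (lf (nat_lit 41))
(br (nat_lit 14) (lf (nat_lit 13))
(br (nat_lit 22) (br (nat_lit 24) (lf (nat_lit 23))
(lf (nat_lit 6)))
(lf (nat_lit 11))))))
(lf (nat_lit 42))))
(lf (nat_lit 30)))
(lf (nat_lit 59))))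
(lf (nat_lit 43)))
(lf (nat_lit 13)))))
(lf (nat_lit 43))))))
(lf (nat_lit 20)))
(br (nat_lit 1) (br (nat_lit 3) (br (nat_lit 12) (br (nat_lit 22) (br (nat_lit 30) (br (nat_lit 41) (br (nat_lit 5) (lf (nat_lit 5))
(br (nat_lit 9) (lf (nat_lit 12))
(br (nat_lit 11) (lf (nat_lit 5))
(br (nat_lit 2) (br (nat_lit 4) (br (nat_lit 7) (lf (nat_lit 8))
(br (nat_lit 14) (lf (nat_lit 8))
(br (nat_lit 16) (lf (nat_lit 13))
(lf (nat_lit 11)))))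
(lf (nat_lit 64)))
(lf (nat_lit 30))))))
(lf (nat_lit 74)))
(lf (nat_lit 59)))
(lf (nat_lit 74)))
(lf (nat_lit 74)))
(lf (nat_lit 74)))
(lf (nat_lit 59))))))
(lf (nat_lit 16))))

open Dt in
noncomputable def t19 : Dt :=
(br (nat_lit 45) (br (nat_lit 49) (lf (nat_lit 16))
(br (nat_lit 0) (br (nat_lit 39) (br (nat_lit 3) (lf (nat_lit 39))
(br (nat_lit 32) (lf (nat_lit 39))
(br (nat_lit 37) (lf (nat_lit 39))
(br (nat_lit 5) (br (nat_lit 20) (br (nat_lit 24) (br (nat_lit 26) (br (nat_lit 22) (lf (nat_lit 24))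
(br (nat_lit 28) (lf (nat_lit 24))
(br (nat_lit 7) (br (nat_lit 8) (br (nat_lit 9) (lf (nat_lit 41))
(br (nat_lit 11) (lf (nat_lit 33))
(br (nat_lit 4) (br (nat_lit 12) (lf (nat_lit 8))
(br (nat_lit 14) (lf (nat_lit 8))
(lf (nat_lit 3))))
(lf (nat_lit 64)))))
(lf (nat_lit 46)))
(lf (nat_lit 46)))))
(lf (nat_lit 65)))
(lf (nat_lit 65)))
(lf (nat_lit 56)))
(lf (nat_lit 56))))))
(br (nat_lit 3) (br (nat_lit 32) (lf (nat_lit 39))
(br (nat_lit 37) (lf (nat_lit 39))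
(br (nat_lit 5) (br (nat_lit 20) (br (nat_lit 24) (br (nat_lit 26) (br (nat_lit 22) (lf (nat_lit 24))
(br (nat_lit 9) (br (nat_lit 1) (lf (nat_lit 38))
(br (nat_lit 7) (lf (nat_lit 41))
(br (nat_lit 8) (lf (nat_lit 6))
(br (nat_lit 12) (lf (nat_lit 41))
(lf (nat_lit 74))))))
(lf (nat_lit 47))))
(lf (nat_lit 65)))
(lf (nat_lit 65)))
(lf (nat_lit 56)))
(lf (nat_lit 56)))))
(br (nat_lit 12) (br (nat_lit 21) (br (nat_lit 22) (br (nat_lit 41) (br (nat_lit 4) (br (nat_lit 8) (lf (nat_lit 26))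
(br (nat_lit 18) (lf (nat_lit 51))
(br (nat_lit 11) (br (nat_lit 1) (lf (nat_lit 5))
(br (nat_lit 5) (lf (nat_lit 5))
(br (nat_lit 28) (br (nat_lit 9) (lf (nat_lit 12))
(br (nat_lit 7) (lf (nat_lit 8))
(br (nat_lit 14) (lf (nat_lit 8))
(br (nat_lit 16) (lf (nat_lit 15))
(br (nat_lit 2) (br (nat_lit 20) (lf (nat_lit 24))
(lf (nat_lit 13)))
(lf (nat_lit 13)))))))
(lf (nat_lit 46)))))
(lf (nat_lit 58)))))
(br (nat_lit 18) (br (nat_lit 1) (lf (nat_lit 12))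
(br (nat_lit 9) (lf (nat_lit 12))
(br (nat_lit 16) (br (nat_lit 14) (br (nat_lit 2) (lf (nat_lit 9))
(lf (nat_lit 13)))
(lf (nat_lit 15)))
(lf (nat_lit 13)))))
(lf (nat_lit 43))))
(lf (nat_lit 74)))
(lf (nat_lit 74)))
(lf (nat_lit 74)))
(lf (nat_lit 74)))))
(br (nat_lit 48) (br (nat_lit 22) (br (nat_lit 4) (lf (nat_lit 26))
(br (nat_lit 8) (lf (nat_lit 26))
(br (nat_lit 20) (lf (nat_lit 24))
(br (nat_lit 16) (br (nat_lit 26) (lf (nat_lit 24))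
(br (nat_lit 28) (lf (nat_lit 24))
(br (nat_lit 3) (br (nat_lit 2) (lf (nat_lit 48))
(br (nat_lit 7) (br (nat_lit 9) (br (nat_lit 12) (lf (nat_lit 41))
(lf (nat_lit 11)))
(lf (nat_lit 13)))
(lf (nat_lit 46))))
(lf (nat_lit 46)))))
(lf (nat_lit 13))))))
(br (nat_lit 5) (br (nat_lit 9) (br (nat_lit 26) (br (nat_lit 20) (lf (nat_lit 24))
(br (nat_lit 28) (lf (nat_lit 24))
(br (nat_lit 39) (br (nat_lit 47) (lf (nat_lit 24))
(br (nat_lit 11) (br (nat_lit 1) (lf (nat_lit 5))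
(br (nat_lit 14) (br (nat_lit 12) (lf (nat_lit 8))
(br (nat_lit 16) (br (nat_lit 2) (lf (nat_lit 9))
(br (nat_lit 4) (br (nat_lit 7) (lf (nat_lit 8))
(br (nat_lit 3) (br (nat_lit 8) (lf (nat_lit 9))
(lf (nat_lit 46)))
(lf (nat_lit 46))))
(lf (nat_lit 13))))
(lf (nat_lit 13))))
(lf (nat_lit 40))))
(lf (nat_lit 27))))
(lf (nat_lit 47)))))
(lf (nat_lit 47)))
(lf (nat_lit 47)))
(lf (nat_lit 47))))
(br (nat_lit 12) (br (nat_lit 22) (lf (nat_lit 21))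
(br (nat_lit 9) (br (nat_lit 7) (lf (nat_lit 41))
(br (nat_lit 24) (lf (nat_lit 41))
(br (nat_lit 16) (br (nat_lit 29) (lf (nat_lit 41))
(br (nat_lit 43) (br (nat_lit 46) (lf (nat_lit 41))
(br (nat_lit 54) (lf (nat_lit 41))
(br (nat_lit 2) (br (nat_lit 8) (lf (nat_lit 9))
(br (nat_lit 14) (lf (nat_lit 9))
(br (nat_lit 1) (br (nat_lit 4) (lf (nat_lit 13))
(lf (nat_lit 8)))
(lf (nat_lit 15)))))
(lf (nat_lit 61)))))
(lf (nat_lit 11))))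
(lf (nat_lit 11)))))
(lf (nat_lit 11))))
(lf (nat_lit 21))))))
(br (nat_lit 49) (br (nat_lit 0) (br (nat_lit 39) (br (nat_lit 3) (lf (nat_lit 39))
(br (nat_lit 32) (lf (nat_lit 39))
(br (nat_lit 37) (lf (nat_lit 39))
(br (nat_lit 5) (br (nat_lit 20) (br (nat_lit 24) (br (nat_lit 26) (br (nat_lit 22) (lf (nat_lit 24))
(br (nat_lit 28) (lf (nat_lit 24))
(br (nat_lit 7) (br (nat_lit 8) (br (nat_lit 9) (lf (nat_lit 41))
(br (nat_lit 11) (lf (nat_lit 33))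
(br (nat_lit 4) (br (nat_lit 12) (lf (nat_lit 8))
(br (nat_lit 14) (lf (nat_lit 8))
(br (nat_lit 1) (br (nat_lit 16) (lf (nat_lit 15))
(br (nat_lit 2) (br (nat_lit 18) (br (nat_lit 21) (lf (nat_lit 34))
(lf (nat_lit 74)))
(lf (nat_lit 58)))
(lf (nat_lit 13))))
(lf (nat_lit 15)))))
(lf (nat_lit 64)))))
(lf (nat_lit 46)))
(lf (nat_lit 46)))))
(lf (nat_lit 65)))
(lf (nat_lit 65)))
(lf (nat_lit 56)))
(lf (nat_lit 56))))))
(br (nat_lit 3) (br (nat_lit 32) (lf (nat_lit 39))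
(br (nat_lit 37) (lf (nat_lit 39))
(br (nat_lit 5) (br (nat_lit 20) (br (nat_lit 24) (br (nat_lit 26) (br (nat_lit 22) (lf (nat_lit 24))
(br (nat_lit 12) (br (nat_lit 7) (lf (nat_lit 41))
(br (nat_lit 9) (lf (nat_lit 41))
(br (nat_lit 16) (br (nat_lit 4) (lf (nat_lit 42))
(br (nat_lit 11) (br (nat_lit 1) (lf (nat_lit 5))
(br (nat_lit 2) (lf (nat_lit 30))
(br (nat_lit 14) (lf (nat_lit 13))
(lf (nat_lit 15)))))
(lf (nat_lit 64))))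
(lf (nat_lit 11)))))
(lf (nat_lit 74))))
(lf (nat_lit 65)))
(lf (nat_lit 65)))
(lf (nat_lit 56)))
(lf (nat_lit 56)))))
(br (nat_lit 12) (br (nat_lit 21) (br (nat_lit 22) (br (nat_lit 41) (br (nat_lit 4) (br (nat_lit 18) (lf (nat_lit 51))
(br (nat_lit 11) (br (nat_lit 1) (lf (nat_lit 5))
(br (nat_lit 5) (lf (nat_lit 5))
(br (nat_lit 28) (br (nat_lit 9) (lf (nat_lit 12))
(br (nat_lit 7) (lf (nat_lit 8))
(br (nat_lit 14) (lf (nat_lit 8))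
(br (nat_lit 16) (lf (nat_lit 15))
(br (nat_lit 2) (br (nat_lit 20) (lf (nat_lit 24))
(lf (nat_lit 13)))
(lf (nat_lit 13)))))))
(lf (nat_lit 58)))))
(lf (nat_lit 58))))
(br (nat_lit 18) (br (nat_lit 1) (lf (nat_lit 12))
(br (nat_lit 9) (lf (nat_lit 12))
(br (nat_lit 16) (br (nat_lit 14) (br (nat_lit 2) (lf (nat_lit 9))
(lf (nat_lit 13)))
(lf (nat_lit 15)))
(lf (nat_lit 13)))))
(lf (nat_lit 43))))
(lf (nat_lit 74)))
(lf (nat_lit 74)))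
(lf (nat_lit 74)))
(lf (nat_lit 74)))))
(br (nat_lit 60) (br (nat_lit 21) (br (nat_lit 4) (lf (nat_lit 51))
(br (nat_lit 8) (lf (nat_lit 34))
(br (nat_lit 18) (lf (nat_lit 51))
(br (nat_lit 3) (br (nat_lit 2) (lf (nat_lit 44))
(br (nat_lit 16) (br (nat_lit 20) (lf (nat_lit 34))
(br (nat_lit 9) (br (nat_lit 14) (lf (nat_lit 13))
(br (nat_lit 1) (br (nat_lit 12) (br (nat_lit 7) (lf (nat_lit 41))
(br (nat_lit 22) (lf (nat_lit 74))
(br (nat_lit 5) (br (nat_lit 11) (lf (nat_lit 5))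
(br (nat_lit 24) (lf (nat_lit 41))
(br (nat_lit 28) (lf (nat_lit 12))
(lf (nat_lit 46)))))
(lf (nat_lit 64)))))
(lf (nat_lit 8)))
(lf (nat_lit 15))))
(lf (nat_lit 13))))
(lf (nat_lit 13))))
(lf (nat_lit 43))))))
(br (nat_lit 1) (br (nat_lit 30) (br (nat_lit 4) (lf (nat_lit 51))
(br (nat_lit 18) (lf (nat_lit 51))
(br (nat_lit 3) (br (nat_lit 29) (br (nat_lit 38) (br (nat_lit 5) (lf (nat_lit 5))
(br (nat_lit 11) (lf (nat_lit 5))
(lf (nat_lit 64))))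
(lf (nat_lit 43)))
(lf (nat_lit 43)))
(lf (nat_lit 43)))))
(lf (nat_lit 59)))
(lf (nat_lit 59))))
(br (nat_lit 21) (lf (nat_lit 20))
(br (nat_lit 41) (br (nat_lit 1) (br (nat_lit 5) (lf (nat_lit 5))
(br (nat_lit 11) (lf (nat_lit 5))
(br (nat_lit 4) (br (nat_lit 22) (br (nat_lit 31) (lf (nat_lit 5))
(br (nat_lit 37) (br (nat_lit 38) (lf (nat_lit 5))
(br (nat_lit 39) (lf (nat_lit 74))
(br (nat_lit 7) (br (nat_lit 16) (br (nat_lit 14) (lf (nat_lit 22))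
(br (nat_lit 2) (lf (nat_lit 13))
(br (nat_lit 3) (br (nat_lit 9) (lf (nat_lit 13))
(br (nat_lit 12) (lf (nat_lit 74))
(lf (nat_lit 15))))
(lf (nat_lit 30)))))
(lf (nat_lit 0)))
(lf (nat_lit 33)))))
(lf (nat_lit 64))))
(lf (nat_lit 64)))
(lf (nat_lit 64)))))
(lf (nat_lit 40)))
(lf (nat_lit 20))))))
(lf (nat_lit 16))))

open Dt in
noncomputable def t20 : Dt :=
(br (nat_lit 45) (br (nat_lit 49) (lf (nat_lit 16))
(br (nat_lit 0) (br (nat_lit 39) (br (nat_lit 3) (lf (nat_lit 39))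
(br (nat_lit 32) (lf (nat_lit 39))
(br (nat_lit 37) (lf (nat_lit 39))
(br (nat_lit 5) (br (nat_lit 20) (br (nat_lit 24) (br (nat_lit 7) (lf (nat_lit 33))
(br (nat_lit 11) (lf (nat_lit 33))
(br (nat_lit 2) (br (nat_lit 12) (br (nat_lit 9) (lf (nat_lit 41))
(br (nat_lit 4) (lf (nat_lit 8))
(br (nat_lit 14) (lf (nat_lit 8))
(br (nat_lit 16) (br (nat_lit 1) (br (nat_lit 8) (lf (nat_lit 9))
(br (nat_lit 18) (br (nat_lit 21) (lf (nat_lit 40))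
(br (nat_lit 22) (br (nat_lit 26) (lf (nat_lit 24))
(lf (nat_lit 65)))
(lf (nat_lit 64))))
(lf (nat_lit 43))))
(lf (nat_lit 15)))
(lf (nat_lit 13))))))
(lf (nat_lit 23)))
(lf (nat_lit 30)))))
(lf (nat_lit 65)))
(lf (nat_lit 56)))
(lf (nat_lit 56))))))
(br (nat_lit 3) (br (nat_lit 32) (lf (nat_lit 39))
(br (nat_lit 37) (lf (nat_lit 39))
(br (nat_lit 5) (br (nat_lit 20) (br (nat_lit 24) (br (nat_lit 26) (br (nat_lit 22) (lf (nat_lit 24))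
(br (nat_lit 9) (br (nat_lit 1) (lf (nat_lit 38))
(br (nat_lit 7) (lf (nat_lit 41))
(br (nat_lit 12) (lf (nat_lit 41))
(lf (nat_lit 74)))))
(lf (nat_lit 47))))
(lf (nat_lit 65)))
(lf (nat_lit 65)))
(lf (nat_lit 56)))
(lf (nat_lit 56)))))
(br (nat_lit 12) (br (nat_lit 21) (br (nat_lit 22) (br (nat_lit 41) (br (nat_lit 4) (br (nat_lit 8) (lf (nat_lit 26))
(br (nat_lit 18) (lf (nat_lit 51))
(br (nat_lit 11) (br (nat_lit 1) (lf (nat_lit 5))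
(br (nat_lit 5) (lf (nat_lit 5))
(br (nat_lit 28) (br (nat_lit 9) (lf (nat_lit 12))
(br (nat_lit 7) (lf (nat_lit 8))
(br (nat_lit 14) (lf (nat_lit 8))
(br (nat_lit 16) (lf (nat_lit 15))
(br (nat_lit 2) (br (nat_lit 20) (lf (nat_lit 24))
(lf (nat_lit 13)))
(lf (nat_lit 13)))))))
(lf (nat_lit 46)))))
(lf (nat_lit 58)))))
(br (nat_lit 18) (br (nat_lit 1) (lf (nat_lit 12))
(br (nat_lit 9) (lf (nat_lit 12))
(br (nat_lit 16) (br (nat_lit 14) (br (nat_lit 2) (lf (nat_lit 9))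
(lf (nat_lit 13)))
(lf (nat_lit 15)))
(lf (nat_lit 13)))))
(lf (nat_lit 43))))
(lf (nat_lit 74)))
(lf (nat_lit 74)))
(lf (nat_lit 74)))
(lf (nat_lit 74)))))
(br (nat_lit 48) (br (nat_lit 22) (br (nat_lit 4) (lf (nat_lit 26))
(br (nat_lit 8) (lf (nat_lit 26))
(br (nat_lit 20) (lf (nat_lit 24))
(br (nat_lit 16) (br (nat_lit 26) (lf (nat_lit 24))
(br (nat_lit 28) (lf (nat_lit 24))
(br (nat_lit 3) (br (nat_lit 2) (lf (nat_lit 48))
(br (nat_lit 7) (br (nat_lit 9) (br (nat_lit 11) (lf (nat_lit 22))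
(br (nat_lit 5) (br (nat_lit 12) (lf (nat_lit 41))
(lf (nat_lit 11)))
(lf (nat_lit 30))))
(lf (nat_lit 13)))
(lf (nat_lit 46))))
(lf (nat_lit 46)))))
(lf (nat_lit 13))))))
(br (nat_lit 5) (br (nat_lit 9) (br (nat_lit 26) (br (nat_lit 20) (lf (nat_lit 24))
(br (nat_lit 28) (lf (nat_lit 24))
(br (nat_lit 39) (br (nat_lit 47) (lf (nat_lit 24))
(br (nat_lit 11) (br (nat_lit 1) (lf (nat_lit 5))
(br (nat_lit 14) (br (nat_lit 7) (lf (nat_lit 22))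
(br (nat_lit 3) (br (nat_lit 8) (br (nat_lit 2) (lf (nat_lit 9))
(br (nat_lit 4) (lf (nat_lit 26))
(lf (nat_lit 13))))
(lf (nat_lit 46)))
(lf (nat_lit 46))))
(lf (nat_lit 40))))
(lf (nat_lit 27))))
(lf (nat_lit 47)))))
(lf (nat_lit 47)))
(lf (nat_lit 47)))
(lf (nat_lit 47))))
(br (nat_lit 12) (br (nat_lit 22) (lf (nat_lit 21))
(br (nat_lit 9) (br (nat_lit 7) (lf (nat_lit 41))
(br (nat_lit 24) (lf (nat_lit 41))
(br (nat_lit 16) (br (nat_lit 29) (lf (nat_lit 41))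
(br (nat_lit 43) (br (nat_lit 46) (lf (nat_lit 41))
(br (nat_lit 54) (lf (nat_lit 41))
(br (nat_lit 20) (br (nat_lit 57) (br (nat_lit 11) (lf (nat_lit 22))
(br (nat_lit 5) (br (nat_lit 4) (lf (nat_lit 42))
(br (nat_lit 14) (lf (nat_lit 22))
(lf (nat_lit 8))))
(lf (nat_lit 64))))
(lf (nat_lit 45)))
(lf (nat_lit 45)))))
(lf (nat_lit 11))))
(lf (nat_lit 11)))))
(lf (nat_lit 11))))
(lf (nat_lit 21))))))
(br (nat_lit 49) (br (nat_lit 0) (br (nat_lit 39) (br (nat_lit 3) (lf (nat_lit 39))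
(br (nat_lit 32) (lf (nat_lit 39))
(br (nat_lit 37) (lf (nat_lit 39))
(br (nat_lit 5) (br (nat_lit 20) (br (nat_lit 24) (br (nat_lit 7) (lf (nat_lit 33))
(br (nat_lit 11) (lf (nat_lit 33))
(br (nat_lit 2) (br (nat_lit 12) (br (nat_lit 9) (lf (nat_lit 41))
(br (nat_lit 4) (lf (nat_lit 8))
(br (nat_lit 14) (lf (nat_lit 8))
(br (nat_lit 16) (br (nat_lit 1) (br (nat_lit 8) (lf (nat_lit 9))
(br (nat_lit 18) (br (nat_lit 21) (lf (nat_lit 40))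
(br (nat_lit 22) (br (nat_lit 26) (lf (nat_lit 24))
(lf (nat_lit 65)))
(lf (nat_lit 64))))
(lf (nat_lit 43))))
(lf (nat_lit 15)))
(lf (nat_lit 13))))))
(lf (nat_lit 23)))
(lf (nat_lit 30)))))
(lf (nat_lit 65)))
(lf (nat_lit 56)))
(lf (nat_lit 56))))))
(br (nat_lit 3) (br (nat_lit 32) (lf (nat_lit 39))
(br (nat_lit 37) (lf (nat_lit 39))
(br (nat_lit 5) (br (nat_lit 20) (br (nat_lit 24) (br (nat_lit 26) (br (nat_lit 22) (lf (nat_lit 24))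
(br (nat_lit 12) (br (nat_lit 7) (lf (nat_lit 41))
(br (nat_lit 9) (lf (nat_lit 41))
(br (nat_lit 16) (br (nat_lit 4) (lf (nat_lit 42))
(br (nat_lit 11) (lf (nat_lit 22))
(lf (nat_lit 64))))
(lf (nat_lit 11)))))
(lf (nat_lit 74))))
(lf (nat_lit 65)))
(lf (nat_lit 65)))
(lf (nat_lit 56)))
(lf (nat_lit 56)))))
(br (nat_lit 12) (br (nat_lit 21) (br (nat_lit 22) (br (nat_lit 41) (br (nat_lit 4) (br (nat_lit 18) (lf (nat_lit 51))
(br (nat_lit 11) (br (nat_lit 1) (lf (nat_lit 5))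
(br (nat_lit 5) (lf (nat_lit 5))
(br (nat_lit 28) (br (nat_lit 9) (lf (nat_lit 12))
(br (nat_lit 7) (lf (nat_lit 8))
(br (nat_lit 14) (lf (nat_lit 8))
(br (nat_lit 16) (lf (nat_lit 15))
(br (nat_lit 2) (br (nat_lit 20) (lf (nat_lit 24))
(lf (nat_lit 13)))
(lf (nat_lit 13)))))))
(lf (nat_lit 58)))))
(lf (nat_lit 58))))
(br (nat_lit 18) (br (nat_lit 1) (lf (nat_lit 12))
(br (nat_lit 9) (lf (nat_lit 12))
(br (nat_lit 16) (br (nat_lit 14) (br (nat_lit 2) (lf (nat_lit 9))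
(lf (nat_lit 13)))
(lf (nat_lit 15)))
(lf (nat_lit 13)))))
(lf (nat_lit 43))))
(lf (nat_lit 74)))
(lf (nat_lit 74)))
(lf (nat_lit 74)))
(lf (nat_lit 74)))))
(br (nat_lit 60) (br (nat_lit 21) (br (nat_lit 4) (lf (nat_lit 51))
(br (nat_lit 8) (lf (nat_lit 34))
(br (nat_lit 18) (lf (nat_lit 51))
(br (nat_lit 3) (br (nat_lit 2) (lf (nat_lit 44))
(br (nat_lit 16) (br (nat_lit 20) (lf (nat_lit 34))
(br (nat_lit 9) (br (nat_lit 14) (lf (nat_lit 13))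
(br (nat_lit 1) (br (nat_lit 12) (br (nat_lit 7) (lf (nat_lit 41))
(br (nat_lit 22) (lf (nat_lit 74))
(br (nat_lit 5) (br (nat_lit 11) (lf (nat_lit 5))
(br (nat_lit 24) (lf (nat_lit 41))
(br (nat_lit 28) (lf (nat_lit 12))
(lf (nat_lit 46)))))
(lf (nat_lit 64)))))
(lf (nat_lit 8)))
(lf (nat_lit 15))))
(lf (nat_lit 13))))
(lf (nat_lit 13))))
(lf (nat_lit 43))))))
(br (nat_lit 1) (br (nat_lit 30) (br (nat_lit 4) (lf (nat_lit 51))
(br (nat_lit 18) (lf (nat_lit 51))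
(br (nat_lit 3) (br (nat_lit 29) (br (nat_lit 38) (br (nat_lit 5) (lf (nat_lit 5))
(br (nat_lit 11) (lf (nat_lit 5))
(lf (nat_lit 64))))
(lf (nat_lit 43)))
(lf (nat_lit 43)))
(lf (nat_lit 43)))))
(lf (nat_lit 59)))
(lf (nat_lit 59))))
(br (nat_lit 21) (lf (nat_lit 20))
(br (nat_lit 41) (br (nat_lit 1) (br (nat_lit 5) (lf (nat_lit 5))
(br (nat_lit 11) (lf (nat_lit 5))
(br (nat_lit 2) (br (nat_lit 3) (br (nat_lit 4) (br (nat_lit 22) (br (nat_lit 12) (lf (nat_lit 74))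
(br (nat_lit 30) (br (nat_lit 18) (lf (nat_lit 51))
(br (nat_lit 31) (lf (nat_lit 5))
(br (nat_lit 37) (br (nat_lit 32) (lf (nat_lit 39))
(br (nat_lit 38) (lf (nat_lit 5))
(br (nat_lit 29) (br (nat_lit 39) (lf (nat_lit 74))
(br (nat_lit 16) (br (nat_lit 7) (lf (nat_lit 22))
(br (nat_lit 8) (lf (nat_lit 9))
(br (nat_lit 9) (lf (nat_lit 8))
(br (nat_lit 14) (lf (nat_lit 9))
(lf (nat_lit 8))))))
(lf (nat_lit 0))))
(lf (nat_lit 43)))))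
(lf (nat_lit 64)))))
(lf (nat_lit 30))))
(lf (nat_lit 64)))
(lf (nat_lit 64)))
(lf (nat_lit 30)))
(lf (nat_lit 30)))))
(lf (nat_lit 40)))
(lf (nat_lit 20))))))
(lf (nat_lit 16))))

open Dt in
noncomputable def t21 : Dt :=
(br (nat_lit 34) (br (nat_lit 70) (lf (nat_lit 70))
(br (nat_lit 35) (br (nat_lit 45) (lf (nat_lit 16))
(br (nat_lit 49) (lf (nat_lit 16))
(br (nat_lit 0) (br (nat_lit 39) (br (nat_lit 3) (lf (nat_lit 39))
(br (nat_lit 32) (lf (nat_lit 39))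
(br (nat_lit 37) (lf (nat_lit 39))
(br (nat_lit 5) (br (nat_lit 20) (br (nat_lit 43) (br (nat_lit 46) (br (nat_lit 18) (lf (nat_lit 18))
(br (nat_lit 4) (br (nat_lit 2) (lf (nat_lit 48))
(br (nat_lit 11) (br (nat_lit 1) (lf (nat_lit 5))
(br (nat_lit 21) (lf (nat_lit 51))
(br (nat_lit 22) (lf (nat_lit 48))
(br (nat_lit 12) (br (nat_lit 7) (lf (nat_lit 8))
(br (nat_lit 9) (lf (nat_lit 41))
(lf (nat_lit 8))))
(lf (nat_lit 74))))))
(lf (nat_lit 58))))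
(lf (nat_lit 42))))
(lf (nat_lit 56)))
(lf (nat_lit 56)))
(lf (nat_lit 56)))
(lf (nat_lit 56))))))
(br (nat_lit 3) (br (nat_lit 32) (lf (nat_lit 39))
(br (nat_lit 37) (lf (nat_lit 39))
(br (nat_lit 5) (br (nat_lit 20) (br (nat_lit 43) (br (nat_lit 2) (lf (nat_lit 48))
(br (nat_lit 4) (lf (nat_lit 48))
(br (nat_lit 12) (br (nat_lit 16) (br (nat_lit 9) (lf (nat_lit 11))
(br (nat_lit 14) (lf (nat_lit 13))
(br (nat_lit 1) (br (nat_lit 11) (lf (nat_lit 5))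
(br (nat_lit 18) (br (nat_lit 21) (lf (nat_lit 40))
(br (nat_lit 22) (lf (nat_lit 48))
(lf (nat_lit 74))))
(lf (nat_lit 42))))
(lf (nat_lit 15)))))
(lf (nat_lit 13)))
(lf (nat_lit 42)))))
(lf (nat_lit 56)))
(lf (nat_lit 56)))
(lf (nat_lit 56)))))
(br (nat_lit 11) (br (nat_lit 12) (br (nat_lit 18) (br (nat_lit 21) (br (nat_lit 4) (lf (nat_lit 51))
(br (nat_lit 22) (br (nat_lit 28) (br (nat_lit 1) (lf (nat_lit 12))
(br (nat_lit 5) (lf (nat_lit 18))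
(br (nat_lit 9) (lf (nat_lit 12))
(br (nat_lit 16) (br (nat_lit 14) (br (nat_lit 2) (lf (nat_lit 9))
(lf (nat_lit 13)))
(lf (nat_lit 15)))
(lf (nat_lit 13))))))
(lf (nat_lit 58)))
(lf (nat_lit 74))))
(lf (nat_lit 74)))
(lf (nat_lit 58)))
(lf (nat_lit 74)))
(lf (nat_lit 58)))))
(br (nat_lit 59) (br (nat_lit 3) (br (nat_lit 2) (lf (nat_lit 48))
(br (nat_lit 4) (lf (nat_lit 48))
(br (nat_lit 16) (br (nat_lit 22) (lf (nat_lit 48))
(br (nat_lit 5) (br (nat_lit 32) (lf (nat_lit 39))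
(br (nat_lit 26) (br (nat_lit 37) (lf (nat_lit 39))
(br (nat_lit 11) (br (nat_lit 1) (lf (nat_lit 5))
(br (nat_lit 14) (br (nat_lit 7) (lf (nat_lit 22))
(br (nat_lit 8) (lf (nat_lit 9))
(br (nat_lit 9) (br (nat_lit 12) (br (nat_lit 20) (br (nat_lit 21) (lf (nat_lit 44))
(br (nat_lit 24) (lf (nat_lit 22))
(br (nat_lit 28) (lf (nat_lit 24))
(lf (nat_lit 46)))))
(lf (nat_lit 13)))
(lf (nat_lit 8)))
(lf (nat_lit 13)))))
(lf (nat_lit 15))))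
(lf (nat_lit 64))))
(lf (nat_lit 60))))
(lf (nat_lit 64))))
(lf (nat_lit 13)))))
(br (nat_lit 11) (br (nat_lit 18) (br (nat_lit 28) (br (nat_lit 5) (lf (nat_lit 18))
(br (nat_lit 39) (br (nat_lit 32) (lf (nat_lit 39))
(br (nat_lit 37) (lf (nat_lit 39))
(lf (nat_lit 56))))
(lf (nat_lit 58))))
(lf (nat_lit 58)))
(lf (nat_lit 58)))
(lf (nat_lit 58))))
(br (nat_lit 3) (lf (nat_lit 2))
(br (nat_lit 29) (br (nat_lit 31) (br (nat_lit 44) (br (nat_lit 18) (br (nat_lit 4) (lf (nat_lit 51))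
(br (nat_lit 5) (lf (nat_lit 18))
(br (nat_lit 11) (br (nat_lit 1) (lf (nat_lit 5))
(br (nat_lit 9) (br (nat_lit 7) (lf (nat_lit 41))
(br (nat_lit 12) (lf (nat_lit 12))
(lf (nat_lit 8))))
(lf (nat_lit 38))))
(lf (nat_lit 30)))))
(lf (nat_lit 43)))
(lf (nat_lit 2)))
(lf (nat_lit 2)))
(lf (nat_lit 2))))))))
t19))
(br (nat_lit 70) (br (nat_lit 35) (br (nat_lit 45) (lf (nat_lit 16))
(br (nat_lit 49) (lf (nat_lit 16))
(br (nat_lit 0) (br (nat_lit 39) (br (nat_lit 3) (lf (nat_lit 39))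
(br (nat_lit 32) (lf (nat_lit 39))
(br (nat_lit 37) (lf (nat_lit 39))
(br (nat_lit 5) (br (nat_lit 20) (br (nat_lit 43) (br (nat_lit 46) (br (nat_lit 18) (lf (nat_lit 18))
(br (nat_lit 4) (br (nat_lit 2) (lf (nat_lit 48))
(br (nat_lit 11) (br (nat_lit 1) (lf (nat_lit 5))
(br (nat_lit 7) (lf (nat_lit 33))
(br (nat_lit 21) (lf (nat_lit 51))
(br (nat_lit 22) (lf (nat_lit 48))
(br (nat_lit 12) (br (nat_lit 9) (lf (nat_lit 41))
(lf (nat_lit 8)))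
(lf (nat_lit 74)))))))
(lf (nat_lit 30))))
(lf (nat_lit 42))))
(lf (nat_lit 56)))
(lf (nat_lit 56)))
(lf (nat_lit 56)))
(lf (nat_lit 56))))))
(br (nat_lit 3) (br (nat_lit 32) (lf (nat_lit 39))
(br (nat_lit 37) (lf (nat_lit 39))
(br (nat_lit 5) (br (nat_lit 20) (br (nat_lit 43) (br (nat_lit 2) (lf (nat_lit 48))
(br (nat_lit 4) (lf (nat_lit 48))
(br (nat_lit 12) (br (nat_lit 16) (br (nat_lit 9) (lf (nat_lit 11))
(br (nat_lit 14) (lf (nat_lit 13))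
(br (nat_lit 1) (br (nat_lit 11) (lf (nat_lit 5))
(br (nat_lit 18) (br (nat_lit 21) (lf (nat_lit 40))
(br (nat_lit 22) (lf (nat_lit 48))
(lf (nat_lit 74))))
(lf (nat_lit 42))))
(lf (nat_lit 15)))))
(lf (nat_lit 13)))
(lf (nat_lit 42)))))
(lf (nat_lit 56)))
(lf (nat_lit 56)))
(lf (nat_lit 56)))))
(br (nat_lit 11) (br (nat_lit 12) (br (nat_lit 18) (br (nat_lit 21) (br (nat_lit 4) (lf (nat_lit 51))
(br (nat_lit 22) (br (nat_lit 28) (br (nat_lit 1) (lf (nat_lit 12))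
(br (nat_lit 5) (lf (nat_lit 18))
(br (nat_lit 9) (lf (nat_lit 12))
(br (nat_lit 16) (br (nat_lit 7) (lf (nat_lit 22))
(br (nat_lit 14) (lf (nat_lit 22))
(lf (nat_lit 15))))
(lf (nat_lit 13))))))
(lf (nat_lit 58)))
(lf (nat_lit 74))))
(lf (nat_lit 74)))
(lf (nat_lit 58)))
(lf (nat_lit 74)))
(lf (nat_lit 58)))))
(br (nat_lit 59) (br (nat_lit 3) (br (nat_lit 2) (lf (nat_lit 48))
(br (nat_lit 4) (lf (nat_lit 48))
(br (nat_lit 16) (br (nat_lit 22) (lf (nat_lit 48))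
(br (nat_lit 5) (br (nat_lit 32) (lf (nat_lit 39))
(br (nat_lit 26) (br (nat_lit 37) (lf (nat_lit 39))
(br (nat_lit 11) (br (nat_lit 1) (lf (nat_lit 5))
(br (nat_lit 7) (lf (nat_lit 22))
(br (nat_lit 14) (lf (nat_lit 22))
(lf (nat_lit 15)))))
(lf (nat_lit 64))))
(lf (nat_lit 60))))
(lf (nat_lit 64))))
(lf (nat_lit 13)))))
(br (nat_lit 11) (br (nat_lit 18) (br (nat_lit 28) (br (nat_lit 5) (lf (nat_lit 18))
(br (nat_lit 39) (br (nat_lit 32) (lf (nat_lit 39))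
(br (nat_lit 37) (lf (nat_lit 39))
(lf (nat_lit 56))))
(lf (nat_lit 58))))
(lf (nat_lit 58)))
(lf (nat_lit 58)))
(lf (nat_lit 58))))
(br (nat_lit 3) (lf (nat_lit 2))
(br (nat_lit 29) (br (nat_lit 31) (br (nat_lit 11) (br (nat_lit 1) (lf (nat_lit 5))
(br (nat_lit 5) (lf (nat_lit 5))
(br (nat_lit 2) (br (nat_lit 7) (lf (nat_lit 22))
(br (nat_lit 9) (br (nat_lit 12) (lf (nat_lit 41))
(br (nat_lit 4) (br (nat_lit 14) (lf (nat_lit 22))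
(lf (nat_lit 8)))
(lf (nat_lit 8))))
(lf (nat_lit 38))))
(lf (nat_lit 30)))))
(lf (nat_lit 30)))
(lf (nat_lit 2)))
(lf (nat_lit 2))))))))
t20)
(lf (nat_lit 70))))

open Dt in
noncomputable def t22 : Dt :=
(br (nat_lit 35) (br (nat_lit 45) (lf (nat_lit 16))
(br (nat_lit 49) (lf (nat_lit 16))
(br (nat_lit 0) (br (nat_lit 3) (br (nat_lit 32) (lf (nat_lit 39))
(br (nat_lit 37) (lf (nat_lit 39))
(br (nat_lit 39) (lf (nat_lit 39))
(br (nat_lit 12) (br (nat_lit 21) (br (nat_lit 22) (br (nat_lit 2) (lf (nat_lit 48))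
(br (nat_lit 4) (lf (nat_lit 48))
(br (nat_lit 26) (br (nat_lit 1) (lf (nat_lit 14))
(br (nat_lit 9) (lf (nat_lit 14))
(br (nat_lit 16) (br (nat_lit 20) (lf (nat_lit 24))
(br (nat_lit 5) (br (nat_lit 14) (lf (nat_lit 13))
(lf (nat_lit 40)))
(lf (nat_lit 56))))
(lf (nat_lit 11)))))
(lf (nat_lit 60)))))
(lf (nat_lit 74)))
(lf (nat_lit 74)))
(lf (nat_lit 74))))))
(br (nat_lit 39) (br (nat_lit 7) (lf (nat_lit 33))
(br (nat_lit 11) (lf (nat_lit 33))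
(br (nat_lit 2) (br (nat_lit 5) (br (nat_lit 18) (br (nat_lit 24) (lf (nat_lit 33))
(br (nat_lit 28) (br (nat_lit 30) (br (nat_lit 4) (lf (nat_lit 51))
(br (nat_lit 12) (br (nat_lit 1) (lf (nat_lit 12))
(br (nat_lit 9) (lf (nat_lit 12))
(lf (nat_lit 11))))
(lf (nat_lit 8))))
(lf (nat_lit 30)))
(lf (nat_lit 58))))
(lf (nat_lit 58)))
(lf (nat_lit 30)))
(lf (nat_lit 30)))))
(lf (nat_lit 74))))
(br (nat_lit 12) (br (nat_lit 9) (br (nat_lit 1) (lf (nat_lit 14))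
(br (nat_lit 7) (lf (nat_lit 41))
(br (nat_lit 14) (br (nat_lit 20) (br (nat_lit 21) (br (nat_lit 24) (lf (nat_lit 41))
(br (nat_lit 16) (br (nat_lit 2) (lf (nat_lit 9))
(br (nat_lit 4) (lf (nat_lit 13))
(br (nat_lit 8) (lf (nat_lit 9))
(br (nat_lit 22) (br (nat_lit 26) (lf (nat_lit 14))
(br (nat_lit 11) (br (nat_lit 28) (lf (nat_lit 24))
(br (nat_lit 3) (br (nat_lit 29) (lf (nat_lit 41))
(lf (nat_lit 55)))
(lf (nat_lit 46))))
(lf (nat_lit 55))))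
(lf (nat_lit 11))))))
(lf (nat_lit 11))))
(lf (nat_lit 40)))
(lf (nat_lit 40)))
(lf (nat_lit 40)))))
(lf (nat_lit 11)))
(br (nat_lit 48) (br (nat_lit 3) (br (nat_lit 2) (lf (nat_lit 48))
(br (nat_lit 4) (lf (nat_lit 48))
(br (nat_lit 5) (br (nat_lit 7) (br (nat_lit 9) (lf (nat_lit 8))
(br (nat_lit 1) (br (nat_lit 11) (lf (nat_lit 5))
(br (nat_lit 14) (br (nat_lit 16) (br (nat_lit 8) (lf (nat_lit 9))
(br (nat_lit 18) (br (nat_lit 20) (br (nat_lit 22) (lf (nat_lit 24))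
(lf (nat_lit 11)))
(lf (nat_lit 13)))
(lf (nat_lit 42))))
(lf (nat_lit 11)))
(lf (nat_lit 8))))
(lf (nat_lit 38))))
(lf (nat_lit 8)))
(lf (nat_lit 42)))))
(br (nat_lit 39) (br (nat_lit 1) (br (nat_lit 9) (br (nat_lit 4) (br (nat_lit 2) (lf (nat_lit 48))
(br (nat_lit 7) (br (nat_lit 11) (lf (nat_lit 33))
(lf (nat_lit 30)))
(lf (nat_lit 8))))
(lf (nat_lit 8)))
(lf (nat_lit 38)))
(lf (nat_lit 38)))
(lf (nat_lit 74))))
(lf (nat_lit 21)))))))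
(br (nat_lit 45) (br (nat_lit 49) (lf (nat_lit 16))
(br (nat_lit 0) (br (nat_lit 3) (br (nat_lit 32) (lf (nat_lit 39))
(br (nat_lit 37) (lf (nat_lit 39))
(br (nat_lit 24) (br (nat_lit 7) (lf (nat_lit 33))
(br (nat_lit 11) (lf (nat_lit 33))
(br (nat_lit 12) (br (nat_lit 9) (lf (nat_lit 41))
(br (nat_lit 16) (br (nat_lit 21) (br (nat_lit 22) (br (nat_lit 26) (br (nat_lit 1) (lf (nat_lit 14))
(br (nat_lit 20) (lf (nat_lit 24))
(br (nat_lit 5) (br (nat_lit 14) (br (nat_lit 2) (lf (nat_lit 9))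
(br (nat_lit 4) (br (nat_lit 8) (lf (nat_lit 9))
(br (nat_lit 18) (lf (nat_lit 42))
(br (nat_lit 28) (lf (nat_lit 24))
(lf (nat_lit 23)))))
(lf (nat_lit 13))))
(lf (nat_lit 40)))
(lf (nat_lit 56)))))
(lf (nat_lit 65)))
(lf (nat_lit 11)))
(lf (nat_lit 67)))
(lf (nat_lit 11))))
(lf (nat_lit 23)))))
(lf (nat_lit 65)))))
(br (nat_lit 39) (br (nat_lit 7) (lf (nat_lit 33))
(br (nat_lit 11) (lf (nat_lit 33))
(br (nat_lit 2) (br (nat_lit 5) (br (nat_lit 24) (lf (nat_lit 33))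
(br (nat_lit 30) (br (nat_lit 31) (lf (nat_lit 30))
(br (nat_lit 28) (br (nat_lit 32) (lf (nat_lit 39))
(br (nat_lit 8) (br (nat_lit 9) (br (nat_lit 1) (lf (nat_lit 14))
(br (nat_lit 12) (lf (nat_lit 14))
(lf (nat_lit 8))))
(lf (nat_lit 6)))
(lf (nat_lit 6))))
(lf (nat_lit 46))))
(lf (nat_lit 30))))
(lf (nat_lit 30)))
(lf (nat_lit 30)))))
(lf (nat_lit 74))))
(br (nat_lit 12) (br (nat_lit 9) (br (nat_lit 1) (lf (nat_lit 14))
(br (nat_lit 7) (lf (nat_lit 41))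
(br (nat_lit 14) (br (nat_lit 20) (br (nat_lit 21) (br (nat_lit 24) (lf (nat_lit 41))
(br (nat_lit 16) (br (nat_lit 2) (lf (nat_lit 9))
(br (nat_lit 4) (lf (nat_lit 13))
(br (nat_lit 8) (lf (nat_lit 9))
(br (nat_lit 22) (br (nat_lit 26) (lf (nat_lit 14))
(br (nat_lit 28) (lf (nat_lit 24))
(lf (nat_lit 52))))
(lf (nat_lit 11))))))
(lf (nat_lit 11))))
(lf (nat_lit 40)))
(lf (nat_lit 40)))
(lf (nat_lit 40)))))
(lf (nat_lit 11)))
(br (nat_lit 48) (br (nat_lit 4) (br (nat_lit 8) (lf (nat_lit 26))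
(br (nat_lit 22) (lf (nat_lit 26))
(br (nat_lit 5) (br (nat_lit 9) (br (nat_lit 7) (br (nat_lit 14) (br (nat_lit 24) (lf (nat_lit 41))
(lf (nat_lit 6)))
(lf (nat_lit 8)))
(lf (nat_lit 8)))
(lf (nat_lit 11)))
(lf (nat_lit 47)))))
(br (nat_lit 5) (br (nat_lit 7) (br (nat_lit 9) (lf (nat_lit 8))
(br (nat_lit 1) (br (nat_lit 11) (lf (nat_lit 5))
(br (nat_lit 14) (br (nat_lit 16) (br (nat_lit 2) (lf (nat_lit 9))
(br (nat_lit 3) (br (nat_lit 8) (lf (nat_lit 9))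
(br (nat_lit 18) (br (nat_lit 20) (br (nat_lit 22) (lf (nat_lit 24))
(lf (nat_lit 11)))
(lf (nat_lit 13)))
(lf (nat_lit 42))))
(lf (nat_lit 30))))
(lf (nat_lit 11)))
(lf (nat_lit 8))))
(lf (nat_lit 38))))
(lf (nat_lit 8)))
(lf (nat_lit 42))))
(lf (nat_lit 21))))))
(br (nat_lit 49) (br (nat_lit 0) (br (nat_lit 3) (br (nat_lit 32) (lf (nat_lit 39))
(br (nat_lit 37) (lf (nat_lit 39))
(br (nat_lit 24) (br (nat_lit 7) (lf (nat_lit 33))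
(br (nat_lit 11) (lf (nat_lit 33))
(br (nat_lit 12) (br (nat_lit 9) (lf (nat_lit 41))
(br (nat_lit 16) (br (nat_lit 21) (br (nat_lit 22) (br (nat_lit 26) (br (nat_lit 1) (lf (nat_lit 14))
(br (nat_lit 20) (lf (nat_lit 24))
(lf (nat_lit 54))))
(lf (nat_lit 65)))
(lf (nat_lit 11)))
(lf (nat_lit 67)))
(lf (nat_lit 11))))
(lf (nat_lit 23)))))
(lf (nat_lit 65)))))
(br (nat_lit 39) (br (nat_lit 7) (lf (nat_lit 33))
(br (nat_lit 11) (lf (nat_lit 33))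
(br (nat_lit 2) (br (nat_lit 5) (br (nat_lit 24) (lf (nat_lit 33))
(br (nat_lit 30) (br (nat_lit 31) (lf (nat_lit 30))
(br (nat_lit 28) (br (nat_lit 32) (lf (nat_lit 39))
(br (nat_lit 8) (br (nat_lit 9) (br (nat_lit 1) (lf (nat_lit 14))
(br (nat_lit 12) (lf (nat_lit 14))
(lf (nat_lit 8))))
(lf (nat_lit 6)))
(lf (nat_lit 6))))
(lf (nat_lit 46))))
(lf (nat_lit 30))))
(lf (nat_lit 30)))
(lf (nat_lit 30)))))
(lf (nat_lit 74))))
(br (nat_lit 21) (br (nat_lit 60) (br (nat_lit 4) (lf (nat_lit 51))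
(br (nat_lit 8) (lf (nat_lit 34))
(br (nat_lit 18) (lf (nat_lit 51))
(br (nat_lit 20) (lf (nat_lit 34))
(br (nat_lit 1) (br (nat_lit 30) (lf (nat_lit 51))
(br (nat_lit 32) (lf (nat_lit 34))
(br (nat_lit 7) (br (nat_lit 9) (br (nat_lit 11) (br (nat_lit 5) (lf (nat_lit 5))
(br (nat_lit 12) (lf (nat_lit 14))
(lf (nat_lit 8))))
(lf (nat_lit 67)))
(lf (nat_lit 6)))
(lf (nat_lit 67)))))
(lf (nat_lit 40)))))))
(lf (nat_lit 20)))
(br (nat_lit 1) (br (nat_lit 9) (br (nat_lit 12) (lf (nat_lit 14))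
(br (nat_lit 4) (br (nat_lit 7) (br (nat_lit 14) (br (nat_lit 24) (lf (nat_lit 41))
(br (nat_lit 8) (br (nat_lit 2) (lf (nat_lit 9))
(br (nat_lit 16) (lf (nat_lit 9))
(br (nat_lit 20) (br (nat_lit 22) (br (nat_lit 26) (lf (nat_lit 14))
(br (nat_lit 11) (br (nat_lit 5) (lf (nat_lit 5))
(br (nat_lit 28) (lf (nat_lit 24))
(br (nat_lit 29) (lf (nat_lit 41))
(lf (nat_lit 55)))))
(lf (nat_lit 55))))
(lf (nat_lit 11)))
(lf (nat_lit 13)))))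
(lf (nat_lit 6))))
(lf (nat_lit 8)))
(lf (nat_lit 8)))
(lf (nat_lit 8))))
(br (nat_lit 12) (lf (nat_lit 11))
(br (nat_lit 16) (br (nat_lit 22) (br (nat_lit 24) (br (nat_lit 7) (br (nat_lit 11) (lf (nat_lit 22))
(br (nat_lit 14) (lf (nat_lit 22))
(br (nat_lit 4) (br (nat_lit 2) (lf (nat_lit 13))
(br (nat_lit 3) (br (nat_lit 5) (br (nat_lit 18) (lf (nat_lit 42))
(br (nat_lit 20) (lf (nat_lit 13))
(lf (nat_lit 40))))
(lf (nat_lit 30)))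
(lf (nat_lit 30))))
(lf (nat_lit 8)))))
(lf (nat_lit 23)))
(lf (nat_lit 11)))
(lf (nat_lit 11)))
(lf (nat_lit 11)))))
(lf (nat_lit 40)))))
(lf (nat_lit 16)))))

open Dt in
noncomputable def t23 : Dt :=
(br (nat_lit 45) (br (nat_lit 49) (lf (nat_lit 16))
(br (nat_lit 0) (br (nat_lit 39) (br (nat_lit 3) (lf (nat_lit 39))
(br (nat_lit 32) (lf (nat_lit 39))
(br (nat_lit 37) (lf (nat_lit 39))
(br (nat_lit 5) (br (nat_lit 20) (br (nat_lit 24) (br (nat_lit 26) (br (nat_lit 22) (lf (nat_lit 24))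
(br (nat_lit 28) (lf (nat_lit 24))
(br (nat_lit 30) (br (nat_lit 1) (lf (nat_lit 14))
(br (nat_lit 9) (lf (nat_lit 14))
(br (nat_lit 12) (lf (nat_lit 11))
(br (nat_lit 7) (br (nat_lit 11) (lf (nat_lit 33))
(br (nat_lit 14) (br (nat_lit 16) (lf (nat_lit 22))
(lf (nat_lit 11)))
(lf (nat_lit 15))))
(lf (nat_lit 23))))))
(lf (nat_lit 65)))))
(lf (nat_lit 65)))
(lf (nat_lit 65)))
(lf (nat_lit 56)))
(lf (nat_lit 56))))))
(br (nat_lit 3) (br (nat_lit 32) (lf (nat_lit 39))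
(br (nat_lit 37) (lf (nat_lit 39))
(br (nat_lit 5) (br (nat_lit 20) (br (nat_lit 24) (br (nat_lit 26) (br (nat_lit 22) (lf (nat_lit 24))
(br (nat_lit 9) (br (nat_lit 1) (lf (nat_lit 14))
(br (nat_lit 7) (lf (nat_lit 41))
(br (nat_lit 4) (br (nat_lit 8) (lf (nat_lit 6))
(br (nat_lit 12) (lf (nat_lit 14))
(lf (nat_lit 74))))
(lf (nat_lit 8)))))
(lf (nat_lit 47))))
(lf (nat_lit 65)))
(lf (nat_lit 65)))
(lf (nat_lit 56)))
(lf (nat_lit 56)))))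
(br (nat_lit 12) (br (nat_lit 21) (br (nat_lit 22) (br (nat_lit 41) (br (nat_lit 1) (lf (nat_lit 14))
(br (nat_lit 9) (lf (nat_lit 14))
(br (nat_lit 14) (br (nat_lit 16) (br (nat_lit 2) (lf (nat_lit 9))
(br (nat_lit 4) (br (nat_lit 7) (lf (nat_lit 8))
(br (nat_lit 8) (lf (nat_lit 9))
(br (nat_lit 18) (lf (nat_lit 51))
(br (nat_lit 11) (br (nat_lit 5) (lf (nat_lit 5))
(br (nat_lit 20) (br (nat_lit 24) (lf (nat_lit 22))
(lf (nat_lit 11)))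
(lf (nat_lit 13))))
(lf (nat_lit 58))))))
(lf (nat_lit 13))))
(lf (nat_lit 11)))
(lf (nat_lit 40)))))
(lf (nat_lit 74)))
(lf (nat_lit 74)))
(lf (nat_lit 74)))
(lf (nat_lit 74)))))
(br (nat_lit 12) (br (nat_lit 9) (br (nat_lit 1) (lf (nat_lit 14))
(br (nat_lit 7) (lf (nat_lit 41))
(br (nat_lit 14) (br (nat_lit 20) (br (nat_lit 21) (br (nat_lit 24) (lf (nat_lit 41))
(br (nat_lit 16) (br (nat_lit 2) (lf (nat_lit 9))
(br (nat_lit 8) (lf (nat_lit 9))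
(br (nat_lit 22) (br (nat_lit 3) (lf (nat_lit 74))
(br (nat_lit 26) (lf (nat_lit 14))
(br (nat_lit 28) (lf (nat_lit 24))
(lf (nat_lit 46)))))
(lf (nat_lit 11)))))
(lf (nat_lit 11))))
(lf (nat_lit 40)))
(lf (nat_lit 40)))
(lf (nat_lit 40)))))
(lf (nat_lit 11)))
(br (nat_lit 48) (br (nat_lit 4) (br (nat_lit 8) (lf (nat_lit 26))
(br (nat_lit 22) (lf (nat_lit 26))
(br (nat_lit 5) (br (nat_lit 9) (br (nat_lit 7) (br (nat_lit 14) (br (nat_lit 24) (lf (nat_lit 41))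
(br (nat_lit 16) (br (nat_lit 2) (lf (nat_lit 9))
(br (nat_lit 11) (lf (nat_lit 22))
(br (nat_lit 26) (br (nat_lit 1) (lf (nat_lit 14))
(br (nat_lit 20) (lf (nat_lit 24))
(lf (nat_lit 40))))
(lf (nat_lit 47)))))
(lf (nat_lit 11))))
(lf (nat_lit 8)))
(lf (nat_lit 8)))
(lf (nat_lit 11)))
(lf (nat_lit 47)))))
(br (nat_lit 5) (br (nat_lit 7) (br (nat_lit 9) (lf (nat_lit 8))
(br (nat_lit 14) (br (nat_lit 2) (br (nat_lit 8) (lf (nat_lit 9))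
(br (nat_lit 16) (lf (nat_lit 9))
(lf (nat_lit 11))))
(lf (nat_lit 13)))
(lf (nat_lit 8))))
(lf (nat_lit 8)))
(lf (nat_lit 42))))
(lf (nat_lit 21))))))
(br (nat_lit 49) (br (nat_lit 0) (br (nat_lit 39) (br (nat_lit 3) (lf (nat_lit 39))
(br (nat_lit 32) (lf (nat_lit 39))
(br (nat_lit 37) (lf (nat_lit 39))
(br (nat_lit 5) (br (nat_lit 20) (br (nat_lit 24) (br (nat_lit 26) (br (nat_lit 22) (lf (nat_lit 24))
(br (nat_lit 28) (lf (nat_lit 24))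
(br (nat_lit 30) (br (nat_lit 1) (lf (nat_lit 14))
(br (nat_lit 9) (lf (nat_lit 14))
(br (nat_lit 12) (lf (nat_lit 11))
(br (nat_lit 7) (br (nat_lit 11) (lf (nat_lit 33))
(br (nat_lit 14) (br (nat_lit 16) (lf (nat_lit 22))
(lf (nat_lit 11)))
(lf (nat_lit 15))))
(lf (nat_lit 23))))))
(lf (nat_lit 65)))))
(lf (nat_lit 65)))
(lf (nat_lit 65)))
(lf (nat_lit 56)))
(lf (nat_lit 56))))))
(br (nat_lit 3) (br (nat_lit 32) (lf (nat_lit 39))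
(br (nat_lit 37) (lf (nat_lit 39))
(br (nat_lit 5) (br (nat_lit 20) (br (nat_lit 24) (br (nat_lit 26) (br (nat_lit 22) (lf (nat_lit 24))
(br (nat_lit 12) (br (nat_lit 1) (lf (nat_lit 14))
(br (nat_lit 7) (lf (nat_lit 41))
(br (nat_lit 9) (lf (nat_lit 14))
(lf (nat_lit 11)))))
(lf (nat_lit 74))))
(lf (nat_lit 65)))
(lf (nat_lit 65)))
(lf (nat_lit 56)))
(lf (nat_lit 56)))))
(br (nat_lit 12) (br (nat_lit 21) (br (nat_lit 22) (br (nat_lit 41) (br (nat_lit 1) (lf (nat_lit 14))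
(br (nat_lit 9) (lf (nat_lit 14))
(br (nat_lit 14) (br (nat_lit 16) (br (nat_lit 2) (lf (nat_lit 9))
(br (nat_lit 4) (br (nat_lit 5) (lf (nat_lit 42))
(br (nat_lit 7) (lf (nat_lit 8))
(br (nat_lit 8) (lf (nat_lit 9))
(br (nat_lit 11) (br (nat_lit 18) (lf (nat_lit 42))
(br (nat_lit 20) (br (nat_lit 24) (lf (nat_lit 22))
(lf (nat_lit 11)))
(lf (nat_lit 13))))
(lf (nat_lit 30))))))
(lf (nat_lit 13))))
(lf (nat_lit 11)))
(lf (nat_lit 40)))))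
(lf (nat_lit 74)))
(lf (nat_lit 74)))
(lf (nat_lit 74)))
(lf (nat_lit 74)))))
(br (nat_lit 21) (br (nat_lit 60) (br (nat_lit 4) (lf (nat_lit 51))
(br (nat_lit 8) (lf (nat_lit 34))
(br (nat_lit 18) (lf (nat_lit 51))
(br (nat_lit 20) (lf (nat_lit 34))
(br (nat_lit 1) (br (nat_lit 16) (br (nat_lit 30) (lf (nat_lit 51))
(br (nat_lit 32) (lf (nat_lit 34))
(br (nat_lit 7) (br (nat_lit 11) (br (nat_lit 5) (lf (nat_lit 5))
(br (nat_lit 12) (br (nat_lit 9) (lf (nat_lit 14))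
(lf (nat_lit 11)))
(lf (nat_lit 42))))
(lf (nat_lit 67)))
(lf (nat_lit 67)))))
(lf (nat_lit 13)))
(lf (nat_lit 40)))))))
(lf (nat_lit 20)))
(br (nat_lit 1) (br (nat_lit 9) (br (nat_lit 12) (lf (nat_lit 14))
(br (nat_lit 4) (br (nat_lit 7) (br (nat_lit 14) (br (nat_lit 24) (lf (nat_lit 41))
(br (nat_lit 26) (lf (nat_lit 14))
(br (nat_lit 29) (lf (nat_lit 41))
(br (nat_lit 30) (lf (nat_lit 14))
(br (nat_lit 11) (br (nat_lit 5) (lf (nat_lit 5))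
(br (nat_lit 16) (lf (nat_lit 22))
(br (nat_lit 2) (br (nat_lit 8) (lf (nat_lit 9))
(br (nat_lit 20) (br (nat_lit 22) (br (nat_lit 28) (lf (nat_lit 24))
(lf (nat_lit 52)))
(lf (nat_lit 11)))
(lf (nat_lit 13))))
(lf (nat_lit 13)))))
(lf (nat_lit 67)))))))
(lf (nat_lit 8)))
(lf (nat_lit 8)))
(lf (nat_lit 8))))
(br (nat_lit 12) (lf (nat_lit 11))
(br (nat_lit 16) (br (nat_lit 14) (br (nat_lit 2) (lf (nat_lit 9))
(br (nat_lit 4) (br (nat_lit 8) (lf (nat_lit 9))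
(br (nat_lit 20) (br (nat_lit 22) (br (nat_lit 24) (br (nat_lit 7) (lf (nat_lit 22))
(br (nat_lit 11) (lf (nat_lit 22))
(br (nat_lit 26) (lf (nat_lit 24))
(br (nat_lit 28) (lf (nat_lit 24))
(lf (nat_lit 23))))))
(lf (nat_lit 11)))
(lf (nat_lit 11)))
(lf (nat_lit 13))))
(lf (nat_lit 13))))
(lf (nat_lit 15)))
(lf (nat_lit 11)))))
(lf (nat_lit 40)))))
(lf (nat_lit 16))))

open Dt in
noncomputable def t24 : Dt :=
(br (nat_lit 45) (br (nat_lit 49) (lf (nat_lit 16))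
(br (nat_lit 0) (br (nat_lit 39) (br (nat_lit 3) (lf (nat_lit 39))
(br (nat_lit 32) (lf (nat_lit 39))
(br (nat_lit 37) (lf (nat_lit 39))
(br (nat_lit 5) (br (nat_lit 20) (br (nat_lit 24) (br (nat_lit 7) (lf (nat_lit 33))
(br (nat_lit 11) (lf (nat_lit 33))
(br (nat_lit 2) (br (nat_lit 12) (br (nat_lit 9) (lf (nat_lit 41))
(br (nat_lit 16) (br (nat_lit 8) (lf (nat_lit 9))
(br (nat_lit 14) (lf (nat_lit 9))
(br (nat_lit 1) (br (nat_lit 4) (lf (nat_lit 3))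
(br (nat_lit 21) (br (nat_lit 22) (lf (nat_lit 74))
(lf (nat_lit 11)))
(lf (nat_lit 67))))
(lf (nat_lit 15)))))
(lf (nat_lit 11))))
(lf (nat_lit 23)))
(lf (nat_lit 30)))))
(lf (nat_lit 65)))
(lf (nat_lit 56)))
(lf (nat_lit 56))))))
(br (nat_lit 3) (br (nat_lit 32) (lf (nat_lit 39))
(br (nat_lit 37) (lf (nat_lit 39))
(br (nat_lit 5) (br (nat_lit 20) (br (nat_lit 24) (br (nat_lit 26) (br (nat_lit 22) (lf (nat_lit 24))
(br (nat_lit 9) (br (nat_lit 1) (lf (nat_lit 14))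
(br (nat_lit 7) (lf (nat_lit 41))
(br (nat_lit 4) (br (nat_lit 12) (lf (nat_lit 14))
(lf (nat_lit 74)))
(lf (nat_lit 8)))))
(lf (nat_lit 47))))
(lf (nat_lit 65)))
(lf (nat_lit 65)))
(lf (nat_lit 56)))
(lf (nat_lit 56)))))
(br (nat_lit 12) (br (nat_lit 21) (br (nat_lit 22) (br (nat_lit 41) (br (nat_lit 1) (lf (nat_lit 14))
(br (nat_lit 9) (lf (nat_lit 14))
(br (nat_lit 14) (br (nat_lit 16) (br (nat_lit 2) (lf (nat_lit 9))
(br (nat_lit 4) (br (nat_lit 7) (lf (nat_lit 8))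
(br (nat_lit 8) (lf (nat_lit 9))
(br (nat_lit 11) (lf (nat_lit 22))
(lf (nat_lit 30)))))
(lf (nat_lit 13))))
(lf (nat_lit 11)))
(lf (nat_lit 40)))))
(lf (nat_lit 74)))
(lf (nat_lit 74)))
(lf (nat_lit 74)))
(lf (nat_lit 74)))))
(br (nat_lit 12) (br (nat_lit 9) (br (nat_lit 1) (lf (nat_lit 14))
(br (nat_lit 7) (lf (nat_lit 41))
(br (nat_lit 14) (br (nat_lit 20) (br (nat_lit 21) (br (nat_lit 24) (lf (nat_lit 41))
(br (nat_lit 16) (br (nat_lit 2) (lf (nat_lit 9))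
(br (nat_lit 8) (lf (nat_lit 9))
(br (nat_lit 11) (lf (nat_lit 22))
(br (nat_lit 3) (br (nat_lit 5) (br (nat_lit 22) (lf (nat_lit 74))
(lf (nat_lit 11)))
(lf (nat_lit 30)))
(lf (nat_lit 30))))))
(lf (nat_lit 11))))
(lf (nat_lit 40)))
(lf (nat_lit 40)))
(lf (nat_lit 40)))))
(lf (nat_lit 11)))
(br (nat_lit 48) (br (nat_lit 4) (br (nat_lit 8) (lf (nat_lit 26))
(br (nat_lit 22) (lf (nat_lit 26))
(br (nat_lit 5) (br (nat_lit 9) (br (nat_lit 7) (br (nat_lit 14) (br (nat_lit 11) (lf (nat_lit 22))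
(br (nat_lit 16) (lf (nat_lit 22))
(br (nat_lit 2) (br (nat_lit 3) (lf (nat_lit 48))
(br (nat_lit 20) (br (nat_lit 24) (lf (nat_lit 22))
(lf (nat_lit 6)))
(lf (nat_lit 13))))
(lf (nat_lit 13)))))
(lf (nat_lit 8)))
(lf (nat_lit 8)))
(lf (nat_lit 11)))
(lf (nat_lit 47)))))
(br (nat_lit 5) (br (nat_lit 7) (br (nat_lit 9) (lf (nat_lit 8))
(br (nat_lit 14) (br (nat_lit 2) (br (nat_lit 8) (lf (nat_lit 9))
(br (nat_lit 11) (lf (nat_lit 22))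
(br (nat_lit 16) (lf (nat_lit 9))
(lf (nat_lit 11)))))
(lf (nat_lit 13)))
(lf (nat_lit 8))))
(lf (nat_lit 8)))
(lf (nat_lit 42))))
(lf (nat_lit 21))))))
(br (nat_lit 49) (br (nat_lit 0) (br (nat_lit 39) (br (nat_lit 3) (lf (nat_lit 39))
(br (nat_lit 32) (lf (nat_lit 39))
(br (nat_lit 37) (lf (nat_lit 39))
(br (nat_lit 5) (br (nat_lit 20) (br (nat_lit 24) (br (nat_lit 7) (lf (nat_lit 33))
(br (nat_lit 11) (lf (nat_lit 33))
(br (nat_lit 2) (br (nat_lit 12) (br (nat_lit 9) (lf (nat_lit 41))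
(br (nat_lit 16) (br (nat_lit 4) (lf (nat_lit 42))
(br (nat_lit 8) (lf (nat_lit 9))
(br (nat_lit 14) (lf (nat_lit 9))
(br (nat_lit 1) (br (nat_lit 21) (br (nat_lit 22) (lf (nat_lit 74))
(lf (nat_lit 11)))
(lf (nat_lit 67)))
(lf (nat_lit 15))))))
(lf (nat_lit 11))))
(lf (nat_lit 23)))
(lf (nat_lit 30)))))
(lf (nat_lit 65)))
(lf (nat_lit 56)))
(lf (nat_lit 56))))))
(br (nat_lit 3) (br (nat_lit 32) (lf (nat_lit 39))
(br (nat_lit 37) (lf (nat_lit 39))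
(br (nat_lit 5) (br (nat_lit 20) (br (nat_lit 24) (br (nat_lit 26) (br (nat_lit 22) (lf (nat_lit 24))
(br (nat_lit 12) (br (nat_lit 1) (lf (nat_lit 14))
(br (nat_lit 7) (lf (nat_lit 41))
(br (nat_lit 9) (lf (nat_lit 14))
(lf (nat_lit 11)))))
(lf (nat_lit 74))))
(lf (nat_lit 65)))
(lf (nat_lit 65)))
(lf (nat_lit 56)))
(lf (nat_lit 56)))))
(br (nat_lit 12) (br (nat_lit 21) (br (nat_lit 22) (br (nat_lit 41) (br (nat_lit 1) (lf (nat_lit 14))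
(br (nat_lit 9) (lf (nat_lit 14))
(br (nat_lit 14) (br (nat_lit 16) (br (nat_lit 2) (lf (nat_lit 9))
(br (nat_lit 4) (br (nat_lit 5) (lf (nat_lit 42))
(br (nat_lit 7) (lf (nat_lit 8))
(br (nat_lit 8) (lf (nat_lit 9))
(br (nat_lit 11) (lf (nat_lit 22))
(lf (nat_lit 30))))))
(lf (nat_lit 13))))
(lf (nat_lit 11)))
(lf (nat_lit 40)))))
(lf (nat_lit 74)))
(lf (nat_lit 74)))
(lf (nat_lit 74)))
(lf (nat_lit 74)))))
(br (nat_lit 21) (br (nat_lit 60) (br (nat_lit 4) (lf (nat_lit 51))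
(br (nat_lit 8) (lf (nat_lit 34))
(br (nat_lit 18) (lf (nat_lit 51))
(br (nat_lit 20) (lf (nat_lit 34))
(br (nat_lit 1) (br (nat_lit 16) (br (nat_lit 30) (lf (nat_lit 51))
(br (nat_lit 32) (lf (nat_lit 34))
(br (nat_lit 7) (br (nat_lit 9) (br (nat_lit 11) (lf (nat_lit 22))
(lf (nat_lit 67)))
(lf (nat_lit 6)))
(lf (nat_lit 67)))))
(lf (nat_lit 13)))
(lf (nat_lit 40)))))))
(lf (nat_lit 20)))
(br (nat_lit 1) (br (nat_lit 9) (br (nat_lit 12) (lf (nat_lit 14))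
(br (nat_lit 4) (br (nat_lit 7) (br (nat_lit 14) (br (nat_lit 11) (lf (nat_lit 22))
(br (nat_lit 16) (lf (nat_lit 22))
(br (nat_lit 2) (br (nat_lit 8) (lf (nat_lit 9))
(br (nat_lit 20) (br (nat_lit 24) (lf (nat_lit 22))
(lf (nat_lit 6)))
(lf (nat_lit 13))))
(lf (nat_lit 13)))))
(lf (nat_lit 8)))
(lf (nat_lit 8)))
(lf (nat_lit 8))))
(br (nat_lit 12) (lf (nat_lit 11))
(br (nat_lit 16) (br (nat_lit 14) (br (nat_lit 2) (lf (nat_lit 9))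
(br (nat_lit 4) (br (nat_lit 7) (lf (nat_lit 22))
(br (nat_lit 8) (lf (nat_lit 9))
(br (nat_lit 11) (lf (nat_lit 22))
(br (nat_lit 3) (br (nat_lit 5) (br (nat_lit 18) (lf (nat_lit 42))
(br (nat_lit 20) (br (nat_lit 22) (br (nat_lit 24) (lf (nat_lit 22))
(lf (nat_lit 6)))
(lf (nat_lit 11)))
(lf (nat_lit 13))))
(lf (nat_lit 30)))
(lf (nat_lit 30))))))
(lf (nat_lit 13))))
(lf (nat_lit 15)))
(lf (nat_lit 11)))))
(lf (nat_lit 40)))))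
(lf (nat_lit 16))))

open Dt in
noncomputable def t25 : Dt :=
(br (nat_lit 34) (br (nat_lit 70) (lf (nat_lit 70))
(br (nat_lit 35) (br (nat_lit 45) (lf (nat_lit 16))
(br (nat_lit 49) (lf (nat_lit 16))
(br (nat_lit 0) (br (nat_lit 39) (br (nat_lit 3) (lf (nat_lit 39))
(br (nat_lit 32) (lf (nat_lit 39))
(br (nat_lit 37) (lf (nat_lit 39))
(br (nat_lit 5) (br (nat_lit 20) (br (nat_lit 43) (br (nat_lit 46) (br (nat_lit 57) (lf (nat_lit 39))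
(br (nat_lit 4) (br (nat_lit 2) (lf (nat_lit 48))
(br (nat_lit 18) (lf (nat_lit 51))
(br (nat_lit 11) (br (nat_lit 1) (lf (nat_lit 5))
(br (nat_lit 12) (br (nat_lit 7) (lf (nat_lit 41))
(br (nat_lit 9) (lf (nat_lit 41))
(br (nat_lit 14) (lf (nat_lit 8))
(lf (nat_lit 3)))))
(lf (nat_lit 42))))
(lf (nat_lit 58)))))
(lf (nat_lit 42))))
(lf (nat_lit 56)))
(lf (nat_lit 56)))
(lf (nat_lit 56)))
(lf (nat_lit 56))))))
(br (nat_lit 3) (br (nat_lit 32) (lf (nat_lit 39))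
(br (nat_lit 37) (lf (nat_lit 39))
(br (nat_lit 5) (br (nat_lit 20) (br (nat_lit 43) (br (nat_lit 2) (lf (nat_lit 48))
(br (nat_lit 4) (lf (nat_lit 48))
(br (nat_lit 12) (br (nat_lit 16) (br (nat_lit 18) (br (nat_lit 21) (lf (nat_lit 51))
(br (nat_lit 22) (lf (nat_lit 48))
(lf (nat_lit 74))))
(lf (nat_lit 42)))
(lf (nat_lit 13)))
(lf (nat_lit 8)))))
(lf (nat_lit 56)))
(lf (nat_lit 56)))
(lf (nat_lit 56)))))
(br (nat_lit 11) (br (nat_lit 12) (br (nat_lit 18) (br (nat_lit 21) (br (nat_lit 4) (lf (nat_lit 51))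
(br (nat_lit 22) (br (nat_lit 28) (br (nat_lit 1) (lf (nat_lit 12))
(br (nat_lit 9) (lf (nat_lit 12))
(br (nat_lit 16) (br (nat_lit 14) (br (nat_lit 2) (lf (nat_lit 9))
(lf (nat_lit 13)))
(lf (nat_lit 15)))
(lf (nat_lit 11)))))
(lf (nat_lit 58)))
(lf (nat_lit 74))))
(lf (nat_lit 74)))
(lf (nat_lit 58)))
(lf (nat_lit 74)))
(lf (nat_lit 58)))))
(br (nat_lit 12) (br (nat_lit 9) (br (nat_lit 1) (lf (nat_lit 14))
(br (nat_lit 7) (lf (nat_lit 41))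
(br (nat_lit 14) (br (nat_lit 20) (br (nat_lit 21) (br (nat_lit 24) (lf (nat_lit 41))
(br (nat_lit 16) (br (nat_lit 2) (lf (nat_lit 9))
(br (nat_lit 8) (lf (nat_lit 9))
(br (nat_lit 22) (br (nat_lit 3) (lf (nat_lit 74))
(br (nat_lit 26) (lf (nat_lit 14))
(br (nat_lit 11) (br (nat_lit 28) (lf (nat_lit 24))
(lf (nat_lit 46)))
(lf (nat_lit 55)))))
(lf (nat_lit 11)))))
(lf (nat_lit 11))))
(lf (nat_lit 40)))
(lf (nat_lit 40)))
(lf (nat_lit 40)))))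
(lf (nat_lit 11)))
(br (nat_lit 48) (br (nat_lit 4) (br (nat_lit 2) (lf (nat_lit 48))
(br (nat_lit 3) (lf (nat_lit 48))
(br (nat_lit 22) (lf (nat_lit 48))
(br (nat_lit 5) (br (nat_lit 9) (br (nat_lit 7) (br (nat_lit 14) (br (nat_lit 16) (br (nat_lit 8) (lf (nat_lit 9))
(br (nat_lit 11) (lf (nat_lit 22))
(br (nat_lit 18) (br (nat_lit 21) (lf (nat_lit 51))
(br (nat_lit 1) (br (nat_lit 24) (lf (nat_lit 22))
(br (nat_lit 26) (lf (nat_lit 14))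
(lf (nat_lit 47))))
(lf (nat_lit 40))))
(lf (nat_lit 58)))))
(lf (nat_lit 13)))
(lf (nat_lit 8)))
(lf (nat_lit 8)))
(lf (nat_lit 11)))
(lf (nat_lit 47))))))
(br (nat_lit 5) (br (nat_lit 7) (br (nat_lit 9) (lf (nat_lit 8))
(br (nat_lit 14) (br (nat_lit 2) (br (nat_lit 3) (lf (nat_lit 48))
(br (nat_lit 8) (lf (nat_lit 9))
(br (nat_lit 16) (lf (nat_lit 9))
(lf (nat_lit 11)))))
(lf (nat_lit 13)))
(lf (nat_lit 8))))
(lf (nat_lit 8)))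
(lf (nat_lit 42))))
(lf (nat_lit 21)))))))
t23))
(br (nat_lit 70) (br (nat_lit 35) (br (nat_lit 45) (lf (nat_lit 16))
(br (nat_lit 49) (lf (nat_lit 16))
(br (nat_lit 0) (br (nat_lit 39) (br (nat_lit 3) (lf (nat_lit 39))
(br (nat_lit 32) (lf (nat_lit 39))
(br (nat_lit 37) (lf (nat_lit 39))
(br (nat_lit 5) (br (nat_lit 20) (br (nat_lit 43) (br (nat_lit 46) (br (nat_lit 57) (lf (nat_lit 39))
(br (nat_lit 4) (br (nat_lit 2) (lf (nat_lit 48))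
(br (nat_lit 11) (br (nat_lit 1) (lf (nat_lit 5))
(br (nat_lit 7) (lf (nat_lit 33))
(br (nat_lit 18) (lf (nat_lit 51))
(br (nat_lit 12) (br (nat_lit 9) (lf (nat_lit 41))
(br (nat_lit 14) (lf (nat_lit 8))
(lf (nat_lit 3))))
(lf (nat_lit 42))))))
(lf (nat_lit 30))))
(lf (nat_lit 42))))
(lf (nat_lit 56)))
(lf (nat_lit 56)))
(lf (nat_lit 56)))
(lf (nat_lit 56))))))
(br (nat_lit 3) (br (nat_lit 32) (lf (nat_lit 39))
(br (nat_lit 37) (lf (nat_lit 39))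
(br (nat_lit 5) (br (nat_lit 20) (br (nat_lit 43) (br (nat_lit 2) (lf (nat_lit 48))
(br (nat_lit 4) (lf (nat_lit 48))
(br (nat_lit 12) (br (nat_lit 16) (br (nat_lit 18) (br (nat_lit 21) (lf (nat_lit 51))
(br (nat_lit 22) (lf (nat_lit 48))
(lf (nat_lit 74))))
(lf (nat_lit 42)))
(lf (nat_lit 13)))
(lf (nat_lit 8)))))
(lf (nat_lit 56)))
(lf (nat_lit 56)))
(lf (nat_lit 56)))))
(br (nat_lit 11) (br (nat_lit 12) (br (nat_lit 18) (br (nat_lit 21) (br (nat_lit 4) (lf (nat_lit 51))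
(br (nat_lit 22) (br (nat_lit 28) (br (nat_lit 1) (lf (nat_lit 12))
(br (nat_lit 9) (lf (nat_lit 12))
(br (nat_lit 16) (br (nat_lit 7) (lf (nat_lit 22))
(br (nat_lit 14) (lf (nat_lit 22))
(lf (nat_lit 8))))
(lf (nat_lit 11)))))
(lf (nat_lit 58)))
(lf (nat_lit 74))))
(lf (nat_lit 74)))
(lf (nat_lit 58)))
(lf (nat_lit 74)))
(lf (nat_lit 58)))))
(br (nat_lit 12) (br (nat_lit 9) (br (nat_lit 1) (lf (nat_lit 14))
(br (nat_lit 7) (lf (nat_lit 41))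
(br (nat_lit 14) (br (nat_lit 20) (br (nat_lit 21) (br (nat_lit 24) (lf (nat_lit 41))
(br (nat_lit 16) (br (nat_lit 2) (lf (nat_lit 9))
(br (nat_lit 8) (lf (nat_lit 9))
(br (nat_lit 11) (lf (nat_lit 22))
(br (nat_lit 3) (br (nat_lit 5) (br (nat_lit 22) (lf (nat_lit 74))
(lf (nat_lit 11)))
(lf (nat_lit 30)))
(lf (nat_lit 30))))))
(lf (nat_lit 11))))
(lf (nat_lit 40)))
(lf (nat_lit 40)))
(lf (nat_lit 40)))))
(lf (nat_lit 11)))
(br (nat_lit 48) (br (nat_lit 4) (br (nat_lit 2) (lf (nat_lit 48))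
(br (nat_lit 3) (lf (nat_lit 48))
(br (nat_lit 11) (br (nat_lit 22) (lf (nat_lit 48))
(br (nat_lit 5) (br (nat_lit 1) (lf (nat_lit 5))
(br (nat_lit 9) (br (nat_lit 7) (br (nat_lit 14) (lf (nat_lit 22))
(lf (nat_lit 8)))
(lf (nat_lit 8)))
(lf (nat_lit 11))))
(lf (nat_lit 47))))
(lf (nat_lit 30)))))
(br (nat_lit 5) (br (nat_lit 7) (br (nat_lit 9) (lf (nat_lit 8))
(br (nat_lit 14) (br (nat_lit 2) (br (nat_lit 3) (lf (nat_lit 48))
(br (nat_lit 8) (lf (nat_lit 9))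
(br (nat_lit 11) (lf (nat_lit 22))
(br (nat_lit 16) (lf (nat_lit 9))
(lf (nat_lit 11))))))
(lf (nat_lit 13)))
(lf (nat_lit 8))))
(lf (nat_lit 8)))
(lf (nat_lit 42))))
(lf (nat_lit 21)))))))
t24)
(lf (nat_lit 70))))

open Dt in
noncomputable def t26 : Dt :=
(br (nat_lit 35) (br (nat_lit 45) (lf (nat_lit 16))
(br (nat_lit 49) (lf (nat_lit 16))
(br (nat_lit 0) (br (nat_lit 3) (br (nat_lit 32) (lf (nat_lit 39))
(br (nat_lit 37) (lf (nat_lit 39))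
(br (nat_lit 39) (lf (nat_lit 39))
(br (nat_lit 12) (br (nat_lit 21) (br (nat_lit 22) (br (nat_lit 2) (lf (nat_lit 48))
(br (nat_lit 4) (lf (nat_lit 48))
(br (nat_lit 41) (br (nat_lit 1) (lf (nat_lit 12))
(br (nat_lit 9) (lf (nat_lit 12))
(br (nat_lit 14) (br (nat_lit 16) (br (nat_lit 8) (lf (nat_lit 9))
(br (nat_lit 7) (lf (nat_lit 6))
(br (nat_lit 18) (lf (nat_lit 12))
(br (nat_lit 5) (br (nat_lit 11) (lf (nat_lit 5))
(br (nat_lit 20) (br (nat_lit 24) (br (nat_lit 26) (lf (nat_lit 24))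
(lf (nat_lit 55)))
(lf (nat_lit 6)))
(lf (nat_lit 13))))
(lf (nat_lit 42))))))
(lf (nat_lit 11)))
(lf (nat_lit 40)))))
(lf (nat_lit 74)))))
(lf (nat_lit 74)))
(lf (nat_lit 74)))
(lf (nat_lit 74))))))
(br (nat_lit 39) (br (nat_lit 7) (lf (nat_lit 33))
(br (nat_lit 11) (lf (nat_lit 33))
(br (nat_lit 2) (br (nat_lit 5) (br (nat_lit 18) (br (nat_lit 24) (lf (nat_lit 33))
(br (nat_lit 28) (br (nat_lit 1) (lf (nat_lit 12))
(br (nat_lit 9) (lf (nat_lit 12))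
(br (nat_lit 8) (br (nat_lit 12) (lf (nat_lit 11))
(br (nat_lit 4) (br (nat_lit 14) (lf (nat_lit 9))
(lf (nat_lit 8)))
(lf (nat_lit 8))))
(lf (nat_lit 6)))))
(lf (nat_lit 46))))
(lf (nat_lit 58)))
(lf (nat_lit 30)))
(lf (nat_lit 30)))))
(lf (nat_lit 74))))
(br (nat_lit 12) (br (nat_lit 9) (br (nat_lit 1) (lf (nat_lit 12))
(br (nat_lit 7) (lf (nat_lit 41))
(br (nat_lit 14) (br (nat_lit 18) (lf (nat_lit 12))
(br (nat_lit 20) (br (nat_lit 21) (br (nat_lit 24) (lf (nat_lit 41))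
(br (nat_lit 16) (br (nat_lit 2) (lf (nat_lit 9))
(br (nat_lit 4) (lf (nat_lit 13))
(br (nat_lit 3) (br (nat_lit 5) (br (nat_lit 8) (lf (nat_lit 9))
(br (nat_lit 22) (br (nat_lit 26) (lf (nat_lit 24))
(br (nat_lit 11) (br (nat_lit 28) (lf (nat_lit 12))
(lf (nat_lit 46)))
(lf (nat_lit 55))))
(lf (nat_lit 11))))
(lf (nat_lit 42)))
(lf (nat_lit 43)))))
(lf (nat_lit 11))))
(lf (nat_lit 40)))
(lf (nat_lit 40))))
(lf (nat_lit 40)))))
(lf (nat_lit 11)))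
(br (nat_lit 48) (br (nat_lit 3) (br (nat_lit 2) (lf (nat_lit 48))
(br (nat_lit 4) (lf (nat_lit 48))
(br (nat_lit 5) (br (nat_lit 7) (br (nat_lit 9) (lf (nat_lit 8))
(br (nat_lit 1) (br (nat_lit 11) (lf (nat_lit 5))
(br (nat_lit 14) (br (nat_lit 16) (br (nat_lit 8) (lf (nat_lit 9))
(br (nat_lit 18) (br (nat_lit 20) (br (nat_lit 22) (lf (nat_lit 24))
(lf (nat_lit 11)))
(lf (nat_lit 13)))
(lf (nat_lit 42))))
(lf (nat_lit 11)))
(lf (nat_lit 8))))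
(lf (nat_lit 38))))
(lf (nat_lit 8)))
(lf (nat_lit 42)))))
(br (nat_lit 39) (br (nat_lit 1) (br (nat_lit 9) (br (nat_lit 4) (br (nat_lit 2) (lf (nat_lit 48))
(br (nat_lit 7) (br (nat_lit 11) (lf (nat_lit 33))
(lf (nat_lit 30)))
(lf (nat_lit 8))))
(lf (nat_lit 8)))
(lf (nat_lit 38)))
(lf (nat_lit 38)))
(lf (nat_lit 74))))
(lf (nat_lit 21)))))))
(br (nat_lit 45) (br (nat_lit 49) (lf (nat_lit 16))
(br (nat_lit 0) (br (nat_lit 3) (br (nat_lit 32) (lf (nat_lit 39))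
(br (nat_lit 37) (lf (nat_lit 39))
(br (nat_lit 24) (br (nat_lit 7) (lf (nat_lit 33))
(br (nat_lit 11) (lf (nat_lit 33))
(br (nat_lit 12) (br (nat_lit 9) (lf (nat_lit 41))
(br (nat_lit 16) (br (nat_lit 22) (br (nat_lit 26) (br (nat_lit 20) (lf (nat_lit 24))
(br (nat_lit 5) (br (nat_lit 28) (lf (nat_lit 24))
(lf (nat_lit 23)))
(lf (nat_lit 56))))
(lf (nat_lit 65)))
(lf (nat_lit 11)))
(lf (nat_lit 11))))
(lf (nat_lit 23)))))
(lf (nat_lit 65)))))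
(br (nat_lit 39) (br (nat_lit 7) (lf (nat_lit 33))
(br (nat_lit 11) (lf (nat_lit 33))
(br (nat_lit 2) (br (nat_lit 5) (br (nat_lit 24) (lf (nat_lit 33))
(br (nat_lit 28) (br (nat_lit 20) (br (nat_lit 22) (lf (nat_lit 24))
(br (nat_lit 9) (br (nat_lit 1) (lf (nat_lit 12))
(br (nat_lit 12) (lf (nat_lit 12))
(lf (nat_lit 74))))
(lf (nat_lit 11))))
(lf (nat_lit 27)))
(lf (nat_lit 46))))
(lf (nat_lit 30)))
(lf (nat_lit 30)))))
(lf (nat_lit 74))))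
(br (nat_lit 12) (br (nat_lit 9) (br (nat_lit 1) (lf (nat_lit 12))
(br (nat_lit 7) (lf (nat_lit 41))
(br (nat_lit 14) (br (nat_lit 18) (lf (nat_lit 12))
(br (nat_lit 20) (br (nat_lit 21) (br (nat_lit 24) (lf (nat_lit 41))
(br (nat_lit 16) (br (nat_lit 2) (lf (nat_lit 9))
(br (nat_lit 4) (lf (nat_lit 13))
(br (nat_lit 3) (br (nat_lit 5) (br (nat_lit 8) (lf (nat_lit 9))
(br (nat_lit 22) (br (nat_lit 26) (lf (nat_lit 24))
(br (nat_lit 28) (lf (nat_lit 12))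
(lf (nat_lit 46))))
(lf (nat_lit 11))))
(lf (nat_lit 42)))
(lf (nat_lit 43)))))
(lf (nat_lit 11))))
(lf (nat_lit 40)))
(lf (nat_lit 40))))
(lf (nat_lit 40)))))
(lf (nat_lit 11)))
(br (nat_lit 48) (br (nat_lit 4) (br (nat_lit 8) (lf (nat_lit 26))
(br (nat_lit 22) (lf (nat_lit 26))
(br (nat_lit 5) (br (nat_lit 9) (br (nat_lit 7) (br (nat_lit 14) (br (nat_lit 24) (lf (nat_lit 41))
(lf (nat_lit 6)))
(lf (nat_lit 8)))
(lf (nat_lit 8)))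
(lf (nat_lit 11)))
(lf (nat_lit 47)))))
(br (nat_lit 5) (br (nat_lit 7) (br (nat_lit 9) (lf (nat_lit 8))
(br (nat_lit 1) (br (nat_lit 11) (lf (nat_lit 5))
(br (nat_lit 14) (br (nat_lit 16) (br (nat_lit 2) (lf (nat_lit 9))
(br (nat_lit 3) (br (nat_lit 8) (lf (nat_lit 9))
(br (nat_lit 18) (br (nat_lit 20) (br (nat_lit 22) (lf (nat_lit 24))
(lf (nat_lit 11)))
(lf (nat_lit 13)))
(lf (nat_lit 42))))
(lf (nat_lit 30))))
(lf (nat_lit 11)))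
(lf (nat_lit 8))))
(lf (nat_lit 38))))
(lf (nat_lit 8)))
(lf (nat_lit 42))))
(lf (nat_lit 21))))))
(br (nat_lit 49) (br (nat_lit 0) (br (nat_lit 3) (br (nat_lit 32) (lf (nat_lit 39))
(br (nat_lit 37) (lf (nat_lit 39))
(br (nat_lit 24) (br (nat_lit 7) (lf (nat_lit 33))
(br (nat_lit 11) (lf (nat_lit 33))
(br (nat_lit 12) (br (nat_lit 9) (lf (nat_lit 41))
(br (nat_lit 16) (br (nat_lit 22) (br (nat_lit 26) (br (nat_lit 20) (lf (nat_lit 24))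
(br (nat_lit 1) (br (nat_lit 5) (br (nat_lit 4) (lf (nat_lit 42))
(br (nat_lit 18) (lf (nat_lit 12))
(br (nat_lit 28) (lf (nat_lit 12))
(lf (nat_lit 23)))))
(lf (nat_lit 56)))
(lf (nat_lit 54))))
(lf (nat_lit 65)))
(lf (nat_lit 11)))
(lf (nat_lit 11))))
(lf (nat_lit 23)))))
(lf (nat_lit 65)))))
(br (nat_lit 39) (br (nat_lit 7) (lf (nat_lit 33))
(br (nat_lit 11) (lf (nat_lit 33))
(br (nat_lit 2) (br (nat_lit 5) (br (nat_lit 24) (lf (nat_lit 33))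
(br (nat_lit 28) (br (nat_lit 20) (br (nat_lit 22) (lf (nat_lit 24))
(br (nat_lit 9) (br (nat_lit 1) (lf (nat_lit 12))
(br (nat_lit 12) (lf (nat_lit 12))
(lf (nat_lit 74))))
(lf (nat_lit 11))))
(lf (nat_lit 27)))
(lf (nat_lit 46))))
(lf (nat_lit 30)))
(lf (nat_lit 30)))))
(lf (nat_lit 74))))
(br (nat_lit 21) (br (nat_lit 60) (br (nat_lit 4) (lf (nat_lit 51))
(br (nat_lit 8) (lf (nat_lit 34))
(br (nat_lit 18) (lf (nat_lit 51))
(br (nat_lit 3) (br (nat_lit 2) (lf (nat_lit 44))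
(br (nat_lit 20) (lf (nat_lit 34))
(br (nat_lit 1) (br (nat_lit 16) (br (nat_lit 29) (br (nat_lit 30) (lf (nat_lit 51))
(br (nat_lit 11) (br (nat_lit 5) (lf (nat_lit 5))
(br (nat_lit 12) (br (nat_lit 7) (lf (nat_lit 41))
(br (nat_lit 9) (lf (nat_lit 12))
(lf (nat_lit 11))))
(lf (nat_lit 42))))
(lf (nat_lit 30))))
(lf (nat_lit 43)))
(lf (nat_lit 13)))
(lf (nat_lit 40)))))
(lf (nat_lit 43))))))
(lf (nat_lit 20)))
(br (nat_lit 1) (br (nat_lit 9) (br (nat_lit 12) (lf (nat_lit 12))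
(br (nat_lit 4) (br (nat_lit 7) (br (nat_lit 14) (br (nat_lit 18) (lf (nat_lit 12))
(br (nat_lit 24) (lf (nat_lit 41))
(br (nat_lit 8) (br (nat_lit 2) (lf (nat_lit 9))
(br (nat_lit 16) (lf (nat_lit 9))
(br (nat_lit 20) (br (nat_lit 22) (br (nat_lit 26) (lf (nat_lit 24))
(br (nat_lit 11) (br (nat_lit 5) (lf (nat_lit 5))
(br (nat_lit 28) (lf (nat_lit 12))
(br (nat_lit 29) (lf (nat_lit 41))
(lf (nat_lit 55)))))
(lf (nat_lit 55))))
(lf (nat_lit 11)))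
(lf (nat_lit 13)))))
(lf (nat_lit 6)))))
(lf (nat_lit 8)))
(lf (nat_lit 8)))
(lf (nat_lit 8))))
(br (nat_lit 12) (lf (nat_lit 11))
(br (nat_lit 16) (br (nat_lit 22) (br (nat_lit 24) (br (nat_lit 7) (br (nat_lit 11) (lf (nat_lit 22))
(br (nat_lit 14) (lf (nat_lit 22))
(br (nat_lit 4) (br (nat_lit 2) (lf (nat_lit 13))
(br (nat_lit 3) (br (nat_lit 5) (br (nat_lit 18) (lf (nat_lit 42))
(br (nat_lit 20) (lf (nat_lit 13))
(lf (nat_lit 40))))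
(lf (nat_lit 30)))
(lf (nat_lit 30))))
(lf (nat_lit 8)))))
(lf (nat_lit 23)))
(lf (nat_lit 11)))
(lf (nat_lit 11)))
(lf (nat_lit 11)))))
(lf (nat_lit 40)))))
(lf (nat_lit 16)))))

open Dt in
noncomputable def t27 : Dt :=
(br (nat_lit 45) (br (nat_lit 49) (lf (nat_lit 16))
(br (nat_lit 0) (br (nat_lit 39) (br (nat_lit 3) (lf (nat_lit 39))
(br (nat_lit 32) (lf (nat_lit 39))
(br (nat_lit 37) (lf (nat_lit 39))
(br (nat_lit 5) (br (nat_lit 20) (br (nat_lit 24) (br (nat_lit 26) (br (nat_lit 22) (lf (nat_lit 24))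
(br (nat_lit 28) (lf (nat_lit 24))
(br (nat_lit 7) (br (nat_lit 8) (br (nat_lit 9) (lf (nat_lit 41))
(br (nat_lit 11) (lf (nat_lit 33))
(br (nat_lit 12) (lf (nat_lit 11))
(br (nat_lit 16) (br (nat_lit 2) (lf (nat_lit 9))
(br (nat_lit 14) (lf (nat_lit 9))
(lf (nat_lit 15))))
(lf (nat_lit 11))))))
(lf (nat_lit 46)))
(lf (nat_lit 46)))))
(lf (nat_lit 65)))
(lf (nat_lit 65)))
(lf (nat_lit 56)))
(lf (nat_lit 56))))))
(br (nat_lit 3) (br (nat_lit 32) (lf (nat_lit 39))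
(br (nat_lit 37) (lf (nat_lit 39))
(br (nat_lit 5) (br (nat_lit 20) (br (nat_lit 24) (br (nat_lit 26) (br (nat_lit 22) (lf (nat_lit 24))
(br (nat_lit 9) (br (nat_lit 1) (lf (nat_lit 38))
(br (nat_lit 7) (lf (nat_lit 41))
(br (nat_lit 4) (br (nat_lit 8) (lf (nat_lit 6))
(br (nat_lit 12) (lf (nat_lit 41))
(lf (nat_lit 74))))
(lf (nat_lit 8)))))
(lf (nat_lit 47))))
(lf (nat_lit 65)))
(lf (nat_lit 65)))
(lf (nat_lit 56)))
(lf (nat_lit 56)))))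
(br (nat_lit 12) (br (nat_lit 21) (br (nat_lit 22) (br (nat_lit 41) (br (nat_lit 1) (lf (nat_lit 12))
(br (nat_lit 9) (lf (nat_lit 12))
(br (nat_lit 14) (br (nat_lit 16) (br (nat_lit 2) (lf (nat_lit 9))
(br (nat_lit 4) (br (nat_lit 7) (lf (nat_lit 8))
(br (nat_lit 8) (lf (nat_lit 9))
(br (nat_lit 18) (lf (nat_lit 12))
(br (nat_lit 11) (br (nat_lit 5) (lf (nat_lit 5))
(br (nat_lit 20) (br (nat_lit 24) (lf (nat_lit 22))
(lf (nat_lit 11)))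
(lf (nat_lit 13))))
(lf (nat_lit 58))))))
(lf (nat_lit 13))))
(lf (nat_lit 11)))
(lf (nat_lit 40)))))
(lf (nat_lit 74)))
(lf (nat_lit 74)))
(lf (nat_lit 74)))
(lf (nat_lit 74)))))
(br (nat_lit 12) (br (nat_lit 9) (br (nat_lit 1) (lf (nat_lit 12))
(br (nat_lit 7) (lf (nat_lit 41))
(br (nat_lit 14) (br (nat_lit 18) (lf (nat_lit 12))
(br (nat_lit 20) (br (nat_lit 21) (br (nat_lit 24) (lf (nat_lit 41))
(br (nat_lit 16) (br (nat_lit 2) (lf (nat_lit 9))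
(br (nat_lit 8) (lf (nat_lit 9))
(br (nat_lit 22) (br (nat_lit 3) (lf (nat_lit 74))
(br (nat_lit 4) (br (nat_lit 26) (lf (nat_lit 24))
(br (nat_lit 28) (lf (nat_lit 12))
(lf (nat_lit 46))))
(lf (nat_lit 43))))
(lf (nat_lit 11)))))
(lf (nat_lit 11))))
(lf (nat_lit 40)))
(lf (nat_lit 40))))
(lf (nat_lit 40)))))
(lf (nat_lit 11)))
(br (nat_lit 48) (br (nat_lit 4) (br (nat_lit 8) (lf (nat_lit 26))
(br (nat_lit 22) (lf (nat_lit 26))
(br (nat_lit 5) (br (nat_lit 9) (br (nat_lit 7) (br (nat_lit 14) (br (nat_lit 24) (lf (nat_lit 41))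
(br (nat_lit 16) (br (nat_lit 2) (lf (nat_lit 9))
(br (nat_lit 11) (lf (nat_lit 22))
(br (nat_lit 26) (br (nat_lit 20) (lf (nat_lit 24))
(br (nat_lit 1) (br (nat_lit 18) (lf (nat_lit 12))
(br (nat_lit 28) (lf (nat_lit 12))
(lf (nat_lit 52))))
(lf (nat_lit 40))))
(lf (nat_lit 47)))))
(lf (nat_lit 11))))
(lf (nat_lit 8)))
(lf (nat_lit 8)))
(lf (nat_lit 11)))
(lf (nat_lit 47)))))
(br (nat_lit 5) (br (nat_lit 7) (br (nat_lit 9) (lf (nat_lit 8))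
(br (nat_lit 14) (br (nat_lit 2) (br (nat_lit 8) (lf (nat_lit 9))
(br (nat_lit 16) (lf (nat_lit 9))
(lf (nat_lit 11))))
(lf (nat_lit 13)))
(lf (nat_lit 8))))
(lf (nat_lit 8)))
(lf (nat_lit 42))))
(lf (nat_lit 21))))))
(br (nat_lit 49) (br (nat_lit 0) (br (nat_lit 39) (br (nat_lit 3) (lf (nat_lit 39))
(br (nat_lit 32) (lf (nat_lit 39))
(br (nat_lit 37) (lf (nat_lit 39))
(br (nat_lit 5) (br (nat_lit 20) (br (nat_lit 24) (br (nat_lit 26) (br (nat_lit 22) (lf (nat_lit 24))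
(br (nat_lit 28) (lf (nat_lit 24))
(br (nat_lit 7) (br (nat_lit 8) (br (nat_lit 9) (lf (nat_lit 41))
(br (nat_lit 11) (lf (nat_lit 33))
(br (nat_lit 12) (lf (nat_lit 11))
(br (nat_lit 16) (br (nat_lit 2) (lf (nat_lit 9))
(br (nat_lit 14) (lf (nat_lit 9))
(lf (nat_lit 15))))
(lf (nat_lit 11))))))
(lf (nat_lit 46)))
(lf (nat_lit 46)))))
(lf (nat_lit 65)))
(lf (nat_lit 65)))
(lf (nat_lit 56)))
(lf (nat_lit 56))))))
(br (nat_lit 3) (br (nat_lit 32) (lf (nat_lit 39))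
(br (nat_lit 37) (lf (nat_lit 39))
(br (nat_lit 5) (br (nat_lit 20) (br (nat_lit 24) (br (nat_lit 26) (br (nat_lit 22) (lf (nat_lit 24))
(br (nat_lit 12) (br (nat_lit 7) (lf (nat_lit 41))
(br (nat_lit 9) (lf (nat_lit 41))
(lf (nat_lit 11))))
(lf (nat_lit 74))))
(lf (nat_lit 65)))
(lf (nat_lit 65)))
(lf (nat_lit 56)))
(lf (nat_lit 56)))))
(br (nat_lit 12) (br (nat_lit 21) (br (nat_lit 22) (br (nat_lit 41) (br (nat_lit 1) (lf (nat_lit 12))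
(br (nat_lit 9) (lf (nat_lit 12))
(br (nat_lit 14) (br (nat_lit 16) (br (nat_lit 2) (lf (nat_lit 9))
(br (nat_lit 4) (br (nat_lit 5) (lf (nat_lit 42))
(br (nat_lit 7) (lf (nat_lit 8))
(br (nat_lit 8) (lf (nat_lit 9))
(br (nat_lit 11) (br (nat_lit 18) (lf (nat_lit 12))
(br (nat_lit 20) (br (nat_lit 24) (lf (nat_lit 22))
(lf (nat_lit 11)))
(lf (nat_lit 13))))
(lf (nat_lit 30))))))
(lf (nat_lit 13))))
(lf (nat_lit 11)))
(lf (nat_lit 40)))))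
(lf (nat_lit 74)))
(lf (nat_lit 74)))
(lf (nat_lit 74)))
(lf (nat_lit 74)))))
(br (nat_lit 21) (br (nat_lit 60) (br (nat_lit 4) (lf (nat_lit 51))
(br (nat_lit 8) (lf (nat_lit 34))
(br (nat_lit 18) (lf (nat_lit 51))
(br (nat_lit 3) (br (nat_lit 2) (lf (nat_lit 44))
(br (nat_lit 16) (br (nat_lit 20) (lf (nat_lit 34))
(br (nat_lit 1) (br (nat_lit 9) (br (nat_lit 12) (lf (nat_lit 12))
(lf (nat_lit 8)))
(lf (nat_lit 13)))
(lf (nat_lit 40))))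
(lf (nat_lit 13))))
(lf (nat_lit 43))))))
(lf (nat_lit 20)))
(br (nat_lit 1) (br (nat_lit 9) (br (nat_lit 12) (lf (nat_lit 12))
(br (nat_lit 4) (br (nat_lit 7) (br (nat_lit 14) (br (nat_lit 18) (lf (nat_lit 12))
(br (nat_lit 24) (lf (nat_lit 41))
(br (nat_lit 28) (lf (nat_lit 12))
(br (nat_lit 8) (br (nat_lit 2) (lf (nat_lit 9))
(br (nat_lit 16) (lf (nat_lit 9))
(lf (nat_lit 13))))
(lf (nat_lit 52))))))
(lf (nat_lit 8)))
(lf (nat_lit 8)))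
(lf (nat_lit 8))))
(br (nat_lit 12) (lf (nat_lit 11))
(br (nat_lit 16) (br (nat_lit 14) (br (nat_lit 2) (lf (nat_lit 9))
(br (nat_lit 4) (br (nat_lit 8) (lf (nat_lit 9))
(br (nat_lit 20) (br (nat_lit 22) (br (nat_lit 24) (br (nat_lit 7) (lf (nat_lit 22))
(br (nat_lit 11) (lf (nat_lit 22))
(br (nat_lit 26) (lf (nat_lit 24))
(br (nat_lit 28) (lf (nat_lit 24))
(lf (nat_lit 23))))))
(lf (nat_lit 11)))
(lf (nat_lit 11)))
(lf (nat_lit 13))))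
(lf (nat_lit 13))))
(lf (nat_lit 15)))
(lf (nat_lit 11)))))
(lf (nat_lit 40)))))
(lf (nat_lit 16))))

open Dt in
noncomputable def t28 : Dt :=
(br (nat_lit 45) (br (nat_lit 49) (lf (nat_lit 16))
(br (nat_lit 0) (br (nat_lit 39) (br (nat_lit 3) (lf (nat_lit 39))
(br (nat_lit 32) (lf (nat_lit 39))
(br (nat_lit 37) (lf (nat_lit 39))
(br (nat_lit 5) (br (nat_lit 20) (br (nat_lit 24) (br (nat_lit 7) (lf (nat_lit 33))
(br (nat_lit 11) (lf (nat_lit 33))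
(br (nat_lit 2) (br (nat_lit 12) (br (nat_lit 9) (lf (nat_lit 41))
(br (nat_lit 16) (br (nat_lit 8) (lf (nat_lit 9))
(br (nat_lit 14) (lf (nat_lit 9))
(br (nat_lit 1) (br (nat_lit 4) (lf (nat_lit 3))
(br (nat_lit 18) (lf (nat_lit 12))
(lf (nat_lit 43))))
(lf (nat_lit 15)))))
(lf (nat_lit 11))))
(lf (nat_lit 23)))
(lf (nat_lit 30)))))
(lf (nat_lit 65)))
(lf (nat_lit 56)))
(lf (nat_lit 56))))))
(br (nat_lit 3) (br (nat_lit 32) (lf (nat_lit 39))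
(br (nat_lit 37) (lf (nat_lit 39))
(br (nat_lit 5) (br (nat_lit 20) (br (nat_lit 24) (br (nat_lit 26) (br (nat_lit 22) (lf (nat_lit 24))
(br (nat_lit 9) (br (nat_lit 1) (lf (nat_lit 38))
(br (nat_lit 7) (lf (nat_lit 41))
(br (nat_lit 4) (br (nat_lit 12) (lf (nat_lit 41))
(lf (nat_lit 74)))
(lf (nat_lit 8)))))
(lf (nat_lit 47))))
(lf (nat_lit 65)))
(lf (nat_lit 65)))
(lf (nat_lit 56)))
(lf (nat_lit 56)))))
(br (nat_lit 12) (br (nat_lit 21) (br (nat_lit 22) (br (nat_lit 41) (br (nat_lit 1) (lf (nat_lit 12))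
(br (nat_lit 9) (lf (nat_lit 12))
(br (nat_lit 14) (br (nat_lit 16) (br (nat_lit 2) (lf (nat_lit 9))
(br (nat_lit 4) (br (nat_lit 7) (lf (nat_lit 8))
(br (nat_lit 8) (lf (nat_lit 9))
(br (nat_lit 11) (lf (nat_lit 22))
(lf (nat_lit 30)))))
(lf (nat_lit 13))))
(lf (nat_lit 11)))
(lf (nat_lit 40)))))
(lf (nat_lit 74)))
(lf (nat_lit 74)))
(lf (nat_lit 74)))
(lf (nat_lit 74)))))
(br (nat_lit 12) (br (nat_lit 9) (br (nat_lit 1) (lf (nat_lit 12))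
(br (nat_lit 7) (lf (nat_lit 41))
(br (nat_lit 14) (br (nat_lit 18) (lf (nat_lit 12))
(br (nat_lit 20) (br (nat_lit 21) (br (nat_lit 24) (lf (nat_lit 41))
(br (nat_lit 16) (br (nat_lit 2) (lf (nat_lit 9))
(br (nat_lit 8) (lf (nat_lit 9))
(br (nat_lit 11) (lf (nat_lit 22))
(br (nat_lit 3) (br (nat_lit 5) (br (nat_lit 22) (lf (nat_lit 74))
(lf (nat_lit 11)))
(lf (nat_lit 30)))
(lf (nat_lit 30))))))
(lf (nat_lit 11))))
(lf (nat_lit 40)))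
(lf (nat_lit 40))))
(lf (nat_lit 40)))))
(lf (nat_lit 11)))
(br (nat_lit 48) (br (nat_lit 4) (br (nat_lit 8) (lf (nat_lit 26))
(br (nat_lit 22) (lf (nat_lit 26))
(br (nat_lit 5) (br (nat_lit 9) (br (nat_lit 7) (br (nat_lit 14) (br (nat_lit 11) (lf (nat_lit 22))
(br (nat_lit 16) (lf (nat_lit 22))
(br (nat_lit 2) (br (nat_lit 3) (lf (nat_lit 48))
(br (nat_lit 20) (br (nat_lit 24) (lf (nat_lit 22))
(lf (nat_lit 6)))
(lf (nat_lit 13))))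
(lf (nat_lit 13)))))
(lf (nat_lit 8)))
(lf (nat_lit 8)))
(lf (nat_lit 11)))
(lf (nat_lit 47)))))
(br (nat_lit 5) (br (nat_lit 7) (br (nat_lit 9) (lf (nat_lit 8))
(br (nat_lit 14) (br (nat_lit 2) (br (nat_lit 8) (lf (nat_lit 9))
(br (nat_lit 11) (lf (nat_lit 22))
(br (nat_lit 16) (lf (nat_lit 9))
(lf (nat_lit 11)))))
(lf (nat_lit 13)))
(lf (nat_lit 8))))
(lf (nat_lit 8)))
(lf (nat_lit 42))))
(lf (nat_lit 21))))))
(br (nat_lit 49) (br (nat_lit 0) (br (nat_lit 39) (br (nat_lit 3) (lf (nat_lit 39))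
(br (nat_lit 32) (lf (nat_lit 39))
(br (nat_lit 37) (lf (nat_lit 39))
(br (nat_lit 5) (br (nat_lit 20) (br (nat_lit 24) (br (nat_lit 7) (lf (nat_lit 33))
(br (nat_lit 11) (lf (nat_lit 33))
(br (nat_lit 2) (br (nat_lit 12) (br (nat_lit 9) (lf (nat_lit 41))
(br (nat_lit 16) (br (nat_lit 4) (lf (nat_lit 42))
(br (nat_lit 8) (lf (nat_lit 9))
(br (nat_lit 14) (lf (nat_lit 9))
(br (nat_lit 1) (br (nat_lit 18) (lf (nat_lit 12))
(lf (nat_lit 43)))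
(lf (nat_lit 15))))))
(lf (nat_lit 11))))
(lf (nat_lit 23)))
(lf (nat_lit 30)))))
(lf (nat_lit 65)))
(lf (nat_lit 56)))
(lf (nat_lit 56))))))
(br (nat_lit 3) (br (nat_lit 32) (lf (nat_lit 39))
(br (nat_lit 37) (lf (nat_lit 39))
(br (nat_lit 5) (br (nat_lit 20) (br (nat_lit 24) (br (nat_lit 26) (br (nat_lit 22) (lf (nat_lit 24))
(br (nat_lit 12) (br (nat_lit 7) (lf (nat_lit 41))
(br (nat_lit 9) (lf (nat_lit 41))
(lf (nat_lit 11))))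
(lf (nat_lit 74))))
(lf (nat_lit 65)))
(lf (nat_lit 65)))
(lf (nat_lit 56)))
(lf (nat_lit 56)))))
(br (nat_lit 12) (br (nat_lit 21) (br (nat_lit 22) (br (nat_lit 41) (br (nat_lit 1) (lf (nat_lit 12))
(br (nat_lit 9) (lf (nat_lit 12))
(br (nat_lit 14) (br (nat_lit 16) (br (nat_lit 2) (lf (nat_lit 9))
(br (nat_lit 4) (br (nat_lit 5) (lf (nat_lit 42))
(br (nat_lit 7) (lf (nat_lit 8))
(br (nat_lit 8) (lf (nat_lit 9))
(br (nat_lit 11) (lf (nat_lit 22))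
(lf (nat_lit 30))))))
(lf (nat_lit 13))))
(lf (nat_lit 11)))
(lf (nat_lit 40)))))
(lf (nat_lit 74)))
(lf (nat_lit 74)))
(lf (nat_lit 74)))
(lf (nat_lit 74)))))
(br (nat_lit 21) (br (nat_lit 60) (br (nat_lit 4) (lf (nat_lit 51))
(br (nat_lit 8) (lf (nat_lit 34))
(br (nat_lit 18) (lf (nat_lit 51))
(br (nat_lit 3) (br (nat_lit 2) (lf (nat_lit 44))
(br (nat_lit 16) (br (nat_lit 20) (lf (nat_lit 34))
(br (nat_lit 1) (br (nat_lit 9) (br (nat_lit 12) (lf (nat_lit 12))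
(lf (nat_lit 8)))
(lf (nat_lit 13)))
(lf (nat_lit 40))))
(lf (nat_lit 13))))
(lf (nat_lit 43))))))
(lf (nat_lit 20)))
(br (nat_lit 1) (br (nat_lit 9) (br (nat_lit 12) (lf (nat_lit 12))
(br (nat_lit 4) (br (nat_lit 7) (br (nat_lit 14) (br (nat_lit 11) (lf (nat_lit 22))
(br (nat_lit 16) (lf (nat_lit 22))
(br (nat_lit 2) (br (nat_lit 8) (lf (nat_lit 9))
(br (nat_lit 18) (lf (nat_lit 12))
(br (nat_lit 20) (br (nat_lit 24) (lf (nat_lit 22))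
(lf (nat_lit 6)))
(lf (nat_lit 13)))))
(lf (nat_lit 13)))))
(lf (nat_lit 8)))
(lf (nat_lit 8)))
(lf (nat_lit 8))))
(br (nat_lit 12) (lf (nat_lit 11))
(br (nat_lit 16) (br (nat_lit 14) (br (nat_lit 2) (lf (nat_lit 9))
(br (nat_lit 4) (br (nat_lit 7) (lf (nat_lit 22))
(br (nat_lit 8) (lf (nat_lit 9))
(br (nat_lit 11) (lf (nat_lit 22))
(br (nat_lit 3) (br (nat_lit 5) (br (nat_lit 18) (lf (nat_lit 42))
(br (nat_lit 20) (br (nat_lit 22) (br (nat_lit 24) (lf (nat_lit 22))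
(lf (nat_lit 6)))
(lf (nat_lit 11)))
(lf (nat_lit 13))))
(lf (nat_lit 30)))
(lf (nat_lit 30))))))
(lf (nat_lit 13))))
(lf (nat_lit 15)))
(lf (nat_lit 11)))))
(lf (nat_lit 40)))))
(lf (nat_lit 16))))

open Dt in
noncomputable def t29 : Dt :=
(br (nat_lit 34) (br (nat_lit 70) (lf (nat_lit 70))
(br (nat_lit 35) (br (nat_lit 45) (lf (nat_lit 16))
(br (nat_lit 49) (lf (nat_lit 16))
(br (nat_lit 0) (br (nat_lit 39) (br (nat_lit 3) (lf (nat_lit 39))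
(br (nat_lit 32) (lf (nat_lit 39))
(br (nat_lit 37) (lf (nat_lit 39))
(br (nat_lit 5) (br (nat_lit 20) (br (nat_lit 43) (br (nat_lit 46) (br (nat_lit 57) (lf (nat_lit 39))
(br (nat_lit 4) (br (nat_lit 2) (lf (nat_lit 48))
(br (nat_lit 18) (lf (nat_lit 51))
(br (nat_lit 11) (br (nat_lit 1) (lf (nat_lit 5))
(br (nat_lit 12) (br (nat_lit 7) (lf (nat_lit 41))
(br (nat_lit 9) (lf (nat_lit 41))
(br (nat_lit 14) (lf (nat_lit 8))
(lf (nat_lit 3)))))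
(lf (nat_lit 42))))
(lf (nat_lit 58)))))
(lf (nat_lit 42))))
(lf (nat_lit 56)))
(lf (nat_lit 56)))
(lf (nat_lit 56)))
(lf (nat_lit 56))))))
(br (nat_lit 3) (br (nat_lit 32) (lf (nat_lit 39))
(br (nat_lit 37) (lf (nat_lit 39))
(br (nat_lit 5) (br (nat_lit 20) (br (nat_lit 43) (br (nat_lit 2) (lf (nat_lit 48))
(br (nat_lit 4) (lf (nat_lit 48))
(br (nat_lit 12) (br (nat_lit 16) (br (nat_lit 18) (br (nat_lit 1) (lf (nat_lit 12))
(br (nat_lit 9) (lf (nat_lit 12))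
(br (nat_lit 14) (lf (nat_lit 13))
(lf (nat_lit 15)))))
(lf (nat_lit 42)))
(lf (nat_lit 13)))
(lf (nat_lit 8)))))
(lf (nat_lit 56)))
(lf (nat_lit 56)))
(lf (nat_lit 56)))))
(br (nat_lit 11) (br (nat_lit 12) (br (nat_lit 18) (br (nat_lit 1) (lf (nat_lit 12))
(br (nat_lit 9) (lf (nat_lit 12))
(br (nat_lit 16) (br (nat_lit 14) (br (nat_lit 2) (lf (nat_lit 9))
(br (nat_lit 4) (br (nat_lit 5) (lf (nat_lit 42))
(br (nat_lit 7) (lf (nat_lit 8))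
(br (nat_lit 8) (lf (nat_lit 9))
(br (nat_lit 20) (br (nat_lit 21) (lf (nat_lit 51))
(lf (nat_lit 74)))
(lf (nat_lit 13))))))
(lf (nat_lit 13))))
(lf (nat_lit 15)))
(lf (nat_lit 11)))))
(lf (nat_lit 58)))
(lf (nat_lit 74)))
(lf (nat_lit 58)))))
(br (nat_lit 12) (br (nat_lit 9) (br (nat_lit 1) (lf (nat_lit 12))
(br (nat_lit 7) (lf (nat_lit 41))
(br (nat_lit 14) (br (nat_lit 18) (lf (nat_lit 12))
(br (nat_lit 20) (br (nat_lit 21) (br (nat_lit 24) (lf (nat_lit 41))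
(br (nat_lit 16) (br (nat_lit 2) (lf (nat_lit 9))
(br (nat_lit 8) (lf (nat_lit 9))
(br (nat_lit 22) (br (nat_lit 3) (lf (nat_lit 74))
(br (nat_lit 4) (br (nat_lit 11) (br (nat_lit 5) (lf (nat_lit 64))
(br (nat_lit 26) (lf (nat_lit 24))
(br (nat_lit 28) (lf (nat_lit 12))
(lf (nat_lit 46)))))
(lf (nat_lit 58)))
(lf (nat_lit 43))))
(lf (nat_lit 11)))))
(lf (nat_lit 11))))
(lf (nat_lit 40)))
(lf (nat_lit 40))))
(lf (nat_lit 40)))))
(lf (nat_lit 11)))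
(br (nat_lit 48) (br (nat_lit 4) (br (nat_lit 2) (lf (nat_lit 48))
(br (nat_lit 3) (lf (nat_lit 48))
(br (nat_lit 22) (lf (nat_lit 48))
(br (nat_lit 5) (br (nat_lit 9) (br (nat_lit 7) (br (nat_lit 14) (br (nat_lit 16) (br (nat_lit 8) (lf (nat_lit 9))
(br (nat_lit 11) (lf (nat_lit 22))
(br (nat_lit 18) (br (nat_lit 1) (lf (nat_lit 12))
(br (nat_lit 20) (br (nat_lit 21) (lf (nat_lit 51))
(lf (nat_lit 40)))
(lf (nat_lit 40))))
(lf (nat_lit 58)))))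
(lf (nat_lit 13)))
(lf (nat_lit 8)))
(lf (nat_lit 8)))
(lf (nat_lit 11)))
(lf (nat_lit 47))))))
(br (nat_lit 5) (br (nat_lit 7) (br (nat_lit 9) (lf (nat_lit 8))
(br (nat_lit 14) (br (nat_lit 2) (br (nat_lit 3) (lf (nat_lit 48))
(br (nat_lit 8) (lf (nat_lit 9))
(br (nat_lit 16) (lf (nat_lit 9))
(lf (nat_lit 11)))))
(lf (nat_lit 13)))
(lf (nat_lit 8))))
(lf (nat_lit 8)))
(lf (nat_lit 42))))
(lf (nat_lit 21)))))))
t27))
(br (nat_lit 70) (br (nat_lit 35) (br (nat_lit 45) (lf (nat_lit 16))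
(br (nat_lit 49) (lf (nat_lit 16))
(br (nat_lit 0) (br (nat_lit 39) (br (nat_lit 3) (lf (nat_lit 39))
(br (nat_lit 32) (lf (nat_lit 39))
(br (nat_lit 37) (lf (nat_lit 39))
(br (nat_lit 5) (br (nat_lit 20) (br (nat_lit 43) (br (nat_lit 46) (br (nat_lit 57) (lf (nat_lit 39))
(br (nat_lit 4) (br (nat_lit 2) (lf (nat_lit 48))
(br (nat_lit 11) (br (nat_lit 1) (lf (nat_lit 5))
(br (nat_lit 7) (lf (nat_lit 33))
(br (nat_lit 18) (lf (nat_lit 51))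
(br (nat_lit 12) (br (nat_lit 9) (lf (nat_lit 41))
(br (nat_lit 14) (lf (nat_lit 8))
(lf (nat_lit 3))))
(lf (nat_lit 42))))))
(lf (nat_lit 30))))
(lf (nat_lit 42))))
(lf (nat_lit 56)))
(lf (nat_lit 56)))
(lf (nat_lit 56)))
(lf (nat_lit 56))))))
(br (nat_lit 3) (br (nat_lit 32) (lf (nat_lit 39))
(br (nat_lit 37) (lf (nat_lit 39))
(br (nat_lit 5) (br (nat_lit 20) (br (nat_lit 43) (br (nat_lit 2) (lf (nat_lit 48))
(br (nat_lit 4) (lf (nat_lit 48))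
(br (nat_lit 12) (br (nat_lit 16) (br (nat_lit 18) (br (nat_lit 1) (lf (nat_lit 12))
(br (nat_lit 9) (lf (nat_lit 12))
(br (nat_lit 14) (lf (nat_lit 13))
(lf (nat_lit 15)))))
(lf (nat_lit 42)))
(lf (nat_lit 13)))
(lf (nat_lit 8)))))
(lf (nat_lit 56)))
(lf (nat_lit 56)))
(lf (nat_lit 56)))))
(br (nat_lit 11) (br (nat_lit 12) (br (nat_lit 18) (br (nat_lit 1) (lf (nat_lit 12))
(br (nat_lit 9) (lf (nat_lit 12))
(br (nat_lit 16) (br (nat_lit 7) (lf (nat_lit 22))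
(br (nat_lit 14) (lf (nat_lit 22))
(lf (nat_lit 15))))
(lf (nat_lit 11)))))
(lf (nat_lit 58)))
(lf (nat_lit 74)))
(lf (nat_lit 58)))))
(br (nat_lit 12) (br (nat_lit 9) (br (nat_lit 1) (lf (nat_lit 12))
(br (nat_lit 7) (lf (nat_lit 41))
(br (nat_lit 14) (br (nat_lit 18) (lf (nat_lit 12))
(br (nat_lit 20) (br (nat_lit 21) (br (nat_lit 24) (lf (nat_lit 41))
(br (nat_lit 16) (br (nat_lit 2) (lf (nat_lit 9))
(br (nat_lit 8) (lf (nat_lit 9))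
(br (nat_lit 11) (lf (nat_lit 22))
(br (nat_lit 3) (br (nat_lit 5) (br (nat_lit 22) (lf (nat_lit 74))
(lf (nat_lit 11)))
(lf (nat_lit 30)))
(lf (nat_lit 30))))))
(lf (nat_lit 11))))
(lf (nat_lit 40)))
(lf (nat_lit 40))))
(lf (nat_lit 40)))))
(lf (nat_lit 11)))
(br (nat_lit 48) (br (nat_lit 4) (br (nat_lit 2) (lf (nat_lit 48))
(br (nat_lit 3) (lf (nat_lit 48))
(br (nat_lit 11) (br (nat_lit 22) (lf (nat_lit 48))
(br (nat_lit 5) (br (nat_lit 1) (lf (nat_lit 5))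
(br (nat_lit 9) (br (nat_lit 7) (br (nat_lit 14) (lf (nat_lit 22))
(lf (nat_lit 8)))
(lf (nat_lit 8)))
(lf (nat_lit 11))))
(lf (nat_lit 47))))
(lf (nat_lit 30)))))
(br (nat_lit 5) (br (nat_lit 7) (br (nat_lit 9) (lf (nat_lit 8))
(br (nat_lit 14) (br (nat_lit 2) (br (nat_lit 3) (lf (nat_lit 48))
(br (nat_lit 8) (lf (nat_lit 9))
(br (nat_lit 11) (lf (nat_lit 22))
(br (nat_lit 16) (lf (nat_lit 9))
(lf (nat_lit 11))))))
(lf (nat_lit 13)))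
(lf (nat_lit 8))))
(lf (nat_lit 8)))
(lf (nat_lit 42))))
(lf (nat_lit 21)))))))
t28)
(lf (nat_lit 70))))

open Dt in
noncomputable def t30 : Dt :=
(br (nat_lit 11) (br (nat_lit 62) (br (nat_lit 18) (lf (nat_lit 58))
(br (nat_lit 28) (lf (nat_lit 58))
(br (nat_lit 29) (br (nat_lit 31) (br (nat_lit 7) (lf (nat_lit 33))
(br (nat_lit 8) (br (nat_lit 24) (lf (nat_lit 33))
(br (nat_lit 38) (lf (nat_lit 69))
(br (nat_lit 4) (br (nat_lit 44) (lf (nat_lit 2))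
(br (nat_lit 47) (lf (nat_lit 2))
(br (nat_lit 1) (br (nat_lit 5) (br (nat_lit 9) (br (nat_lit 12) (br (nat_lit 14) (lf (nat_lit 8))
(br (nat_lit 16) (lf (nat_lit 13))
(br (nat_lit 20) (br (nat_lit 2) (lf (nat_lit 13))
(br (nat_lit 21) (lf (nat_lit 40))
(br (nat_lit 22) (lf (nat_lit 47))
(br (nat_lit 26) (br (nat_lit 30) (lf (nat_lit 14))
(lf (nat_lit 30)))
(lf (nat_lit 60))))))
(lf (nat_lit 27)))))
(lf (nat_lit 12)))
(lf (nat_lit 12)))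
(lf (nat_lit 18)))
(lf (nat_lit 12)))))
(lf (nat_lit 43)))))
(lf (nat_lit 46))))
(lf (nat_lit 10)))
(lf (nat_lit 61)))))
(br (nat_lit 29) (br (nat_lit 26) (br (nat_lit 2) (lf (nat_lit 55))
(br (nat_lit 44) (br (nat_lit 31) (lf (nat_lit 2))
(br (nat_lit 28) (br (nat_lit 18) (lf (nat_lit 58))
(br (nat_lit 4) (br (nat_lit 38) (br (nat_lit 8) (lf (nat_lit 52))
(br (nat_lit 46) (br (nat_lit 47) (lf (nat_lit 2))
(br (nat_lit 20) (br (nat_lit 24) (br (nat_lit 7) (lf (nat_lit 33))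
(br (nat_lit 53) (br (nat_lit 55) (br (nat_lit 14) (lf (nat_lit 19))
(br (nat_lit 16) (lf (nat_lit 13))
(br (nat_lit 22) (lf (nat_lit 24))
(br (nat_lit 37) (br (nat_lit 5) (lf (nat_lit 56))
(br (nat_lit 21) (lf (nat_lit 53))
(br (nat_lit 12) (br (nat_lit 9) (lf (nat_lit 41))
(lf (nat_lit 8)))
(lf (nat_lit 74)))))
(lf (nat_lit 22))))))
(lf (nat_lit 46)))
(lf (nat_lit 7))))
(lf (nat_lit 27)))
(lf (nat_lit 27))))
(lf (nat_lit 28))))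
(lf (nat_lit 43)))
(lf (nat_lit 43))))
(lf (nat_lit 10))))
(lf (nat_lit 28))))
(lf (nat_lit 28)))
(br (nat_lit 31) (br (nat_lit 7) (lf (nat_lit 33))
(br (nat_lit 24) (lf (nat_lit 33))
(br (nat_lit 9) (br (nat_lit 12) (br (nat_lit 46) (br (nat_lit 54) (br (nat_lit 58) (lf (nat_lit 33))
(br (nat_lit 69) (lf (nat_lit 33))
(br (nat_lit 38) (br (nat_lit 64) (br (nat_lit 1) (lf (nat_lit 5))
(br (nat_lit 5) (lf (nat_lit 5))
(br (nat_lit 41) (lf (nat_lit 0))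
(br (nat_lit 65) (lf (nat_lit 5))
(br (nat_lit 8) (br (nat_lit 53) (br (nat_lit 14) (br (nat_lit 4) (lf (nat_lit 8))
(br (nat_lit 16) (br (nat_lit 2) (lf (nat_lit 9))
(br (nat_lit 18) (br (nat_lit 20) (lf (nat_lit 40))
(lf (nat_lit 13)))
(lf (nat_lit 43))))
(lf (nat_lit 13))))
(br (nat_lit 16) (br (nat_lit 2) (lf (nat_lit 13))
(br (nat_lit 4) (lf (nat_lit 13))
(br (nat_lit 18) (br (nat_lit 20) (lf (nat_lit 13))
(br (nat_lit 21) (br (nat_lit 22) (lf (nat_lit 74))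
(lf (nat_lit 48)))
(lf (nat_lit 40))))
(lf (nat_lit 43)))))
(br (nat_lit 2) (br (nat_lit 37) (br (nat_lit 56) (br (nat_lit 57) (br (nat_lit 32) (lf (nat_lit 39))
(br (nat_lit 66) (lf (nat_lit 31))
(br (nat_lit 4) (br (nat_lit 18) (lf (nat_lit 42))
(br (nat_lit 20) (lf (nat_lit 13))
(br (nat_lit 21) (br (nat_lit 22) (lf (nat_lit 74))
(br (nat_lit 26) (br (nat_lit 28) (br (nat_lit 30) (lf (nat_lit 23))
(br (nat_lit 43) (br (nat_lit 44) (lf (nat_lit 3))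
(br (nat_lit 47) (br (nat_lit 48) (lf (nat_lit 4))
(br (nat_lit 55) (lf (nat_lit 15))
(br (nat_lit 60) (br (nat_lit 61) (br (nat_lit 68) (lf (nat_lit 6))
sol)
(lf (nat_lit 1)))
(lf (nat_lit 0)))))
(lf (nat_lit 2))))
(lf (nat_lit 3))))
(lf (nat_lit 58)))
(lf (nat_lit 47))))
(lf (nat_lit 40)))))
(br (nat_lit 18) (br (nat_lit 20) (br (nat_lit 21) (lf (nat_lit 40))
(br (nat_lit 22) (br (nat_lit 26) (lf (nat_lit 47))
(br (nat_lit 28) (lf (nat_lit 58))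
(br (nat_lit 30) (br (nat_lit 43) (lf (nat_lit 3))
(br (nat_lit 44) (br (nat_lit 47) (lf (nat_lit 2))
(br (nat_lit 48) (br (nat_lit 55) (br (nat_lit 60) (lf (nat_lit 0))
(br (nat_lit 61) (lf (nat_lit 1))
(br (nat_lit 68) sol
(lf (nat_lit 6)))))
(lf (nat_lit 15)))
(lf (nat_lit 4))))
(lf (nat_lit 3))))
(lf (nat_lit 23)))))
(lf (nat_lit 74))))
(lf (nat_lit 13)))
(lf (nat_lit 42))))))
(lf (nat_lit 22)))
(lf (nat_lit 1)))
(lf (nat_lit 22)))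
(lf (nat_lit 9)))))
(lf (nat_lit 7)))
(br (nat_lit 22) (br (nat_lit 16) (lf (nat_lit 11))
(br (nat_lit 2) (br (nat_lit 14) (br (nat_lit 4) (lf (nat_lit 8))
(lf (nat_lit 13)))
(lf (nat_lit 9)))
(lf (nat_lit 9))))
(lf (nat_lit 68))))))))
(lf (nat_lit 69)))
(lf (nat_lit 69)))))
(lf (nat_lit 41)))
(lf (nat_lit 41)))
(lf (nat_lit 41)))
(lf (nat_lit 41)))))
(br (nat_lit 28) (br (nat_lit 18) (lf (nat_lit 58))
(br (nat_lit 2) (br (nat_lit 4) (br (nat_lit 5) (lf (nat_lit 30))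
(br (nat_lit 30) (lf (nat_lit 30))
(br (nat_lit 14) (br (nat_lit 12) (lf (nat_lit 8))
(br (nat_lit 38) (br (nat_lit 44) (lf (nat_lit 43))
(lf (nat_lit 2)))
(lf (nat_lit 43))))
(lf (nat_lit 1)))))
(lf (nat_lit 43)))
(lf (nat_lit 61))))
(lf (nat_lit 10))))))
(br (nat_lit 62) (br (nat_lit 31) (br (nat_lit 2) (br (nat_lit 5) (br (nat_lit 30) (br (nat_lit 47) (br (nat_lit 29) (lf (nat_lit 2))
(br (nat_lit 18) (br (nat_lit 28) (lf (nat_lit 58))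
(br (nat_lit 7) (br (nat_lit 8) (br (nat_lit 24) (lf (nat_lit 33))
(br (nat_lit 12) (lf (nat_lit 23))
(br (nat_lit 44) (lf (nat_lit 2))
(br (nat_lit 43) (br (nat_lit 9) (lf (nat_lit 11))
(br (nat_lit 1) (br (nat_lit 21) (lf (nat_lit 59))
(br (nat_lit 22) (br (nat_lit 16) (lf (nat_lit 11))
(br (nat_lit 4) (br (nat_lit 14) (lf (nat_lit 8))
(br (nat_lit 26) (lf (nat_lit 47))
(br (nat_lit 32) (lf (nat_lit 26))
(lf (nat_lit 6)))))
(lf (nat_lit 42))))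
(lf (nat_lit 74))))
(lf (nat_lit 12))))
(lf (nat_lit 17))))))
(lf (nat_lit 46)))
(lf (nat_lit 46))))
(lf (nat_lit 61))))
(lf (nat_lit 30)))
(lf (nat_lit 30)))
(lf (nat_lit 30)))
(lf (nat_lit 30)))
(br (nat_lit 29) (br (nat_lit 38) (lf (nat_lit 69))
(br (nat_lit 58) (lf (nat_lit 69))
(br (nat_lit 64) (lf (nat_lit 69))
(br (nat_lit 1) (br (nat_lit 5) (br (nat_lit 41) (br (nat_lit 65) (br (nat_lit 69) (lf (nat_lit 69))
(br (nat_lit 7) (br (nat_lit 24) (br (nat_lit 9) (lf (nat_lit 41))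
(br (nat_lit 12) (lf (nat_lit 8))
(br (nat_lit 46) (lf (nat_lit 41))
(br (nat_lit 54) (lf (nat_lit 41))
(br (nat_lit 8) (br (nat_lit 53) (br (nat_lit 14) (br (nat_lit 4) (lf (nat_lit 8))
(br (nat_lit 16) (br (nat_lit 2) (lf (nat_lit 9))
(br (nat_lit 18) (br (nat_lit 20) (lf (nat_lit 40))
(lf (nat_lit 13)))
(lf (nat_lit 43))))
(lf (nat_lit 13))))
(br (nat_lit 16) (br (nat_lit 2) (lf (nat_lit 13))
(br (nat_lit 4) (lf (nat_lit 13))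
(br (nat_lit 18) (br (nat_lit 20) (lf (nat_lit 13))
(br (nat_lit 21) (br (nat_lit 22) (lf (nat_lit 74))
(lf (nat_lit 48)))
(lf (nat_lit 40))))
(lf (nat_lit 43)))))
(br (nat_lit 2) (br (nat_lit 37) (br (nat_lit 56) (br (nat_lit 57) (br (nat_lit 32) (lf (nat_lit 39))
(br (nat_lit 66) (lf (nat_lit 31))
(br (nat_lit 4) (br (nat_lit 18) (lf (nat_lit 42))
(br (nat_lit 20) (lf (nat_lit 13))
(br (nat_lit 21) (br (nat_lit 22) (lf (nat_lit 74))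
(br (nat_lit 26) (br (nat_lit 28) (br (nat_lit 30) (lf (nat_lit 23))
(br (nat_lit 43) (br (nat_lit 44) (lf (nat_lit 3))
(br (nat_lit 47) (br (nat_lit 48) (lf (nat_lit 4))
(br (nat_lit 55) (lf (nat_lit 15))
(br (nat_lit 60) (br (nat_lit 61) (br (nat_lit 68) (lf (nat_lit 6))
sol)
(lf (nat_lit 1)))
(lf (nat_lit 0)))))
(lf (nat_lit 2))))
(lf (nat_lit 3))))
(lf (nat_lit 58)))
(lf (nat_lit 47))))
(lf (nat_lit 40)))))
(br (nat_lit 18) (br (nat_lit 20) (br (nat_lit 21) (lf (nat_lit 40))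
(br (nat_lit 22) (br (nat_lit 26) (lf (nat_lit 47))
(br (nat_lit 28) (lf (nat_lit 58))
(br (nat_lit 30) (br (nat_lit 43) (lf (nat_lit 3))
(br (nat_lit 44) (br (nat_lit 47) (lf (nat_lit 2))
(br (nat_lit 48) (br (nat_lit 55) (br (nat_lit 60) (lf (nat_lit 0))
(br (nat_lit 61) (lf (nat_lit 1))
(br (nat_lit 68) sol
(lf (nat_lit 6)))))
(lf (nat_lit 15)))
(lf (nat_lit 4))))
(lf (nat_lit 3))))
(lf (nat_lit 23)))))
(lf (nat_lit 74))))
(lf (nat_lit 13)))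
(lf (nat_lit 42))))))
(lf (nat_lit 22)))
(lf (nat_lit 1)))
(lf (nat_lit 22)))
(lf (nat_lit 9)))))
(lf (nat_lit 7)))
(br (nat_lit 22) (br (nat_lit 16) (lf (nat_lit 11))
(br (nat_lit 2) (br (nat_lit 14) (br (nat_lit 4) (lf (nat_lit 8))
(lf (nat_lit 13)))
(lf (nat_lit 9)))
(lf (nat_lit 9))))
(lf (nat_lit 68))))))))
(lf (nat_lit 33)))
(lf (nat_lit 33))))
(lf (nat_lit 4)))
(lf (nat_lit 5)))
(lf (nat_lit 5)))
(lf (nat_lit 5))))))
(br (nat_lit 2) (br (nat_lit 18) (br (nat_lit 28) (lf (nat_lit 58))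
(br (nat_lit 7) (br (nat_lit 8) (br (nat_lit 44) (br (nat_lit 26) (lf (nat_lit 28))
(br (nat_lit 43) (lf (nat_lit 17))
(br (nat_lit 46) (lf (nat_lit 28))
(br (nat_lit 47) (lf (nat_lit 46))
(lf (nat_lit 2))))))
(lf (nat_lit 2)))
(lf (nat_lit 46)))
(lf (nat_lit 46))))
(lf (nat_lit 61)))
(lf (nat_lit 61)))))
(br (nat_lit 18) (br (nat_lit 28) (br (nat_lit 44) (br (nat_lit 47) (br (nat_lit 1) (lf (nat_lit 12))
(br (nat_lit 5) (lf (nat_lit 18))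
(br (nat_lit 2) (br (nat_lit 9) (lf (nat_lit 12))
(br (nat_lit 12) (lf (nat_lit 12))
(br (nat_lit 29) (lf (nat_lit 2))
(br (nat_lit 7) (br (nat_lit 24) (br (nat_lit 8) (lf (nat_lit 52))
(br (nat_lit 30) (br (nat_lit 31) (lf (nat_lit 2))
(br (nat_lit 38) (br (nat_lit 41) (lf (nat_lit 0))
(lf (nat_lit 5)))
(lf (nat_lit 5))))
(lf (nat_lit 30))))
(lf (nat_lit 41)))
(lf (nat_lit 41))))))
(lf (nat_lit 30)))))
(lf (nat_lit 27)))
(lf (nat_lit 17)))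
(lf (nat_lit 58)))
(lf (nat_lit 58)))))

open Dt in
noncomputable def t31 : Dt :=
(br (nat_lit 3) (br (nat_lit 18) (br (nat_lit 11) (lf (nat_lit 58))
(br (nat_lit 28) (lf (nat_lit 58))
(br (nat_lit 59) (br (nat_lit 32) (lf (nat_lit 39))
(br (nat_lit 37) (lf (nat_lit 39))
(br (nat_lit 57) (lf (nat_lit 39))
(br (nat_lit 62) (lf (nat_lit 58))
(br (nat_lit 29) (lf (nat_lit 61))
(br (nat_lit 14) (br (nat_lit 16) (br (nat_lit 38) (br (nat_lit 4) (lf (nat_lit 43))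
(br (nat_lit 5) (br (nat_lit 41) (lf (nat_lit 0))
(br (nat_lit 1) (lf (nat_lit 40))
(br (nat_lit 44) (br (nat_lit 31) (lf (nat_lit 2))
(br (nat_lit 7) (br (nat_lit 12) (lf (nat_lit 8))
(br (nat_lit 9) (lf (nat_lit 11))
(lf (nat_lit 12))))
(lf (nat_lit 22))))
(lf (nat_lit 43)))))
(lf (nat_lit 64))))
(lf (nat_lit 32)))
(lf (nat_lit 32)))
(lf (nat_lit 32))))))))
(lf (nat_lit 58)))))
(br (nat_lit 21) (br (nat_lit 12) (lf (nat_lit 74))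
(br (nat_lit 22) (lf (nat_lit 74))
(br (nat_lit 41) (lf (nat_lit 74))
(br (nat_lit 1) (lf (nat_lit 40))
(br (nat_lit 9) (br (nat_lit 16) (lf (nat_lit 11))
(br (nat_lit 4) (br (nat_lit 24) (lf (nat_lit 11))
(br (nat_lit 28) (br (nat_lit 11) (lf (nat_lit 58))
(br (nat_lit 43) (lf (nat_lit 11))
(br (nat_lit 14) (br (nat_lit 2) (br (nat_lit 20) (lf (nat_lit 40))
(lf (nat_lit 13)))
(lf (nat_lit 13)))
(lf (nat_lit 15)))))
(lf (nat_lit 12))))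
(lf (nat_lit 42))))
(lf (nat_lit 12)))))))
(br (nat_lit 22) (br (nat_lit 12) (lf (nat_lit 74))
(br (nat_lit 9) (lf (nat_lit 11))
(br (nat_lit 41) (lf (nat_lit 74))
(br (nat_lit 1) (br (nat_lit 14) (lf (nat_lit 40))
(br (nat_lit 20) (lf (nat_lit 40))
(br (nat_lit 16) (br (nat_lit 24) (lf (nat_lit 11))
(br (nat_lit 28) (br (nat_lit 11) (lf (nat_lit 58))
(br (nat_lit 43) (lf (nat_lit 11))
(lf (nat_lit 15))))
(lf (nat_lit 12))))
(lf (nat_lit 13)))))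
(lf (nat_lit 12))))))
(br (nat_lit 60) (br (nat_lit 41) (lf (nat_lit 20))
(br (nat_lit 12) (br (nat_lit 48) (lf (nat_lit 21))
(br (nat_lit 54) (lf (nat_lit 20))
(br (nat_lit 58) (lf (nat_lit 20))
(br (nat_lit 68) (lf (nat_lit 20))
(br (nat_lit 69) (br (nat_lit 8) (br (nat_lit 46) (br (nat_lit 61) (lf (nat_lit 21))
(br (nat_lit 29) (br (nat_lit 38) (lf (nat_lit 69))
(br (nat_lit 26) (br (nat_lit 56) (br (nat_lit 44) (lf (nat_lit 28))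
(br (nat_lit 4) (br (nat_lit 7) (lf (nat_lit 8))
(br (nat_lit 9) (br (nat_lit 1) (lf (nat_lit 38))
(br (nat_lit 5) (lf (nat_lit 47))
(br (nat_lit 11) (br (nat_lit 2) (lf (nat_lit 55))
(br (nat_lit 14) (lf (nat_lit 8))
(br (nat_lit 16) (lf (nat_lit 13))
(lf (nat_lit 55)))))
(lf (nat_lit 5)))))
(lf (nat_lit 8))))
(lf (nat_lit 51))))
(lf (nat_lit 25)))
(lf (nat_lit 63))))
(lf (nat_lit 61))))
(lf (nat_lit 68)))
(lf (nat_lit 68)))
(lf (nat_lit 57)))))))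
(lf (nat_lit 74))))
(br (nat_lit 59) (br (nat_lit 32) (lf (nat_lit 39))
(br (nat_lit 37) (lf (nat_lit 39))
(br (nat_lit 57) (lf (nat_lit 39))
(br (nat_lit 66) (lf (nat_lit 39))
(br (nat_lit 8) (br (nat_lit 20) (br (nat_lit 44) (lf (nat_lit 17))
(br (nat_lit 4) (br (nat_lit 30) (br (nat_lit 43) (br (nat_lit 2) (lf (nat_lit 48))
(br (nat_lit 24) (br (nat_lit 9) (lf (nat_lit 11))
(br (nat_lit 12) (lf (nat_lit 8))
(br (nat_lit 1) (br (nat_lit 5) (br (nat_lit 7) (br (nat_lit 11) (lf (nat_lit 30))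
(br (nat_lit 14) (lf (nat_lit 8))
(lf (nat_lit 3))))
(lf (nat_lit 23)))
(lf (nat_lit 42)))
(lf (nat_lit 12)))))
(lf (nat_lit 29))))
(lf (nat_lit 3)))
(lf (nat_lit 51)))
(lf (nat_lit 51))))
(lf (nat_lit 34)))
(lf (nat_lit 34)))))))
(br (nat_lit 11) (lf (nat_lit 58))
(br (nat_lit 28) (lf (nat_lit 58))
(br (nat_lit 62) (lf (nat_lit 58))
(br (nat_lit 65) (br (nat_lit 5) (br (nat_lit 48) (lf (nat_lit 21))
(br (nat_lit 1) (br (nat_lit 9) (br (nat_lit 26) (lf (nat_lit 47))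
(br (nat_lit 2) (br (nat_lit 20) (br (nat_lit 14) (lf (nat_lit 40))
(br (nat_lit 4) (lf (nat_lit 13))
(br (nat_lit 7) (br (nat_lit 12) (br (nat_lit 16) (lf (nat_lit 13))
(br (nat_lit 30) (br (nat_lit 24) (br (nat_lit 29) (lf (nat_lit 41))
(br (nat_lit 31) (lf (nat_lit 33))
(lf (nat_lit 2))))
(lf (nat_lit 23)))
(lf (nat_lit 51))))
(lf (nat_lit 8)))
(lf (nat_lit 8)))))
(lf (nat_lit 24)))
(lf (nat_lit 60))))
(lf (nat_lit 38)))
(lf (nat_lit 38))))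
(lf (nat_lit 64)))
(br (nat_lit 31) (br (nat_lit 58) (br (nat_lit 7) (lf (nat_lit 33))
(br (nat_lit 24) (lf (nat_lit 33))
(br (nat_lit 30) (br (nat_lit 47) (br (nat_lit 8) (br (nat_lit 53) (br (nat_lit 20) (lf (nat_lit 27))
(br (nat_lit 2) (br (nat_lit 5) (lf (nat_lit 30))
(br (nat_lit 4) (br (nat_lit 14) (lf (nat_lit 9))
(br (nat_lit 1) (br (nat_lit 16) (lf (nat_lit 9))
(lf (nat_lit 22)))
(lf (nat_lit 40))))
(lf (nat_lit 64))))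
(lf (nat_lit 44))))
(lf (nat_lit 7)))
(lf (nat_lit 46)))
(lf (nat_lit 27)))
(lf (nat_lit 67)))))
(lf (nat_lit 68)))
(lf (nat_lit 10))))))))))))
(br (nat_lit 59) (br (nat_lit 29) (lf (nat_lit 2))
(br (nat_lit 31) (lf (nat_lit 2))
(br (nat_lit 44) (lf (nat_lit 2))
(br (nat_lit 47) (lf (nat_lit 2))
(br (nat_lit 11) (br (nat_lit 7) (br (nat_lit 24) (lf (nat_lit 33))
(br (nat_lit 8) (br (nat_lit 9) (br (nat_lit 1) (lf (nat_lit 38))
(br (nat_lit 28) (lf (nat_lit 46))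
(br (nat_lit 12) (br (nat_lit 4) (lf (nat_lit 8))
(br (nat_lit 14) (lf (nat_lit 8))
(br (nat_lit 18) (br (nat_lit 30) (lf (nat_lit 23))
(br (nat_lit 32) (br (nat_lit 37) (lf (nat_lit 39))
(br (nat_lit 16) (br (nat_lit 2) (lf (nat_lit 13))
(br (nat_lit 5) (br (nat_lit 20) (lf (nat_lit 13))
(lf (nat_lit 54)))
(lf (nat_lit 30))))
(lf (nat_lit 22))))
(lf (nat_lit 6))))
(lf (nat_lit 12)))))
(lf (nat_lit 12)))))
(lf (nat_lit 6)))
(lf (nat_lit 6))))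
(br (nat_lit 28) (br (nat_lit 18) (br (nat_lit 62) (lf (nat_lit 58))
(br (nat_lit 8) (br (nat_lit 26) (br (nat_lit 38) (lf (nat_lit 63))
(br (nat_lit 43) (br (nat_lit 46) (br (nat_lit 53) (br (nat_lit 4) (lf (nat_lit 43))
(br (nat_lit 55) (lf (nat_lit 46))
(br (nat_lit 56) (br (nat_lit 64) (br (nat_lit 1) (lf (nat_lit 37))
(br (nat_lit 32) (lf (nat_lit 37))
(br (nat_lit 61) (lf (nat_lit 37))
(br (nat_lit 48) (br (nat_lit 2) (lf (nat_lit 48))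
(br (nat_lit 9) (lf (nat_lit 38))
(br (nat_lit 12) (lf (nat_lit 8))
(lf (nat_lit 12)))))
(lf (nat_lit 25))))))
(lf (nat_lit 17)))
(lf (nat_lit 28)))))
(lf (nat_lit 7)))
(lf (nat_lit 28)))
(lf (nat_lit 17))))
(lf (nat_lit 28)))
(lf (nat_lit 17))))
(br (nat_lit 4) (br (nat_lit 38) (br (nat_lit 53) (br (nat_lit 62) (br (nat_lit 2) (br (nat_lit 5) (lf (nat_lit 30))
(br (nat_lit 26) (lf (nat_lit 60))
(br (nat_lit 30) (lf (nat_lit 30))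
(br (nat_lit 46) (br (nat_lit 54) (br (nat_lit 56) (lf (nat_lit 28))
(lf (nat_lit 1)))
(lf (nat_lit 18)))
(lf (nat_lit 18))))))
(lf (nat_lit 61)))
(lf (nat_lit 58)))
(lf (nat_lit 7)))
(lf (nat_lit 43)))
(lf (nat_lit 43))))
(lf (nat_lit 46))))
(br (nat_lit 2) (br (nat_lit 5) (br (nat_lit 18) (br (nat_lit 28) (br (nat_lit 20) (br (nat_lit 24) (br (nat_lit 30) (br (nat_lit 53) (br (nat_lit 4) (lf (nat_lit 43))
(br (nat_lit 7) (lf (nat_lit 23))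
(br (nat_lit 38) (lf (nat_lit 43))
(br (nat_lit 8) (br (nat_lit 9) (lf (nat_lit 6))
(br (nat_lit 32) (lf (nat_lit 6))
(br (nat_lit 55) (lf (nat_lit 46))
(br (nat_lit 58) (lf (nat_lit 52))
(br (nat_lit 62) (br (nat_lit 65) (br (nat_lit 46) (lf (nat_lit 18))
(br (nat_lit 12) (br (nat_lit 14) (lf (nat_lit 8))
(lf (nat_lit 19)))
(lf (nat_lit 41))))
(lf (nat_lit 4)))
(lf (nat_lit 58)))))))
(lf (nat_lit 52))))))
(lf (nat_lit 27)))
(lf (nat_lit 30)))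
(lf (nat_lit 27)))
(lf (nat_lit 27)))
(lf (nat_lit 58)))
(lf (nat_lit 58)))
(lf (nat_lit 30)))
(lf (nat_lit 30))))))))
t30))

open Dt in
noncomputable def t32 : Dt :=
(br (nat_lit 9) (br (nat_lit 59) (lf (nat_lit 38))
(br (nat_lit 60) (lf (nat_lit 38))
(br (nat_lit 58) (br (nat_lit 22) (lf (nat_lit 47))
(br (nat_lit 3) (br (nat_lit 41) (br (nat_lit 43) (br (nat_lit 16) (lf (nat_lit 11))
(br (nat_lit 14) (lf (nat_lit 15))
(br (nat_lit 4) (br (nat_lit 2) (lf (nat_lit 13))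
(br (nat_lit 7) (br (nat_lit 20) (lf (nat_lit 13))
(lf (nat_lit 40)))
(lf (nat_lit 8))))
(lf (nat_lit 8)))))
(br (nat_lit 2) (br (nat_lit 4) (br (nat_lit 5) (lf (nat_lit 42))
(br (nat_lit 14) (br (nat_lit 7) (lf (nat_lit 8))
(br (nat_lit 16) (lf (nat_lit 13))
(br (nat_lit 18) (lf (nat_lit 42))
(br (nat_lit 20) (lf (nat_lit 13))
(br (nat_lit 24) (br (nat_lit 8) (lf (nat_lit 6))
(br (nat_lit 26) (br (nat_lit 30) (lf (nat_lit 14))
(br (nat_lit 28) (br (nat_lit 11) (lf (nat_lit 58))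
(br (nat_lit 31) (lf (nat_lit 30))
(br (nat_lit 29) (br (nat_lit 32) (lf (nat_lit 6))
(lf (nat_lit 26)))
(lf (nat_lit 2)))))
(lf (nat_lit 23))))
(lf (nat_lit 47))))
(lf (nat_lit 11)))))))
(lf (nat_lit 13))))
(lf (nat_lit 48)))
(lf (nat_lit 48))))
(lf (nat_lit 74)))
(lf (nat_lit 74))))
(br (nat_lit 41) (br (nat_lit 54) (br (nat_lit 68) (br (nat_lit 26) (lf (nat_lit 14))
(br (nat_lit 22) (br (nat_lit 3) (lf (nat_lit 74))
(br (nat_lit 5) (lf (nat_lit 47))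
(br (nat_lit 16) (lf (nat_lit 11))
(br (nat_lit 24) (lf (nat_lit 11))
(br (nat_lit 30) (lf (nat_lit 14))
(br (nat_lit 11) (br (nat_lit 32) (br (nat_lit 43) (lf (nat_lit 11))
(br (nat_lit 2) (br (nat_lit 4) (br (nat_lit 14) (br (nat_lit 7) (lf (nat_lit 8))
(br (nat_lit 8) (lf (nat_lit 6))
(br (nat_lit 18) (lf (nat_lit 42))
(br (nat_lit 20) (lf (nat_lit 13))
(br (nat_lit 28) (br (nat_lit 29) (lf (nat_lit 55))
(br (nat_lit 31) (lf (nat_lit 29))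
(lf (nat_lit 33))))
(lf (nat_lit 46)))))))
(lf (nat_lit 13)))
(lf (nat_lit 48)))
(lf (nat_lit 48))))
(lf (nat_lit 65)))
(lf (nat_lit 30))))))))
(lf (nat_lit 47))))
(lf (nat_lit 20)))
(lf (nat_lit 20)))
(lf (nat_lit 20))))))
(br (nat_lit 22) (br (nat_lit 43) (br (nat_lit 14) (br (nat_lit 4) (lf (nat_lit 8))
(br (nat_lit 7) (lf (nat_lit 8))
(br (nat_lit 16) (br (nat_lit 24) (lf (nat_lit 11))
(br (nat_lit 37) (lf (nat_lit 3))
(br (nat_lit 44) (lf (nat_lit 3))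
(br (nat_lit 55) (lf (nat_lit 15))
(br (nat_lit 56) (lf (nat_lit 15))
(br (nat_lit 65) (lf (nat_lit 3))
(br (nat_lit 57) (br (nat_lit 61) (br (nat_lit 69) (br (nat_lit 5) (lf (nat_lit 64))
(br (nat_lit 11) (br (nat_lit 2) (lf (nat_lit 55))
(br (nat_lit 3) (br (nat_lit 18) (br (nat_lit 20) (br (nat_lit 28) (lf (nat_lit 58))
(br (nat_lit 8) (br (nat_lit 29) (lf (nat_lit 43))
(br (nat_lit 31) (lf (nat_lit 22))
(lf (nat_lit 10))))
(lf (nat_lit 46))))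
(lf (nat_lit 13)))
(lf (nat_lit 42)))
(lf (nat_lit 48))))
(lf (nat_lit 64))))
(lf (nat_lit 21)))
(lf (nat_lit 21)))
(lf (nat_lit 36)))))))))
(lf (nat_lit 13)))))
(br (nat_lit 16) (br (nat_lit 24) (lf (nat_lit 11))
(br (nat_lit 55) (br (nat_lit 41) (lf (nat_lit 0))
(br (nat_lit 3) (br (nat_lit 56) (br (nat_lit 2) (lf (nat_lit 44))
(br (nat_lit 4) (lf (nat_lit 48))
(br (nat_lit 7) (br (nat_lit 8) (br (nat_lit 20) (lf (nat_lit 44))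
(lf (nat_lit 13)))
(lf (nat_lit 6)))
(lf (nat_lit 8)))))
(lf (nat_lit 15)))
(lf (nat_lit 74))))
(lf (nat_lit 15))))
(br (nat_lit 24) (br (nat_lit 41) (br (nat_lit 3) (lf (nat_lit 74))
(br (nat_lit 20) (br (nat_lit 64) (br (nat_lit 5) (br (nat_lit 26) (lf (nat_lit 47))
(br (nat_lit 37) (lf (nat_lit 56))
(br (nat_lit 58) (lf (nat_lit 47))
(br (nat_lit 65) (br (nat_lit 11) (lf (nat_lit 5))
(br (nat_lit 2) (br (nat_lit 4) (lf (nat_lit 13))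
(br (nat_lit 7) (br (nat_lit 18) (br (nat_lit 28) (br (nat_lit 30) (lf (nat_lit 23))
(br (nat_lit 31) (lf (nat_lit 5))
(lf (nat_lit 22))))
(lf (nat_lit 58)))
(lf (nat_lit 42)))
(lf (nat_lit 8))))
(lf (nat_lit 55))))
(lf (nat_lit 4))))))
(br (nat_lit 4) (br (nat_lit 2) (lf (nat_lit 13))
(br (nat_lit 7) (lf (nat_lit 8))
(br (nat_lit 11) (br (nat_lit 47) (lf (nat_lit 27))
(br (nat_lit 30) (br (nat_lit 18) (lf (nat_lit 51))
(br (nat_lit 28) (br (nat_lit 31) (lf (nat_lit 30))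
(br (nat_lit 32) (lf (nat_lit 65))
(br (nat_lit 37) (br (nat_lit 26) (lf (nat_lit 65))
(br (nat_lit 29) (br (nat_lit 38) (br (nat_lit 8) (lf (nat_lit 52))
(br (nat_lit 44) (lf (nat_lit 17))
(lf (nat_lit 12))))
(lf (nat_lit 60)))
(lf (nat_lit 55))))
(lf (nat_lit 22)))))
(lf (nat_lit 12))))
(lf (nat_lit 30))))
(lf (nat_lit 30)))))
(lf (nat_lit 42))))
(lf (nat_lit 40)))
(lf (nat_lit 40))))
(br (nat_lit 2) (br (nat_lit 3) (br (nat_lit 4) (lf (nat_lit 48))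
(lf (nat_lit 13)))
(lf (nat_lit 74)))
(lf (nat_lit 13))))
(lf (nat_lit 11)))))
(br (nat_lit 16) (br (nat_lit 4) (lf (nat_lit 42))
(br (nat_lit 14) (br (nat_lit 7) (lf (nat_lit 8))
(br (nat_lit 24) (br (nat_lit 3) (br (nat_lit 41) (lf (nat_lit 74))
(br (nat_lit 2) (br (nat_lit 20) (lf (nat_lit 40))
(lf (nat_lit 13)))
(lf (nat_lit 13))))
(br (nat_lit 2) (br (nat_lit 41) (br (nat_lit 20) (lf (nat_lit 13))
(br (nat_lit 38) (lf (nat_lit 0))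
(br (nat_lit 18) (br (nat_lit 5) (lf (nat_lit 42))
(br (nat_lit 37) (br (nat_lit 11) (lf (nat_lit 22))
(br (nat_lit 28) (br (nat_lit 30) (br (nat_lit 31) (lf (nat_lit 22))
(lf (nat_lit 5)))
(lf (nat_lit 30)))
(lf (nat_lit 58))))
(lf (nat_lit 56))))
(lf (nat_lit 43)))))
(lf (nat_lit 74)))
(lf (nat_lit 48))))
(lf (nat_lit 11))))
(lf (nat_lit 15))))
(lf (nat_lit 11))))
(br (nat_lit 3) (br (nat_lit 5) (br (nat_lit 16) (br (nat_lit 4) (lf (nat_lit 42))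
(br (nat_lit 24) (br (nat_lit 26) (br (nat_lit 41) (br (nat_lit 38) (lf (nat_lit 0))
(br (nat_lit 43) (br (nat_lit 55) (lf (nat_lit 0))
(br (nat_lit 14) (br (nat_lit 7) (lf (nat_lit 8))
(br (nat_lit 37) (lf (nat_lit 3))
(br (nat_lit 44) (lf (nat_lit 3))
(br (nat_lit 56) (lf (nat_lit 15))
(br (nat_lit 2) (lf (nat_lit 55))
(lf (nat_lit 48)))))))
(lf (nat_lit 15))))
(lf (nat_lit 11))))
(lf (nat_lit 74)))
(lf (nat_lit 47)))
(lf (nat_lit 11))))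
(lf (nat_lit 11)))
(lf (nat_lit 47)))
(lf (nat_lit 74)))))

open Dt in
noncomputable def t33 : Dt :=
(br (nat_lit 1) (br (nat_lit 9) (lf (nat_lit 38))
(br (nat_lit 48) (lf (nat_lit 38))
(br (nat_lit 59) (lf (nat_lit 38))
(br (nat_lit 60) (lf (nat_lit 38))
(br (nat_lit 41) (br (nat_lit 14) (br (nat_lit 20) (lf (nat_lit 40))
(br (nat_lit 16) (br (nat_lit 21) (lf (nat_lit 40))
(br (nat_lit 2) (br (nat_lit 3) (br (nat_lit 4) (lf (nat_lit 13))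
(br (nat_lit 12) (br (nat_lit 7) (lf (nat_lit 8))
(br (nat_lit 22) (br (nat_lit 43) (lf (nat_lit 15))
(br (nat_lit 18) (br (nat_lit 5) (lf (nat_lit 42))
(br (nat_lit 11) (lf (nat_lit 58))
(br (nat_lit 24) (br (nat_lit 28) (lf (nat_lit 12))
(br (nat_lit 30) (br (nat_lit 26) (lf (nat_lit 14))
(br (nat_lit 37) (br (nat_lit 31) (lf (nat_lit 22))
(br (nat_lit 8) (br (nat_lit 29) (br (nat_lit 32) (lf (nat_lit 6))
(br (nat_lit 38) (lf (nat_lit 32))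
(br (nat_lit 44) (lf (nat_lit 12))
(lf (nat_lit 2)))))
(lf (nat_lit 2)))
(lf (nat_lit 46))))
(lf (nat_lit 56))))
(lf (nat_lit 23))))
(lf (nat_lit 11)))))
(lf (nat_lit 51))))
(lf (nat_lit 74))))
(lf (nat_lit 74))))
(lf (nat_lit 74)))
(lf (nat_lit 44))))
(lf (nat_lit 13))))
(br (nat_lit 12) (br (nat_lit 16) (br (nat_lit 2) (lf (nat_lit 13))
(br (nat_lit 4) (lf (nat_lit 13))
(br (nat_lit 3) (br (nat_lit 7) (br (nat_lit 20) (lf (nat_lit 13))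
(br (nat_lit 21) (br (nat_lit 22) (lf (nat_lit 74))
(lf (nat_lit 48)))
(lf (nat_lit 44))))
(lf (nat_lit 8)))
(lf (nat_lit 48)))))
(br (nat_lit 22) (br (nat_lit 24) (br (nat_lit 38) (br (nat_lit 43) (br (nat_lit 55) (lf (nat_lit 15))
(lf (nat_lit 0)))
(lf (nat_lit 11)))
(lf (nat_lit 0)))
(lf (nat_lit 11)))
(lf (nat_lit 11))))
(lf (nat_lit 8))))
(lf (nat_lit 0)))))))
(br (nat_lit 21) (br (nat_lit 12) (br (nat_lit 48) (br (nat_lit 9) (lf (nat_lit 38))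
(br (nat_lit 4) (lf (nat_lit 8))
(br (nat_lit 7) (lf (nat_lit 8))
(br (nat_lit 14) (lf (nat_lit 8))
(br (nat_lit 22) (br (nat_lit 59) (lf (nat_lit 38))
(br (nat_lit 60) (lf (nat_lit 38))
(br (nat_lit 61) (lf (nat_lit 21))
(br (nat_lit 65) (lf (nat_lit 21))
(br (nat_lit 43) (br (nat_lit 69) (lf (nat_lit 21))
(br (nat_lit 2) (br (nat_lit 3) (lf (nat_lit 48))
(br (nat_lit 26) (lf (nat_lit 60))
(br (nat_lit 5) (br (nat_lit 11) (lf (nat_lit 64))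
(br (nat_lit 18) (br (nat_lit 24) (br (nat_lit 16) (lf (nat_lit 11))
(br (nat_lit 20) (br (nat_lit 28) (br (nat_lit 30) (br (nat_lit 31) (br (nat_lit 37) (lf (nat_lit 56))
(lf (nat_lit 22)))
(lf (nat_lit 22)))
(lf (nat_lit 14)))
(lf (nat_lit 58)))
(lf (nat_lit 13))))
(lf (nat_lit 33)))
(lf (nat_lit 58))))
(lf (nat_lit 47)))))
(br (nat_lit 16) (br (nat_lit 24) (lf (nat_lit 11))
(br (nat_lit 11) (br (nat_lit 5) (lf (nat_lit 64))
(br (nat_lit 18) (br (nat_lit 3) (lf (nat_lit 58))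
(br (nat_lit 20) (br (nat_lit 26) (br (nat_lit 28) (lf (nat_lit 24))
(br (nat_lit 8) (br (nat_lit 29) (br (nat_lit 31) (br (nat_lit 30) (br (nat_lit 32) (lf (nat_lit 26))
(br (nat_lit 37) (br (nat_lit 38) (lf (nat_lit 60))
(br (nat_lit 41) (lf (nat_lit 13))
(lf (nat_lit 74))))
(lf (nat_lit 39))))
(lf (nat_lit 30)))
(lf (nat_lit 10)))
(lf (nat_lit 61)))
(lf (nat_lit 46))))
(lf (nat_lit 47)))
(lf (nat_lit 44))))
(lf (nat_lit 42))))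
(lf (nat_lit 33))))
(lf (nat_lit 13)))))
(lf (nat_lit 3)))))))
(lf (nat_lit 21)))))))
t32)
(br (nat_lit 3) (br (nat_lit 22) (br (nat_lit 9) (lf (nat_lit 11))
(br (nat_lit 41) (br (nat_lit 55) (br (nat_lit 16) (lf (nat_lit 0))
(br (nat_lit 20) (br (nat_lit 2) (lf (nat_lit 44))
(br (nat_lit 4) (br (nat_lit 14) (lf (nat_lit 13))
(br (nat_lit 7) (br (nat_lit 28) (lf (nat_lit 46))
(br (nat_lit 18) (br (nat_lit 29) (lf (nat_lit 43))
(br (nat_lit 11) (br (nat_lit 5) (lf (nat_lit 64))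
(br (nat_lit 26) (br (nat_lit 30) (lf (nat_lit 67))
(br (nat_lit 38) (lf (nat_lit 0))
(br (nat_lit 37) (br (nat_lit 43) (br (nat_lit 24) (lf (nat_lit 11))
(br (nat_lit 8) (br (nat_lit 31) (lf (nat_lit 46))
(br (nat_lit 32) (lf (nat_lit 26))
(lf (nat_lit 6))))
(lf (nat_lit 6))))
(lf (nat_lit 3)))
(lf (nat_lit 32)))))
(lf (nat_lit 55))))
(lf (nat_lit 55))))
(lf (nat_lit 12))))
(lf (nat_lit 8))))
(lf (nat_lit 13))))
(lf (nat_lit 54))))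
(br (nat_lit 14) (br (nat_lit 16) (br (nat_lit 24) (lf (nat_lit 11))
(br (nat_lit 38) (lf (nat_lit 0))
(br (nat_lit 43) (lf (nat_lit 11))
(lf (nat_lit 15)))))
(br (nat_lit 2) (br (nat_lit 4) (br (nat_lit 20) (br (nat_lit 43) (lf (nat_lit 48))
(br (nat_lit 24) (br (nat_lit 37) (br (nat_lit 5) (lf (nat_lit 64))
(br (nat_lit 44) (br (nat_lit 47) (lf (nat_lit 54))
(br (nat_lit 18) (br (nat_lit 28) (br (nat_lit 7) (lf (nat_lit 46))
(br (nat_lit 8) (lf (nat_lit 46))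
(br (nat_lit 11) (lf (nat_lit 58))
(br (nat_lit 29) (lf (nat_lit 43))
(br (nat_lit 30) (lf (nat_lit 51))
(lf (nat_lit 23)))))))
(lf (nat_lit 12)))
(lf (nat_lit 12))))
(lf (nat_lit 3))))
(lf (nat_lit 3)))
(lf (nat_lit 11))))
(lf (nat_lit 13)))
(lf (nat_lit 13)))
(lf (nat_lit 13))))
(lf (nat_lit 15))))
(lf (nat_lit 74))))
(lf (nat_lit 74)))
(lf (nat_lit 74))))
(br (nat_lit 3) (br (nat_lit 12) (br (nat_lit 22) (br (nat_lit 30) (br (nat_lit 41) (br (nat_lit 14) (br (nat_lit 20) (br (nat_lit 46) (br (nat_lit 55) (lf (nat_lit 19))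
(br (nat_lit 60) (lf (nat_lit 20))
(br (nat_lit 64) (br (nat_lit 69) (br (nat_lit 48) (lf (nat_lit 21))
(br (nat_lit 2) (br (nat_lit 11) (lf (nat_lit 30))
(br (nat_lit 16) (lf (nat_lit 13))
(br (nat_lit 38) (br (nat_lit 26) (lf (nat_lit 60))
(br (nat_lit 29) (lf (nat_lit 69))
(br (nat_lit 43) (lf (nat_lit 15))
(br (nat_lit 9) (br (nat_lit 4) (lf (nat_lit 13))
(br (nat_lit 5) (lf (nat_lit 47))
(br (nat_lit 7) (br (nat_lit 18) (br (nat_lit 8) (lf (nat_lit 63))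
(lf (nat_lit 7)))
(lf (nat_lit 42)))
(lf (nat_lit 8)))))
(lf (nat_lit 11))))))
(lf (nat_lit 0)))))
(br (nat_lit 56) (lf (nat_lit 1))
(lf (nat_lit 44)))))
(lf (nat_lit 59)))
(lf (nat_lit 40)))))
(lf (nat_lit 59)))
(lf (nat_lit 40)))
(lf (nat_lit 40)))
(lf (nat_lit 74)))
(lf (nat_lit 59)))
(lf (nat_lit 74)))
(lf (nat_lit 74)))
(lf (nat_lit 74)))))

open Dt in
noncomputable def t34 : Dt :=
(br (nat_lit 9) (br (nat_lit 22) (br (nat_lit 3) (lf (nat_lit 74))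
(br (nat_lit 5) (lf (nat_lit 47))
(br (nat_lit 16) (lf (nat_lit 11))
(br (nat_lit 4) (br (nat_lit 24) (lf (nat_lit 11))
(br (nat_lit 26) (lf (nat_lit 47))
(br (nat_lit 41) (lf (nat_lit 74))
(br (nat_lit 38) (br (nat_lit 43) (lf (nat_lit 11))
(br (nat_lit 55) (br (nat_lit 14) (lf (nat_lit 15))
(br (nat_lit 7) (br (nat_lit 37) (br (nat_lit 44) (br (nat_lit 56) (br (nat_lit 2) (lf (nat_lit 48))
(lf (nat_lit 55)))
(lf (nat_lit 15)))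
(lf (nat_lit 3)))
(lf (nat_lit 3)))
(lf (nat_lit 8))))
(lf (nat_lit 0))))
(lf (nat_lit 0))))))
(lf (nat_lit 42))))))
(br (nat_lit 43) (br (nat_lit 16) (lf (nat_lit 11))
(br (nat_lit 4) (br (nat_lit 14) (lf (nat_lit 15))
(br (nat_lit 7) (br (nat_lit 24) (lf (nat_lit 11))
(br (nat_lit 3) (br (nat_lit 2) (lf (nat_lit 48))
(br (nat_lit 41) (lf (nat_lit 74))
(br (nat_lit 20) (br (nat_lit 38) (br (nat_lit 18) (lf (nat_lit 43))
(br (nat_lit 5) (br (nat_lit 37) (lf (nat_lit 56))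
(br (nat_lit 11) (br (nat_lit 28) (lf (nat_lit 58))
(br (nat_lit 30) (lf (nat_lit 30))
(br (nat_lit 31) (lf (nat_lit 5))
(lf (nat_lit 22)))))
(lf (nat_lit 22))))
(lf (nat_lit 42))))
(lf (nat_lit 0)))
(lf (nat_lit 13)))))
(br (nat_lit 41) (br (nat_lit 2) (lf (nat_lit 13))
(br (nat_lit 20) (lf (nat_lit 13))
(lf (nat_lit 40))))
(lf (nat_lit 74)))))
(lf (nat_lit 8))))
(lf (nat_lit 42))))
(br (nat_lit 14) (br (nat_lit 16) (br (nat_lit 24) (lf (nat_lit 11))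
(br (nat_lit 41) (br (nat_lit 2) (lf (nat_lit 13))
(br (nat_lit 3) (lf (nat_lit 74))
(br (nat_lit 4) (lf (nat_lit 13))
(lf (nat_lit 48)))))
(br (nat_lit 3) (br (nat_lit 20) (lf (nat_lit 40))
(br (nat_lit 64) (lf (nat_lit 40))
(br (nat_lit 5) (br (nat_lit 4) (lf (nat_lit 42))
(br (nat_lit 2) (br (nat_lit 7) (br (nat_lit 11) (lf (nat_lit 30))
(br (nat_lit 47) (br (nat_lit 30) (lf (nat_lit 30))
(br (nat_lit 18) (br (nat_lit 28) (lf (nat_lit 12))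
(br (nat_lit 31) (br (nat_lit 32) (br (nat_lit 37) (lf (nat_lit 22))
(br (nat_lit 26) (br (nat_lit 29) (lf (nat_lit 55))
(br (nat_lit 38) (lf (nat_lit 60))
(br (nat_lit 8) (br (nat_lit 44) (lf (nat_lit 12))
(lf (nat_lit 17)))
(lf (nat_lit 52)))))
(lf (nat_lit 65))))
(lf (nat_lit 65)))
(lf (nat_lit 30))))
(lf (nat_lit 51))))
(lf (nat_lit 27))))
(lf (nat_lit 8)))
(lf (nat_lit 13))))
(br (nat_lit 26) (br (nat_lit 37) (br (nat_lit 58) (br (nat_lit 65) (lf (nat_lit 4))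
(br (nat_lit 11) (br (nat_lit 2) (lf (nat_lit 55))
(br (nat_lit 4) (br (nat_lit 7) (lf (nat_lit 8))
(br (nat_lit 18) (lf (nat_lit 42))
(br (nat_lit 28) (lf (nat_lit 58))
(br (nat_lit 30) (br (nat_lit 31) (lf (nat_lit 22))
(lf (nat_lit 5)))
(lf (nat_lit 23))))))
(lf (nat_lit 13))))
(lf (nat_lit 5))))
(lf (nat_lit 47)))
(lf (nat_lit 56)))
(lf (nat_lit 47))))))
(lf (nat_lit 74)))))
(br (nat_lit 24) (br (nat_lit 55) (lf (nat_lit 15))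
(br (nat_lit 41) (br (nat_lit 3) (lf (nat_lit 74))
(br (nat_lit 56) (lf (nat_lit 15))
(br (nat_lit 2) (br (nat_lit 4) (br (nat_lit 7) (lf (nat_lit 8))
(br (nat_lit 8) (lf (nat_lit 6))
(br (nat_lit 20) (lf (nat_lit 13))
(lf (nat_lit 44)))))
(lf (nat_lit 48)))
(lf (nat_lit 44)))))
(lf (nat_lit 0))))
(lf (nat_lit 11))))
(br (nat_lit 4) (br (nat_lit 7) (br (nat_lit 16) (lf (nat_lit 13))
(br (nat_lit 24) (br (nat_lit 37) (br (nat_lit 44) (br (nat_lit 55) (br (nat_lit 56) (br (nat_lit 65) (br (nat_lit 57) (lf (nat_lit 36))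
(br (nat_lit 61) (lf (nat_lit 21))
(br (nat_lit 69) (lf (nat_lit 21))
(br (nat_lit 5) (br (nat_lit 11) (lf (nat_lit 64))
(br (nat_lit 2) (br (nat_lit 3) (lf (nat_lit 48))
(br (nat_lit 18) (lf (nat_lit 42))
(br (nat_lit 20) (lf (nat_lit 13))
(br (nat_lit 28) (br (nat_lit 8) (lf (nat_lit 46))
(br (nat_lit 29) (br (nat_lit 31) (lf (nat_lit 10))
(lf (nat_lit 22)))
(lf (nat_lit 43))))
(lf (nat_lit 58))))))
(lf (nat_lit 55))))
(lf (nat_lit 64))))))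
(lf (nat_lit 3)))
(lf (nat_lit 15)))
(lf (nat_lit 15)))
(lf (nat_lit 3)))
(lf (nat_lit 3)))
(lf (nat_lit 11))))
(lf (nat_lit 8)))
(lf (nat_lit 8))))))
(br (nat_lit 59) (br (nat_lit 60) (br (nat_lit 58) (br (nat_lit 41) (lf (nat_lit 20))
(br (nat_lit 54) (lf (nat_lit 20))
(br (nat_lit 68) (lf (nat_lit 20))
(br (nat_lit 26) (br (nat_lit 22) (lf (nat_lit 47))
(br (nat_lit 3) (br (nat_lit 5) (br (nat_lit 16) (br (nat_lit 24) (br (nat_lit 30) (br (nat_lit 11) (lf (nat_lit 30))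
(br (nat_lit 32) (lf (nat_lit 65))
(br (nat_lit 43) (br (nat_lit 2) (lf (nat_lit 48))
(br (nat_lit 4) (lf (nat_lit 48))
(br (nat_lit 14) (lf (nat_lit 13))
(br (nat_lit 7) (br (nat_lit 8) (br (nat_lit 18) (br (nat_lit 20) (br (nat_lit 28) (lf (nat_lit 46))
(br (nat_lit 29) (br (nat_lit 31) (lf (nat_lit 33))
(lf (nat_lit 29)))
(lf (nat_lit 55))))
(lf (nat_lit 13)))
(lf (nat_lit 42)))
(lf (nat_lit 6)))
(lf (nat_lit 8))))))
(lf (nat_lit 11)))))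
(lf (nat_lit 14)))
(lf (nat_lit 11)))
(lf (nat_lit 11)))
(lf (nat_lit 47)))
(lf (nat_lit 74))))
(lf (nat_lit 14))))))
(br (nat_lit 22) (br (nat_lit 3) (lf (nat_lit 74))
(br (nat_lit 41) (lf (nat_lit 74))
(br (nat_lit 43) (br (nat_lit 2) (lf (nat_lit 48))
(br (nat_lit 4) (lf (nat_lit 48))
(br (nat_lit 5) (br (nat_lit 14) (lf (nat_lit 13))
(br (nat_lit 7) (br (nat_lit 16) (br (nat_lit 18) (br (nat_lit 20) (br (nat_lit 24) (lf (nat_lit 11))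
(br (nat_lit 8) (br (nat_lit 26) (lf (nat_lit 47))
(br (nat_lit 30) (br (nat_lit 28) (lf (nat_lit 23))
(br (nat_lit 11) (br (nat_lit 31) (br (nat_lit 29) (lf (nat_lit 2))
(br (nat_lit 32) (lf (nat_lit 26))
(lf (nat_lit 6))))
(lf (nat_lit 30)))
(lf (nat_lit 58))))
(lf (nat_lit 14))))
(lf (nat_lit 6))))
(lf (nat_lit 13)))
(lf (nat_lit 42)))
(lf (nat_lit 13)))
(lf (nat_lit 8))))
(lf (nat_lit 42)))))
(br (nat_lit 16) (br (nat_lit 14) (br (nat_lit 4) (lf (nat_lit 8))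
(br (nat_lit 2) (br (nat_lit 7) (lf (nat_lit 8))
(br (nat_lit 20) (lf (nat_lit 40))
(lf (nat_lit 13))))
(lf (nat_lit 13))))
(lf (nat_lit 15)))
(lf (nat_lit 11))))))
(lf (nat_lit 47))))
(lf (nat_lit 38)))
(lf (nat_lit 38))))

open Dt in
noncomputable def t35 : Dt :=
(br (nat_lit 1) (br (nat_lit 21) (br (nat_lit 3) (lf (nat_lit 74))
(br (nat_lit 12) (lf (nat_lit 74))
(br (nat_lit 22) (lf (nat_lit 74))
(br (nat_lit 30) (lf (nat_lit 59))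
(br (nat_lit 41) (lf (nat_lit 74))
(br (nat_lit 14) (lf (nat_lit 40))
(br (nat_lit 20) (lf (nat_lit 40))
(br (nat_lit 46) (lf (nat_lit 59))
(br (nat_lit 55) (br (nat_lit 60) (br (nat_lit 64) (lf (nat_lit 40))
(br (nat_lit 69) (lf (nat_lit 59))
(br (nat_lit 48) (br (nat_lit 2) (br (nat_lit 56) (lf (nat_lit 44))
(lf (nat_lit 1)))
(br (nat_lit 11) (br (nat_lit 16) (br (nat_lit 38) (lf (nat_lit 0))
(br (nat_lit 26) (br (nat_lit 29) (br (nat_lit 43) (br (nat_lit 9) (lf (nat_lit 11))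
(br (nat_lit 4) (br (nat_lit 5) (br (nat_lit 7) (lf (nat_lit 8))
(br (nat_lit 18) (lf (nat_lit 42))
(br (nat_lit 8) (lf (nat_lit 7))
(lf (nat_lit 63)))))
(lf (nat_lit 47)))
(lf (nat_lit 13))))
(lf (nat_lit 15)))
(lf (nat_lit 69)))
(lf (nat_lit 60))))
(lf (nat_lit 13)))
(lf (nat_lit 30))))
(lf (nat_lit 21)))))
(lf (nat_lit 20)))
(lf (nat_lit 19)))))))))))
(br (nat_lit 12) (br (nat_lit 3) (lf (nat_lit 74))
(br (nat_lit 22) (lf (nat_lit 74))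
(br (nat_lit 9) (br (nat_lit 41) (lf (nat_lit 74))
(br (nat_lit 55) (br (nat_lit 14) (lf (nat_lit 15))
(br (nat_lit 16) (br (nat_lit 2) (lf (nat_lit 13))
(br (nat_lit 4) (lf (nat_lit 13))
(br (nat_lit 20) (lf (nat_lit 13))
(br (nat_lit 43) (br (nat_lit 24) (lf (nat_lit 11))
(br (nat_lit 37) (lf (nat_lit 3))
(br (nat_lit 5) (br (nat_lit 44) (lf (nat_lit 3))
(br (nat_lit 47) (br (nat_lit 18) (lf (nat_lit 12))
(br (nat_lit 28) (lf (nat_lit 12))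
(br (nat_lit 7) (br (nat_lit 8) (br (nat_lit 11) (br (nat_lit 29) (br (nat_lit 30) (lf (nat_lit 23))
(lf (nat_lit 51)))
(lf (nat_lit 43)))
(lf (nat_lit 58)))
(lf (nat_lit 46)))
(lf (nat_lit 46)))))
(lf (nat_lit 54))))
(lf (nat_lit 64)))))
(lf (nat_lit 48))))))
(br (nat_lit 24) (br (nat_lit 38) (br (nat_lit 43) (lf (nat_lit 15))
(lf (nat_lit 11)))
(lf (nat_lit 0)))
(lf (nat_lit 11)))))
(br (nat_lit 16) (br (nat_lit 20) (lf (nat_lit 54))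
(br (nat_lit 2) (br (nat_lit 4) (lf (nat_lit 13))
(br (nat_lit 14) (br (nat_lit 7) (lf (nat_lit 8))
(br (nat_lit 28) (br (nat_lit 18) (lf (nat_lit 12))
(br (nat_lit 29) (br (nat_lit 11) (lf (nat_lit 55))
(br (nat_lit 5) (br (nat_lit 26) (lf (nat_lit 55))
(br (nat_lit 30) (br (nat_lit 38) (br (nat_lit 37) (lf (nat_lit 32))
(br (nat_lit 43) (lf (nat_lit 3))
(br (nat_lit 24) (br (nat_lit 8) (lf (nat_lit 6))
(br (nat_lit 31) (br (nat_lit 32) (lf (nat_lit 6))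
(lf (nat_lit 26)))
(lf (nat_lit 46))))
(lf (nat_lit 11)))))
(lf (nat_lit 0)))
(lf (nat_lit 67))))
(lf (nat_lit 64))))
(lf (nat_lit 43))))
(lf (nat_lit 46))))
(lf (nat_lit 13))))
(lf (nat_lit 44))))
(lf (nat_lit 0)))))
(lf (nat_lit 11)))))
(br (nat_lit 48) t34
(br (nat_lit 9) (br (nat_lit 4) (br (nat_lit 7) (br (nat_lit 14) (br (nat_lit 22) (lf (nat_lit 21))
(br (nat_lit 59) (br (nat_lit 60) (br (nat_lit 61) (br (nat_lit 65) (br (nat_lit 43) (lf (nat_lit 3))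
(br (nat_lit 69) (br (nat_lit 2) (br (nat_lit 16) (lf (nat_lit 13))
(br (nat_lit 24) (br (nat_lit 11) (lf (nat_lit 33))
(br (nat_lit 5) (br (nat_lit 18) (lf (nat_lit 42))
(br (nat_lit 3) (br (nat_lit 20) (lf (nat_lit 44))
(br (nat_lit 26) (lf (nat_lit 47))
(br (nat_lit 28) (br (nat_lit 8) (lf (nat_lit 46))
(br (nat_lit 29) (lf (nat_lit 61))
(br (nat_lit 31) (lf (nat_lit 10))
(br (nat_lit 30) (lf (nat_lit 30))
(br (nat_lit 32) (br (nat_lit 37) (lf (nat_lit 39))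
(br (nat_lit 38) (br (nat_lit 41) (lf (nat_lit 74))
(lf (nat_lit 13)))
(lf (nat_lit 60))))
(lf (nat_lit 26)))))))
(lf (nat_lit 24)))))
(lf (nat_lit 58))))
(lf (nat_lit 64))))
(lf (nat_lit 11))))
(br (nat_lit 3) (br (nat_lit 26) (br (nat_lit 5) (lf (nat_lit 47))
(br (nat_lit 11) (br (nat_lit 18) (lf (nat_lit 58))
(br (nat_lit 24) (lf (nat_lit 33))
(br (nat_lit 16) (br (nat_lit 20) (lf (nat_lit 13))
(br (nat_lit 28) (lf (nat_lit 58))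
(br (nat_lit 30) (lf (nat_lit 14))
(br (nat_lit 31) (lf (nat_lit 22))
(br (nat_lit 37) (lf (nat_lit 22))
(lf (nat_lit 56)))))))
(lf (nat_lit 11)))))
(lf (nat_lit 64))))
(lf (nat_lit 60)))
(lf (nat_lit 48))))
(lf (nat_lit 21))))
(lf (nat_lit 21)))
(lf (nat_lit 21)))
(lf (nat_lit 38)))
(lf (nat_lit 38))))
(lf (nat_lit 8)))
(lf (nat_lit 8)))
(lf (nat_lit 8)))
(lf (nat_lit 38))))))
(br (nat_lit 9) (br (nat_lit 48) (br (nat_lit 59) (br (nat_lit 60) (br (nat_lit 41) (lf (nat_lit 0))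
(br (nat_lit 14) (br (nat_lit 12) (lf (nat_lit 8))
(br (nat_lit 16) (br (nat_lit 22) (lf (nat_lit 11))
(br (nat_lit 24) (lf (nat_lit 11))
(br (nat_lit 38) (lf (nat_lit 0))
(br (nat_lit 43) (lf (nat_lit 11))
(br (nat_lit 55) (lf (nat_lit 0))
(lf (nat_lit 15)))))))
(br (nat_lit 2) (br (nat_lit 4) (br (nat_lit 3) (lf (nat_lit 48))
(br (nat_lit 7) (lf (nat_lit 8))
(br (nat_lit 20) (br (nat_lit 21) (lf (nat_lit 44))
(br (nat_lit 22) (lf (nat_lit 48))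
(lf (nat_lit 74))))
(lf (nat_lit 13)))))
(lf (nat_lit 13)))
(lf (nat_lit 13)))))
(br (nat_lit 20) (br (nat_lit 16) (lf (nat_lit 13))
(br (nat_lit 21) (br (nat_lit 2) (lf (nat_lit 44))
(br (nat_lit 3) (lf (nat_lit 74))
(br (nat_lit 4) (br (nat_lit 12) (lf (nat_lit 74))
(br (nat_lit 7) (br (nat_lit 22) (lf (nat_lit 74))
(br (nat_lit 43) (br (nat_lit 18) (lf (nat_lit 51))
(br (nat_lit 5) (br (nat_lit 11) (br (nat_lit 24) (lf (nat_lit 11))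
(br (nat_lit 28) (br (nat_lit 30) (lf (nat_lit 23))
(br (nat_lit 26) (br (nat_lit 37) (lf (nat_lit 56))
(br (nat_lit 31) (br (nat_lit 8) (lf (nat_lit 46))
(br (nat_lit 29) (lf (nat_lit 2))
(br (nat_lit 32) (br (nat_lit 38) (br (nat_lit 44) (lf (nat_lit 2))
(lf (nat_lit 12)))
(lf (nat_lit 32)))
(lf (nat_lit 6)))))
(lf (nat_lit 22))))
(lf (nat_lit 14))))
(lf (nat_lit 12))))
(lf (nat_lit 58)))
(lf (nat_lit 42))))
(lf (nat_lit 15))))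
(lf (nat_lit 8))))
(lf (nat_lit 13)))))
(lf (nat_lit 40))))
(lf (nat_lit 40)))))
(lf (nat_lit 38)))
(lf (nat_lit 38)))
(lf (nat_lit 38)))
(lf (nat_lit 38))))

open Dt in
noncomputable def t36 : Dt :=
(br (nat_lit 11) (br (nat_lit 62) (br (nat_lit 18) (lf (nat_lit 58))
(br (nat_lit 28) (lf (nat_lit 58))
(br (nat_lit 44) (lf (nat_lit 17))
(br (nat_lit 47) (lf (nat_lit 27))
(br (nat_lit 1) (br (nat_lit 5) (br (nat_lit 2) (lf (nat_lit 30))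
(br (nat_lit 9) (br (nat_lit 12) (br (nat_lit 29) (br (nat_lit 7) (lf (nat_lit 41))
(br (nat_lit 24) (lf (nat_lit 41))
(br (nat_lit 8) (br (nat_lit 30) (lf (nat_lit 30))
(br (nat_lit 31) (br (nat_lit 38) (lf (nat_lit 5))
(br (nat_lit 41) (lf (nat_lit 5))
(lf (nat_lit 0))))
(lf (nat_lit 2))))
(lf (nat_lit 52)))))
(lf (nat_lit 2)))
(lf (nat_lit 12)))
(lf (nat_lit 12))))
(lf (nat_lit 18)))
(lf (nat_lit 12)))))))
(br (nat_lit 31) (br (nat_lit 29) (br (nat_lit 2) (lf (nat_lit 61))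
(br (nat_lit 18) (lf (nat_lit 61))
(br (nat_lit 28) (br (nat_lit 7) (lf (nat_lit 46))
(br (nat_lit 8) (lf (nat_lit 46))
(br (nat_lit 44) (lf (nat_lit 2))
(br (nat_lit 26) (br (nat_lit 43) (br (nat_lit 46) (br (nat_lit 47) (lf (nat_lit 2))
(lf (nat_lit 46)))
(lf (nat_lit 28)))
(lf (nat_lit 17)))
(lf (nat_lit 28))))))
(lf (nat_lit 58)))))
(br (nat_lit 38) (br (nat_lit 58) (br (nat_lit 64) (br (nat_lit 1) (lf (nat_lit 5))
(br (nat_lit 5) (lf (nat_lit 5))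
(br (nat_lit 41) (lf (nat_lit 5))
(br (nat_lit 65) (lf (nat_lit 4))
(br (nat_lit 69) (br (nat_lit 7) (lf (nat_lit 33))
(br (nat_lit 24) (lf (nat_lit 33))
(br (nat_lit 9) (br (nat_lit 12) (br (nat_lit 46) (br (nat_lit 54) (br (nat_lit 8) (br (nat_lit 22) (lf (nat_lit 68))
(br (nat_lit 16) (br (nat_lit 2) (lf (nat_lit 9))
(br (nat_lit 14) (lf (nat_lit 9))
(br (nat_lit 4) (lf (nat_lit 13))
(lf (nat_lit 8)))))
(lf (nat_lit 11))))
(br (nat_lit 53) (lf (nat_lit 7))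
(br (nat_lit 14) (br (nat_lit 16) (br (nat_lit 2) (lf (nat_lit 9))
(br (nat_lit 37) (lf (nat_lit 22))
(br (nat_lit 56) (lf (nat_lit 1))
(br (nat_lit 57) (lf (nat_lit 22))
(br (nat_lit 32) (br (nat_lit 66) (br (nat_lit 4) (br (nat_lit 18) (lf (nat_lit 42))
(br (nat_lit 20) (lf (nat_lit 13))
(br (nat_lit 21) (br (nat_lit 22) (lf (nat_lit 74))
(br (nat_lit 26) (br (nat_lit 28) (br (nat_lit 30) (lf (nat_lit 23))
(br (nat_lit 43) (br (nat_lit 44) (lf (nat_lit 3))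
(br (nat_lit 47) (br (nat_lit 48) (lf (nat_lit 4))
(br (nat_lit 55) (lf (nat_lit 15))
(br (nat_lit 60) (br (nat_lit 61) (br (nat_lit 68) (lf (nat_lit 6))
sol)
(lf (nat_lit 1)))
(lf (nat_lit 0)))))
(lf (nat_lit 2))))
(lf (nat_lit 3))))
(lf (nat_lit 58)))
(lf (nat_lit 47))))
(lf (nat_lit 40)))))
(br (nat_lit 18) (br (nat_lit 20) (br (nat_lit 21) (lf (nat_lit 40))
(br (nat_lit 22) (br (nat_lit 26) (lf (nat_lit 47))
(br (nat_lit 28) (lf (nat_lit 58))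
(br (nat_lit 30) (br (nat_lit 43) (lf (nat_lit 3))
(br (nat_lit 44) (br (nat_lit 47) (lf (nat_lit 2))
(br (nat_lit 48) (br (nat_lit 55) (br (nat_lit 60) (lf (nat_lit 0))
(br (nat_lit 61) (lf (nat_lit 1))
(br (nat_lit 68) sol
(lf (nat_lit 6)))))
(lf (nat_lit 15)))
(lf (nat_lit 4))))
(lf (nat_lit 3))))
(lf (nat_lit 23)))))
(lf (nat_lit 74))))
(lf (nat_lit 13)))
(lf (nat_lit 42))))
(lf (nat_lit 31)))
(lf (nat_lit 39)))))))
(br (nat_lit 2) (br (nat_lit 4) (br (nat_lit 18) (lf (nat_lit 43))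
(br (nat_lit 20) (br (nat_lit 21) (lf (nat_lit 40))
(br (nat_lit 22) (lf (nat_lit 48))
(lf (nat_lit 74))))
(lf (nat_lit 13))))
(lf (nat_lit 13)))
(lf (nat_lit 13))))
(br (nat_lit 4) (br (nat_lit 16) (lf (nat_lit 13))
(br (nat_lit 2) (br (nat_lit 18) (lf (nat_lit 43))
(br (nat_lit 20) (lf (nat_lit 13))
(lf (nat_lit 40))))
(lf (nat_lit 9))))
(lf (nat_lit 8))))))
(lf (nat_lit 41)))
(lf (nat_lit 41)))
(lf (nat_lit 8)))
(lf (nat_lit 41)))))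
(lf (nat_lit 69)))))))
(lf (nat_lit 69)))
(lf (nat_lit 69)))
(lf (nat_lit 69))))
(br (nat_lit 2) (lf (nat_lit 30))
(br (nat_lit 5) (lf (nat_lit 30))
(br (nat_lit 30) (lf (nat_lit 30))
(br (nat_lit 47) (lf (nat_lit 30))
(br (nat_lit 29) (br (nat_lit 18) (lf (nat_lit 61))
(br (nat_lit 28) (br (nat_lit 7) (lf (nat_lit 46))
(br (nat_lit 8) (lf (nat_lit 46))
(br (nat_lit 24) (br (nat_lit 12) (br (nat_lit 44) (br (nat_lit 43) (lf (nat_lit 17))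
(br (nat_lit 9) (br (nat_lit 1) (lf (nat_lit 12))
(br (nat_lit 21) (br (nat_lit 22) (lf (nat_lit 74))
(br (nat_lit 16) (br (nat_lit 4) (lf (nat_lit 42))
(br (nat_lit 14) (br (nat_lit 26) (br (nat_lit 32) (lf (nat_lit 6))
(lf (nat_lit 26)))
(lf (nat_lit 47)))
(lf (nat_lit 8))))
(lf (nat_lit 11))))
(lf (nat_lit 59))))
(lf (nat_lit 11))))
(lf (nat_lit 2)))
(lf (nat_lit 23)))
(lf (nat_lit 33)))))
(lf (nat_lit 58))))
(lf (nat_lit 2)))))))))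
(br (nat_lit 62) (br (nat_lit 29) (br (nat_lit 31) (br (nat_lit 28) (lf (nat_lit 10))
(br (nat_lit 18) (br (nat_lit 2) (lf (nat_lit 61))
(br (nat_lit 4) (lf (nat_lit 43))
(br (nat_lit 5) (br (nat_lit 30) (br (nat_lit 14) (lf (nat_lit 1))
(br (nat_lit 12) (br (nat_lit 38) (lf (nat_lit 43))
(br (nat_lit 44) (lf (nat_lit 2))
(lf (nat_lit 43))))
(lf (nat_lit 8))))
(lf (nat_lit 30)))
(lf (nat_lit 30)))))
(lf (nat_lit 58))))
(br (nat_lit 7) (br (nat_lit 24) (br (nat_lit 9) (lf (nat_lit 41))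
(br (nat_lit 12) (lf (nat_lit 41))
(br (nat_lit 46) (lf (nat_lit 41))
(br (nat_lit 54) (lf (nat_lit 41))
(br (nat_lit 58) (br (nat_lit 69) (br (nat_lit 38) (lf (nat_lit 69))
(br (nat_lit 64) (lf (nat_lit 69))
(br (nat_lit 1) (br (nat_lit 5) (br (nat_lit 41) (br (nat_lit 65) (br (nat_lit 8) (br (nat_lit 22) (lf (nat_lit 68))
(br (nat_lit 16) (br (nat_lit 2) (lf (nat_lit 9))
(br (nat_lit 14) (lf (nat_lit 9))
(br (nat_lit 4) (lf (nat_lit 13))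
(lf (nat_lit 8)))))
(lf (nat_lit 11))))
(br (nat_lit 53) (lf (nat_lit 7))
(br (nat_lit 14) (br (nat_lit 16) (br (nat_lit 2) (lf (nat_lit 9))
(br (nat_lit 37) (lf (nat_lit 22))
(br (nat_lit 56) (lf (nat_lit 1))
(br (nat_lit 57) (lf (nat_lit 22))
(br (nat_lit 32) (br (nat_lit 66) (br (nat_lit 4) (br (nat_lit 18) (lf (nat_lit 42))
(br (nat_lit 20) (lf (nat_lit 13))
(br (nat_lit 21) (br (nat_lit 22) (lf (nat_lit 74))
(br (nat_lit 26) (br (nat_lit 28) (br (nat_lit 30) (lf (nat_lit 23))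
(br (nat_lit 43) (br (nat_lit 44) (lf (nat_lit 3))
(br (nat_lit 47) (br (nat_lit 48) (lf (nat_lit 4))
(br (nat_lit 55) (lf (nat_lit 15))
(br (nat_lit 60) (br (nat_lit 61) (br (nat_lit 68) (lf (nat_lit 6))
sol)
(lf (nat_lit 1)))
(lf (nat_lit 0)))))
(lf (nat_lit 2))))
(lf (nat_lit 3))))
(lf (nat_lit 58)))
(lf (nat_lit 47))))
(lf (nat_lit 40)))))
(br (nat_lit 18) (br (nat_lit 20) (br (nat_lit 21) (lf (nat_lit 40))
(br (nat_lit 22) (br (nat_lit 26) (lf (nat_lit 47))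
(br (nat_lit 28) (lf (nat_lit 58))
(br (nat_lit 30) (br (nat_lit 43) (lf (nat_lit 3))
(br (nat_lit 44) (br (nat_lit 47) (lf (nat_lit 2))
(br (nat_lit 48) (br (nat_lit 55) (br (nat_lit 60) (lf (nat_lit 0))
(br (nat_lit 61) (lf (nat_lit 1))
(br (nat_lit 68) sol
(lf (nat_lit 6)))))
(lf (nat_lit 15)))
(lf (nat_lit 4))))
(lf (nat_lit 3))))
(lf (nat_lit 23)))))
(lf (nat_lit 74))))
(lf (nat_lit 13)))
(lf (nat_lit 42))))
(lf (nat_lit 31)))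
(lf (nat_lit 39)))))))
(br (nat_lit 2) (br (nat_lit 4) (br (nat_lit 18) (lf (nat_lit 43))
(br (nat_lit 20) (br (nat_lit 21) (lf (nat_lit 40))
(br (nat_lit 22) (lf (nat_lit 48))
(lf (nat_lit 74))))
(lf (nat_lit 13))))
(lf (nat_lit 13)))
(lf (nat_lit 13))))
(br (nat_lit 4) (br (nat_lit 16) (lf (nat_lit 13))
(br (nat_lit 2) (br (nat_lit 18) (lf (nat_lit 43))
(br (nat_lit 20) (lf (nat_lit 13))
(lf (nat_lit 40))))
(lf (nat_lit 9))))
(lf (nat_lit 8))))))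
(lf (nat_lit 5)))
(lf (nat_lit 0)))
(lf (nat_lit 5)))
(lf (nat_lit 5)))))
(lf (nat_lit 33)))
(lf (nat_lit 33)))))))
(lf (nat_lit 33)))
(lf (nat_lit 33))))
(br (nat_lit 26) (lf (nat_lit 28))
(br (nat_lit 2) (br (nat_lit 44) (lf (nat_lit 28))
(br (nat_lit 31) (br (nat_lit 28) (lf (nat_lit 10))
(br (nat_lit 18) (br (nat_lit 4) (lf (nat_lit 43))
(br (nat_lit 38) (lf (nat_lit 43))
(br (nat_lit 8) (br (nat_lit 46) (lf (nat_lit 28))
(br (nat_lit 47) (br (nat_lit 20) (lf (nat_lit 27))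
(br (nat_lit 24) (lf (nat_lit 27))
(br (nat_lit 7) (br (nat_lit 53) (lf (nat_lit 7))
(br (nat_lit 55) (lf (nat_lit 46))
(br (nat_lit 14) (br (nat_lit 16) (br (nat_lit 22) (br (nat_lit 37) (lf (nat_lit 22))
(br (nat_lit 5) (br (nat_lit 21) (br (nat_lit 12) (lf (nat_lit 74))
(br (nat_lit 9) (lf (nat_lit 8))
(lf (nat_lit 41))))
(lf (nat_lit 53)))
(lf (nat_lit 56))))
(lf (nat_lit 24)))
(lf (nat_lit 13)))
(lf (nat_lit 19)))))
(lf (nat_lit 33)))))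
(lf (nat_lit 2))))
(lf (nat_lit 52)))))
(lf (nat_lit 58))))
(lf (nat_lit 2))))
(lf (nat_lit 55)))))
(br (nat_lit 18) (br (nat_lit 28) (br (nat_lit 29) (lf (nat_lit 61))
(br (nat_lit 31) (lf (nat_lit 10))
(br (nat_lit 7) (br (nat_lit 8) (lf (nat_lit 46))
(br (nat_lit 24) (br (nat_lit 38) (br (nat_lit 4) (lf (nat_lit 43))
(br (nat_lit 44) (br (nat_lit 47) (br (nat_lit 1) (lf (nat_lit 12))
(br (nat_lit 5) (lf (nat_lit 18))
(br (nat_lit 9) (lf (nat_lit 12))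
(br (nat_lit 12) (lf (nat_lit 12))
(br (nat_lit 14) (br (nat_lit 16) (br (nat_lit 20) (lf (nat_lit 27))
(br (nat_lit 2) (br (nat_lit 21) (br (nat_lit 22) (br (nat_lit 26) (lf (nat_lit 60))
(br (nat_lit 30) (lf (nat_lit 30))
(lf (nat_lit 14))))
(lf (nat_lit 47)))
(lf (nat_lit 40)))
(lf (nat_lit 13))))
(lf (nat_lit 13)))
(lf (nat_lit 8)))))))
(lf (nat_lit 2)))
(lf (nat_lit 2))))
(lf (nat_lit 69)))
(lf (nat_lit 33))))
(lf (nat_lit 33)))))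
(lf (nat_lit 58)))
(lf (nat_lit 58)))))

open Dt in
noncomputable def t37 : Dt :=
(br (nat_lit 3) (br (nat_lit 59) t36
(br (nat_lit 29) (br (nat_lit 31) (br (nat_lit 44) (br (nat_lit 47) (br (nat_lit 11) (br (nat_lit 2) (lf (nat_lit 30))
(br (nat_lit 5) (lf (nat_lit 30))
(br (nat_lit 18) (lf (nat_lit 58))
(br (nat_lit 28) (lf (nat_lit 58))
(br (nat_lit 20) (lf (nat_lit 27))
(br (nat_lit 24) (lf (nat_lit 27))
(br (nat_lit 30) (lf (nat_lit 30))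
(br (nat_lit 53) (lf (nat_lit 27))
(br (nat_lit 4) (br (nat_lit 7) (br (nat_lit 38) (br (nat_lit 8) (lf (nat_lit 52))
(br (nat_lit 9) (br (nat_lit 32) (br (nat_lit 55) (br (nat_lit 58) (br (nat_lit 62) (lf (nat_lit 58))
(br (nat_lit 65) (lf (nat_lit 4))
(br (nat_lit 46) (br (nat_lit 12) (lf (nat_lit 41))
(br (nat_lit 14) (lf (nat_lit 19))
(lf (nat_lit 8))))
(lf (nat_lit 18)))))
(lf (nat_lit 52)))
(lf (nat_lit 46)))
(lf (nat_lit 6)))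
(lf (nat_lit 6))))
(lf (nat_lit 43)))
(lf (nat_lit 23)))
(lf (nat_lit 43)))))))))))
(br (nat_lit 7) (br (nat_lit 28) (lf (nat_lit 46))
(br (nat_lit 18) (br (nat_lit 4) (lf (nat_lit 43))
(br (nat_lit 38) (lf (nat_lit 43))
(br (nat_lit 53) (lf (nat_lit 7))
(br (nat_lit 62) (lf (nat_lit 58))
(br (nat_lit 2) (lf (nat_lit 61))
(br (nat_lit 5) (br (nat_lit 26) (br (nat_lit 30) (br (nat_lit 46) (lf (nat_lit 18))
(br (nat_lit 54) (lf (nat_lit 18))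
(br (nat_lit 56) (lf (nat_lit 1))
(lf (nat_lit 28)))))
(lf (nat_lit 30)))
(lf (nat_lit 60)))
(lf (nat_lit 30))))))))
(br (nat_lit 62) (br (nat_lit 8) (lf (nat_lit 17))
(br (nat_lit 26) (lf (nat_lit 28))
(br (nat_lit 38) (br (nat_lit 43) (lf (nat_lit 17))
(br (nat_lit 46) (lf (nat_lit 28))
(br (nat_lit 53) (lf (nat_lit 7))
(br (nat_lit 4) (br (nat_lit 55) (br (nat_lit 56) (lf (nat_lit 28))
(br (nat_lit 64) (lf (nat_lit 17))
(br (nat_lit 1) (br (nat_lit 32) (br (nat_lit 61) (br (nat_lit 48) (lf (nat_lit 25))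
(br (nat_lit 2) (br (nat_lit 9) (br (nat_lit 12) (lf (nat_lit 12))
(lf (nat_lit 8)))
(lf (nat_lit 38)))
(lf (nat_lit 48))))
(lf (nat_lit 37)))
(lf (nat_lit 37)))
(lf (nat_lit 37)))))
(lf (nat_lit 46)))
(lf (nat_lit 43))))))
(lf (nat_lit 63)))))
(lf (nat_lit 58)))))
(br (nat_lit 24) (br (nat_lit 8) (lf (nat_lit 6))
(br (nat_lit 9) (lf (nat_lit 6))
(br (nat_lit 1) (br (nat_lit 28) (br (nat_lit 12) (lf (nat_lit 12))
(br (nat_lit 4) (br (nat_lit 14) (br (nat_lit 18) (lf (nat_lit 12))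
(br (nat_lit 30) (br (nat_lit 32) (lf (nat_lit 6))
(br (nat_lit 37) (br (nat_lit 16) (lf (nat_lit 22))
(br (nat_lit 2) (br (nat_lit 5) (lf (nat_lit 30))
(br (nat_lit 20) (lf (nat_lit 54))
(lf (nat_lit 13))))
(lf (nat_lit 13))))
(lf (nat_lit 39))))
(lf (nat_lit 23))))
(lf (nat_lit 8)))
(lf (nat_lit 8))))
(lf (nat_lit 46)))
(lf (nat_lit 38)))))
(lf (nat_lit 33)))))
(lf (nat_lit 2)))
(lf (nat_lit 2)))
(lf (nat_lit 2)))
(lf (nat_lit 2))))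
(br (nat_lit 18) (br (nat_lit 21) (br (nat_lit 22) (br (nat_lit 60) (br (nat_lit 59) (br (nat_lit 11) (br (nat_lit 28) (br (nat_lit 62) (br (nat_lit 65) (br (nat_lit 31) (lf (nat_lit 10))
(br (nat_lit 58) (lf (nat_lit 68))
(br (nat_lit 7) (br (nat_lit 24) (br (nat_lit 30) (lf (nat_lit 67))
(br (nat_lit 47) (lf (nat_lit 27))
(br (nat_lit 8) (lf (nat_lit 46))
(br (nat_lit 53) (lf (nat_lit 7))
(br (nat_lit 20) (br (nat_lit 2) (lf (nat_lit 44))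
(br (nat_lit 5) (br (nat_lit 4) (lf (nat_lit 64))
(br (nat_lit 14) (br (nat_lit 1) (lf (nat_lit 40))
(br (nat_lit 16) (lf (nat_lit 22))
(lf (nat_lit 9))))
(lf (nat_lit 9))))
(lf (nat_lit 30))))
(lf (nat_lit 27)))))))
(lf (nat_lit 33)))
(lf (nat_lit 33)))))
(br (nat_lit 5) (lf (nat_lit 64))
(br (nat_lit 48) (br (nat_lit 1) (lf (nat_lit 38))
(br (nat_lit 9) (lf (nat_lit 38))
(br (nat_lit 26) (br (nat_lit 2) (lf (nat_lit 60))
(br (nat_lit 20) (lf (nat_lit 24))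
(br (nat_lit 14) (br (nat_lit 4) (br (nat_lit 7) (lf (nat_lit 8))
(br (nat_lit 12) (lf (nat_lit 8))
(br (nat_lit 16) (br (nat_lit 30) (lf (nat_lit 51))
(br (nat_lit 24) (lf (nat_lit 23))
(br (nat_lit 29) (br (nat_lit 31) (lf (nat_lit 2))
(lf (nat_lit 33)))
(lf (nat_lit 41)))))
(lf (nat_lit 13)))))
(lf (nat_lit 13)))
(lf (nat_lit 40)))))
(lf (nat_lit 47)))))
(lf (nat_lit 21)))))
(lf (nat_lit 58)))
(lf (nat_lit 58)))
(lf (nat_lit 58)))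
(br (nat_lit 32) (br (nat_lit 37) (br (nat_lit 57) (br (nat_lit 66) (br (nat_lit 8) (lf (nat_lit 34))
(br (nat_lit 20) (lf (nat_lit 34))
(br (nat_lit 44) (br (nat_lit 4) (lf (nat_lit 51))
(br (nat_lit 30) (lf (nat_lit 51))
(br (nat_lit 43) (lf (nat_lit 3))
(br (nat_lit 2) (br (nat_lit 24) (lf (nat_lit 29))
(br (nat_lit 9) (br (nat_lit 12) (br (nat_lit 1) (lf (nat_lit 12))
(br (nat_lit 5) (lf (nat_lit 42))
(br (nat_lit 7) (lf (nat_lit 23))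
(br (nat_lit 11) (br (nat_lit 14) (lf (nat_lit 3))
(lf (nat_lit 8)))
(lf (nat_lit 30))))))
(lf (nat_lit 8)))
(lf (nat_lit 11))))
(lf (nat_lit 48))))))
(lf (nat_lit 17)))))
(lf (nat_lit 39)))
(lf (nat_lit 39)))
(lf (nat_lit 39)))
(lf (nat_lit 39))))
(br (nat_lit 41) (br (nat_lit 12) (lf (nat_lit 74))
(br (nat_lit 48) (br (nat_lit 54) (br (nat_lit 58) (br (nat_lit 68) (br (nat_lit 69) (lf (nat_lit 57))
(br (nat_lit 8) (lf (nat_lit 68))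
(br (nat_lit 46) (lf (nat_lit 68))
(br (nat_lit 61) (br (nat_lit 29) (lf (nat_lit 61))
(br (nat_lit 38) (br (nat_lit 26) (lf (nat_lit 63))
(br (nat_lit 56) (lf (nat_lit 25))
(br (nat_lit 44) (br (nat_lit 4) (lf (nat_lit 51))
(br (nat_lit 7) (br (nat_lit 9) (lf (nat_lit 8))
(br (nat_lit 1) (br (nat_lit 5) (br (nat_lit 11) (lf (nat_lit 5))
(br (nat_lit 2) (br (nat_lit 14) (br (nat_lit 16) (lf (nat_lit 55))
(lf (nat_lit 13)))
(lf (nat_lit 8)))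
(lf (nat_lit 55))))
(lf (nat_lit 47)))
(lf (nat_lit 38))))
(lf (nat_lit 8))))
(lf (nat_lit 28)))))
(lf (nat_lit 69))))
(lf (nat_lit 21))))))
(lf (nat_lit 20)))
(lf (nat_lit 20)))
(lf (nat_lit 20)))
(lf (nat_lit 21))))
(lf (nat_lit 20))))
(br (nat_lit 12) (br (nat_lit 9) (br (nat_lit 41) (br (nat_lit 1) (lf (nat_lit 12))
(br (nat_lit 14) (br (nat_lit 20) (br (nat_lit 16) (lf (nat_lit 13))
(br (nat_lit 24) (br (nat_lit 28) (lf (nat_lit 12))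
(br (nat_lit 11) (br (nat_lit 43) (lf (nat_lit 15))
(lf (nat_lit 11)))
(lf (nat_lit 58))))
(lf (nat_lit 11))))
(lf (nat_lit 40)))
(lf (nat_lit 40))))
(lf (nat_lit 74)))
(lf (nat_lit 11)))
(lf (nat_lit 74))))
(br (nat_lit 12) (br (nat_lit 22) (br (nat_lit 41) (br (nat_lit 1) (br (nat_lit 9) (lf (nat_lit 12))
(br (nat_lit 16) (br (nat_lit 4) (lf (nat_lit 42))
(br (nat_lit 24) (br (nat_lit 28) (lf (nat_lit 12))
(br (nat_lit 11) (br (nat_lit 43) (br (nat_lit 14) (lf (nat_lit 15))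
(br (nat_lit 2) (lf (nat_lit 13))
(br (nat_lit 20) (lf (nat_lit 13))
(lf (nat_lit 40)))))
(lf (nat_lit 11)))
(lf (nat_lit 58))))
(lf (nat_lit 11))))
(lf (nat_lit 11))))
(lf (nat_lit 40)))
(lf (nat_lit 74)))
(lf (nat_lit 74)))
(lf (nat_lit 74))))
(br (nat_lit 11) (br (nat_lit 28) (br (nat_lit 59) (lf (nat_lit 58))
(br (nat_lit 32) (br (nat_lit 37) (br (nat_lit 57) (br (nat_lit 62) (br (nat_lit 29) (br (nat_lit 14) (lf (nat_lit 32))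
(br (nat_lit 16) (lf (nat_lit 32))
(br (nat_lit 38) (lf (nat_lit 32))
(br (nat_lit 4) (br (nat_lit 5) (lf (nat_lit 64))
(br (nat_lit 41) (br (nat_lit 1) (br (nat_lit 44) (lf (nat_lit 43))
(br (nat_lit 31) (br (nat_lit 7) (lf (nat_lit 22))
(br (nat_lit 12) (br (nat_lit 9) (lf (nat_lit 12))
(lf (nat_lit 11)))
(lf (nat_lit 8))))
(lf (nat_lit 2))))
(lf (nat_lit 40)))
(lf (nat_lit 0))))
(lf (nat_lit 43))))))
(lf (nat_lit 61)))
(lf (nat_lit 58)))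
(lf (nat_lit 39)))
(lf (nat_lit 39)))
(lf (nat_lit 39))))
(lf (nat_lit 58)))
(lf (nat_lit 58)))))

open Dt in
noncomputable def t38 : Dt :=
(br (nat_lit 74) (br (nat_lit 17) (br (nat_lit 6) (lf (nat_lit 72))
(br (nat_lit 42) (lf (nat_lit 62))
(br (nat_lit 51) (br (nat_lit 10) (lf (nat_lit 73))
(br (nat_lit 40) (lf (nat_lit 66))
(br (nat_lit 71) (br (nat_lit 25) (lf (nat_lit 49))
(br (nat_lit 52) (lf (nat_lit 71))
(br (nat_lit 13) (br (nat_lit 15) (lf (nat_lit 50))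
(br (nat_lit 19) (lf (nat_lit 50))
(br (nat_lit 36) (lf (nat_lit 50))
(br (nat_lit 23) (br (nat_lit 33) (lf (nat_lit 70))
(br (nat_lit 34) (lf (nat_lit 70))
(br (nat_lit 70) (lf (nat_lit 70))
t1)))
t7))))
(br (nat_lit 23) (br (nat_lit 33) (lf (nat_lit 70))
(br (nat_lit 34) (lf (nat_lit 70))
(br (nat_lit 70) (lf (nat_lit 70))
t13)))
(br (nat_lit 27) (br (nat_lit 35) (lf (nat_lit 16))
(br (nat_lit 45) (lf (nat_lit 16))
(br (nat_lit 49) (lf (nat_lit 16))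
t17)))
(br (nat_lit 15) (br (nat_lit 19) (lf (nat_lit 50))
(br (nat_lit 36) (lf (nat_lit 50))
(br (nat_lit 33) (br (nat_lit 34) (lf (nat_lit 70))
(br (nat_lit 70) (lf (nat_lit 70))
(br (nat_lit 35) (br (nat_lit 45) (lf (nat_lit 16))
(br (nat_lit 49) (lf (nat_lit 16))
(br (nat_lit 0) (br (nat_lit 3) (br (nat_lit 32) (lf (nat_lit 39))
(br (nat_lit 37) (lf (nat_lit 39))
(br (nat_lit 39) (lf (nat_lit 39))
(br (nat_lit 12) (br (nat_lit 21) (br (nat_lit 22) (br (nat_lit 2) (lf (nat_lit 48))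
(br (nat_lit 4) (lf (nat_lit 48))
(br (nat_lit 5) (br (nat_lit 41) (br (nat_lit 1) (lf (nat_lit 5))
(br (nat_lit 11) (lf (nat_lit 5))
(br (nat_lit 16) (br (nat_lit 9) (lf (nat_lit 11))
(br (nat_lit 24) (br (nat_lit 7) (lf (nat_lit 33))
(br (nat_lit 26) (br (nat_lit 20) (lf (nat_lit 24))
(br (nat_lit 14) (lf (nat_lit 13))
(lf (nat_lit 40))))
(lf (nat_lit 55))))
(lf (nat_lit 6))))
(lf (nat_lit 55)))))
(lf (nat_lit 74)))
(lf (nat_lit 64)))))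
(lf (nat_lit 74)))
(lf (nat_lit 74)))
(lf (nat_lit 74))))))
(br (nat_lit 39) (br (nat_lit 7) (lf (nat_lit 33))
(br (nat_lit 11) (lf (nat_lit 33))
(br (nat_lit 2) (br (nat_lit 5) (br (nat_lit 18) (br (nat_lit 24) (lf (nat_lit 33))
(br (nat_lit 28) (lf (nat_lit 18))
(lf (nat_lit 46))))
(lf (nat_lit 58)))
(lf (nat_lit 30)))
(lf (nat_lit 30)))))
(lf (nat_lit 74))))
(br (nat_lit 39) (br (nat_lit 1) (br (nat_lit 9) (br (nat_lit 48) (br (nat_lit 59) (br (nat_lit 2) (lf (nat_lit 48))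
(br (nat_lit 3) (lf (nat_lit 39))
(br (nat_lit 4) (lf (nat_lit 48))
(br (nat_lit 11) (br (nat_lit 5) (lf (nat_lit 5))
(br (nat_lit 7) (lf (nat_lit 33))
(br (nat_lit 12) (br (nat_lit 14) (lf (nat_lit 8))
(br (nat_lit 16) (br (nat_lit 18) (lf (nat_lit 12))
(lf (nat_lit 42)))
(lf (nat_lit 42))))
(lf (nat_lit 8)))))
(lf (nat_lit 30))))))
(lf (nat_lit 38)))
(lf (nat_lit 38)))
(lf (nat_lit 38)))
(lf (nat_lit 38)))
(br (nat_lit 3) (br (nat_lit 59) (br (nat_lit 2) (lf (nat_lit 48))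
(br (nat_lit 4) (lf (nat_lit 48))
(br (nat_lit 22) (lf (nat_lit 48))
(br (nat_lit 5) (br (nat_lit 9) (br (nat_lit 12) (br (nat_lit 7) (lf (nat_lit 41))
(br (nat_lit 14) (br (nat_lit 16) (br (nat_lit 8) (lf (nat_lit 9))
(br (nat_lit 21) (br (nat_lit 20) (lf (nat_lit 44))
(br (nat_lit 24) (lf (nat_lit 41))
(br (nat_lit 26) (br (nat_lit 28) (br (nat_lit 1) (lf (nat_lit 12))
(br (nat_lit 11) (br (nat_lit 18) (lf (nat_lit 12))
(br (nat_lit 29) (lf (nat_lit 41))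
(lf (nat_lit 43))))
(lf (nat_lit 27))))
(lf (nat_lit 46)))
(lf (nat_lit 47)))))
(lf (nat_lit 74))))
(lf (nat_lit 13)))
(lf (nat_lit 8))))
(lf (nat_lit 74)))
(lf (nat_lit 47)))
(lf (nat_lit 47))))))
(lf (nat_lit 2)))
(br (nat_lit 11) (br (nat_lit 12) (br (nat_lit 18) (br (nat_lit 21) (br (nat_lit 4) (lf (nat_lit 51))
(br (nat_lit 22) (br (nat_lit 28) (br (nat_lit 1) (lf (nat_lit 12))
(br (nat_lit 5) (lf (nat_lit 18))
(br (nat_lit 9) (lf (nat_lit 12))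
(lf (nat_lit 38)))))
(lf (nat_lit 58)))
(lf (nat_lit 74))))
(lf (nat_lit 74)))
(lf (nat_lit 58)))
(lf (nat_lit 74)))
(lf (nat_lit 58))))))))
t18)))
t21)))
(br (nat_lit 19) (br (nat_lit 36) (lf (nat_lit 50))
(br (nat_lit 33) (br (nat_lit 34) (lf (nat_lit 70))
(br (nat_lit 70) (lf (nat_lit 70))
t22))
t25))
(br (nat_lit 36) (br (nat_lit 33) (br (nat_lit 34) (lf (nat_lit 70))
(br (nat_lit 70) (lf (nat_lit 70))
t26))
t29)
(lf (nat_lit 50))))))))))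
(br (nat_lit 23) (lf (nat_lit 70))
(br (nat_lit 25) (lf (nat_lit 70))
(lf (nat_lit 49)))))))
(br (nat_lit 10) (br (nat_lit 13) (lf (nat_lit 50))
(br (nat_lit 15) (lf (nat_lit 50))
(br (nat_lit 19) (lf (nat_lit 50))
(br (nat_lit 36) (lf (nat_lit 50))
(br (nat_lit 40) (lf (nat_lit 50))
(lf (nat_lit 66)))))))
(lf (nat_lit 73))))))
(br (nat_lit 6) (br (nat_lit 42) (br (nat_lit 27) (lf (nat_lit 16))
(br (nat_lit 35) (lf (nat_lit 16))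
(br (nat_lit 45) (lf (nat_lit 16))
(br (nat_lit 49) (lf (nat_lit 16))
(br (nat_lit 51) (lf (nat_lit 16))
(br (nat_lit 10) (br (nat_lit 40) (br (nat_lit 13) (lf (nat_lit 50))
(br (nat_lit 15) (lf (nat_lit 50))
(br (nat_lit 19) (lf (nat_lit 50))
(br (nat_lit 36) (lf (nat_lit 50))
(br (nat_lit 71) (lf (nat_lit 16))
(br (nat_lit 25) (br (nat_lit 52) (br (nat_lit 23) (lf (nat_lit 70))
(br (nat_lit 33) (lf (nat_lit 70))
(br (nat_lit 34) (lf (nat_lit 70))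
(br (nat_lit 70) (lf (nat_lit 70))
(br (nat_lit 0) (br (nat_lit 39) t31
t33)
(br (nat_lit 39) t35
t37))))))
(lf (nat_lit 71)))
(lf (nat_lit 49))))))))
(lf (nat_lit 66)))
(lf (nat_lit 73))))))))
(lf (nat_lit 62)))
(lf (nat_lit 72))))
(br (nat_lit 10) (lf (nat_lit 73))
(br (nat_lit 51) (lf (nat_lit 73))
(lf (nat_lit 73)))))

open Dt in
noncomputable def tT : Dt :=
(br (nat_lit 50) (br (nat_lit 72) (br (nat_lit 63) (br (nat_lit 73) (br (nat_lit 67) t38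
(br (nat_lit 40) (lf (nat_lit 66))
(br (nat_lit 51) (lf (nat_lit 66))
(lf (nat_lit 66)))))
(br (nat_lit 6) (lf (nat_lit 72))
(br (nat_lit 17) (lf (nat_lit 72))
(lf (nat_lit 72)))))
(br (nat_lit 17) (lf (nat_lit 62))
(br (nat_lit 6) (br (nat_lit 42) (lf (nat_lit 62))
(lf (nat_lit 62)))
(lf (nat_lit 72)))))
(br (nat_lit 52) (lf (nat_lit 71))
(br (nat_lit 71) (lf (nat_lit 71))
(lf (nat_lit 71)))))
(br (nat_lit 25) (lf (nat_lit 49))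
(br (nat_lit 71) (lf (nat_lit 49))
(lf (nat_lit 49)))))

theorem tree : dp (nat_lit 4) (nat_lit 5) (nat_lit 10) (nat_lit 0x7ffffffffffffffffff) (nat_lit 0, [nat_lit 12, nat_lit 34, nat_lit 21, nat_lit 40, nat_lit 70, nat_lit 41, nat_lit 39, nat_lit 3, nat_lit 39, nat_lit 22]) C2 S2 tT (nat_lit 0) (nat_lit 0) = true := by decide +kernel


end Cfsg.Agent.R3.Ru
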