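import Cfsg.Agent.R3.Ru.Nets

set_option autoImplicit false
set_option maxRecDepth 100000

namespace Cfsg.Agent.R3.Ru
open Cfsg.Agent.Comp Cfsg.Agent.Schur Cfsg.Agent.R3

def prog : List Ai :=
  [Ai.fx 0 [],
   Ai.fx 226 [24, 6, 3, 0],
   Ai.fx 662 [24, 17, 0],
   Ai.fx 564 [24, 6, 13, 14],
   Ai.ct [(14, [24, 6]), (25, [24, 3, 8, 12]), (33, [24, 2, 12, 13]), (37, [24, 10, 8, 1]), (43, [24, 16, 1]), (123, [24, 4, 11, 9]), (130, [24, 2, 7, 2]), (137, [24, 10, 10]), (145, [24, 12, 15, 3]), (151, [24, 6, 3, 1]), (171, [24, 2, 0, 8]), (191, [24, 10]), (269, [24, 2, 10, 14]), (279, [24, 5, 1, 4]), (282, [24, 2, 4, 17]), (293, [24, 7, 5, 15]), (295, [24, 17, 10, 15]), (303, [24, 1, 14, 2]), (304, [24, 0, 12, 3]), (324, [24, 13, 12]), (339, [24, 3, 7, 0]), (352, [24, 8, 12, 17]), (382, [24, 3, 14, 0]), (441, [24, 14, 5, 6]), (447, [24, 1, 13, 2]), (463, [24,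 2, 16, 16]), (507, [24, 4, 9, 12]), (509, [24, 4, 2]), (521, [24, 0, 15, 7]), (543, [24, 1, 14, 2, 13]), (548, [24, 1, 10, 5]), (596, [24, 11, 5, 17]), (604, [24, 1, 16, 17]), (630, [24, 3, 3, 1]), (636, [24, 6, 17, 9]), (641, [24, 8, 13, 11]), (644, [24, 5, 16, 11]), (678, [24, 13, 7, 14]), (683, [24, 17, 17]), (713, [24, 5, 6, 12]), (752, [24, 1, 17, 7]), (766, [24, 0, 14, 5, 11]), (780, [24, 3, 14]), (782, [24, 1, 16, 2]), (784, [24, 7, 15, 1]), (792, [24, 17, 1]), (818, [24, 2, 13]), (835, [24, 0, 5]), (846, [24, 8, 17, 12]), (873, [24, 0, 9, 1]), (879, [24, 1, 8, 24]), (909, [24, 7, 1, 16]), (910, [24, 0, 12, 17]), (916, [24, 0, 0, 14, 9]), (919, [24, 0, 9, 2, 15]), (931, [24, 1, 17, 17, 5]), (954, [24, 0, 3, 12, 5]), (958, [24, 8, 14]), (979, [24, 0, 0, 17, 6]), (1020, [24, 7, 6, 17]), (1023, [24, 12, 16]), (1028, [24, 5, 8]), (1043, [24, 1,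 14, 8]), (1056, [24, 0, 7, 5, 10]), (1084, [24, 8, 13, 17]), (1094, [24, 2, 16, 14]), (1144, [24, 11, 5, 2]), (1164, [24, 0, 4, 12]), (1176, [24, 2, 4]), (1184, [24, 1, 16, 7]), (1217, [24, 3, 11, 14]), (1247, [24, 3, 3, 15]), (1249, [24, 7, 11, 15]), (1253, [24, 0, 0, 6, 5]), (1264, [24, 0, 11, 15, 7]), (1274, [24, 2, 3, 24]), (1308, [24, 14, 14, 6]), (1310, [24, 7, 5, 10]), (1337, [24, 4, 17, 0]), (1338, [24, 13, 12, 17]), (1340, [24, 14, 2, 16]), (1353, [24, 8, 15]), (1361, [24, 7, 9, 14]), (1378, [24, 7, 1, 14]), (1391, [24, 0, 4, 17, 9]), (1405, [24, 0, 3, 15, 7]), (1416, [24, 5, 10, 5]), (1443, [24, 3, 0, 5]), (1445, [24, 10, 10, 17]), (1460, [24, 7, 14, 15]), (1474, [24, 16, 6, 15]), (1489, [24, 0, 5, 14, 10]), (1516, [24, 0, 7, 2, 16]), (1542, [24, 2, 8, 16]), (1545, [24, 1, 15, 5]), (1551, [24, 3, 5, 16]), (1562, [24, 0, 12, 17, 3]), (1572,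 [24, 7, 15]), (1587, [24, 0, 13, 1]), (1593, [24, 0, 15, 16]), (1599, [24, 5, 13]), (1600, [24, 5, 0, 12]), (1604, [24, 0, 10, 8]), (1627, [24, 9, 17, 9]), (1631, [24, 15, 16]), (1636, [24, 7, 14, 16]), (1639, [24, 0, 13, 17, 10]), (1640, [24, 4, 8, 15]), (1659, [24, 11, 5, 15]), (1680, [24, 4, 14, 3]), (1705, [24, 1, 6, 17, 16]), (1712, [24, 2, 16, 13]), (1718, [24, 0, 2, 14, 14]), (1732, [24, 10, 17, 1])],
   Ai.ct [(1791, [24, 5, 15, 24, 12])],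
   Ai.ct [(3713, [24, 3, 14, 24, 7])],
   Ai.ct [(3249, [24, 0, 10, 24, 2, 15])],
   Ai.ct [(3675, [24, 13, 3, 24])],
   Ai.ct [(2589, [24, 7, 24, 14, 11])],
   Ai.ct [(3310, [24, 0, 3, 24, 14, 10])],
   Ai.ct [(2288, [24, 0, 3, 24, 6, 5])],
   Ai.ct [(2611, [24, 4, 9, 24, 13])],
   Ai.ct [(2065, [24, 1, 9, 13, 24])],
   Ai.ct [(2045, [24, 1, 24, 16, 7])],
   Ai.ct [(1861, [24, 13, 5, 24, 11])],
   Ai.ct [(3373, [24, 15, 1, 24])],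
   Ai.ct [(3696, [24, 16, 24, 14])],
   Ai.ct [(3437, [24, 4, 5, 24, 10])],
   Ai.ct [(3658, [24, 0, 14, 17, 24])],
   Ai.ct [(3208, [24, 0, 13, 5, 24])],
   Ai.ct [(3882, [24, 0, 24, 14, 8])],
   Ai.ct [(3394, [24, 2, 6, 24, 16])],
   Ai.ct [(3405, [24, 2, 14, 24, 10])],
   Ai.ct [(3711, [24, 6, 9, 24, 2])]]

theorem aut : autB 4060 12 D0 R prog [] 2298336768000 = true := by decide +kernel


end Cfsg.Agent.R3.Ru
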